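import Cfsg.Agent.H4.QDFus4
import Cfsg.Agent.H4.WrFus4

set_option autoImplicit false
set_option linter.style.haveILetI false
set_option linter.unusedSectionVars false
set_option linter.unusedVariables false

/-! Dihedral groups: elements, automorphisms of odd order, fusion. -/

namespace Cfsg.Agent.H4

open Cfsg H14

/-- standard generators of a dihedral group of order `2m` -/
structure DR (S : Type*) [Group S] (m : ℕ) (x y : S) : Prop where
  hm : 2 ≤ m
  card : Nat.card S = 2 * m
  ox : orderOf x = m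
  yy : y * y = 1
  rel : y * x * y⁻¹ = x⁻¹
  ny : y ∉ Subgroup.zpowers x
  cov : ∀ g : S, (∃ k : ℤ, g = x ^ k) ∨ ∃ k : ℤ, g = x ^ k * y

theorem exists_DR {S : Type*} [Group S] {m : ℕ} (hm : 2 ≤ m) (e : S ≃* DihedralGroup m) : ∃ x y : S, DR S m x y := by
  haveI : NeZero m := ⟨by omega⟩
  have hz : ∀ k : ℤ, (DihedralGroup.r 1 : DihedralGroup m) ^ k = DihedralGroup.r (k : ZMod m) := by
    intro k
    rw [DihedralGroup.r_one_zpow]
  refine ⟨e.symm (DihedralGroup.r 1), e.symm (DihedralGroup.sr 0), hm, ?_, ?_, ?_, ?_, ?_, ?_⟩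
  · rw [Nat.card_congr e.toEquiv, DihedralGroup.nat_card]
  · rw [MulEquiv.orderOf_eq, DihedralGroup.orderOf_r_one]
  · rw [← map_mul, DihedralGroup.sr_mul_self, map_one]
  · rw [← map_inv, ← map_inv, ← map_mul, ← map_mul]
    congr 1
    rw [DihedralGroup.sr_mul_r, DihedralGroup.inv_sr, DihedralGroup.sr_mul_sr, DihedralGroup.inv_r]
    congr 1; ring
  · rintro ⟨k, hk⟩
    have h1 : e.symm ((DihedralGroup.r 1) ^ k) = e.symm (DihedralGroup.sr 0) := by rw [map_zpow]; exact hk
    have h2 := e.symm.injective h1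
    rw [hz] at h2
    exact absurd h2 (by simp)
  · intro g
    rcases h : e g with i | i
    · left
      obtain ⟨k, rfl⟩ := ZMod.intCast_surjective i
      refine ⟨k, ?_⟩
      rw [← map_zpow, hz, ← h, MulEquiv.symm_apply_apply]
    · right
      obtain ⟨k, rfl⟩ := ZMod.intCast_surjective i
      refine ⟨-k, ?_⟩
      rw [← map_zpow, hz, ← map_mul, DihedralGroup.r_mul_sr]
      have : (0 : ZMod m) - ((-k : ℤ) : ZMod m) = (k : ZMod m) := by push_cast; ring
      rw [this, ← h, MulEquiv.symm_apply_apply]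

namespace DR

variable {S : Type*} [Group S] {m : ℕ} {x y : S}

theorem yi (h : DR S m x y) : y⁻¹ = y := inv_eq_self_of_mul_self h.yy

theorem y_mul (h : DR S m x y) (k : ℤ) : y * x ^ k = x ^ (-k) * y := by
  have h1 := conj_zpow_inv h.rel k
  rw [mul_inv_eq_iff_eq_mul] at h1
  rw [h1, zpow_neg]

theorem zpow_mul_refl (h : DR S m x y) (j k : ℤ) : x ^ j * (x ^ k * y) = x ^ (j + k) * y := by
  rw [← mul_assoc, ← zpow_add]

theorem refl_mul_zpow (h : DR S m x y) (k l : ℤ) : x ^ k * y * x ^ l = x ^ (k - l) * y := by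
  rw [mul_assoc, h.y_mul, ← mul_assoc, ← zpow_add, sub_eq_add_neg]

theorem refl_mul_refl (h : DR S m x y) (k l : ℤ) : x ^ k * y * (x ^ l * y) = x ^ (k - l) := by
  rw [← mul_assoc, h.refl_mul_zpow, mul_assoc, h.yy, mul_one]

theorem refl_sq (h : DR S m x y) (k : ℤ) : x ^ k * y * (x ^ k * y) = 1 := by
  rw [h.refl_mul_refl, sub_self, zpow_zero]

theorem refl_inv (h : DR S m x y) (k : ℤ) : (x ^ k * y)⁻¹ = x ^ k * y := inv_eq_self_of_mul_self (h.refl_sq k)

theorem zpow_eq_one_iff (h : DR S m x y) {k : ℤ} : x ^ k = 1 ↔ (m : ℤ) ∣ k := by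
  rw [← orderOf_dvd_iff_zpow_eq_one, h.ox]

theorem zpow_eq (h : DR S m x y) {a b : ℤ} : x ^ a = x ^ b ↔ (m : ℤ) ∣ a - b := by
  rw [← h.zpow_eq_one_iff, zpow_sub, mul_inv_eq_one]

theorem refl_eq (h : DR S m x y) {a b : ℤ} : x ^ a * y = x ^ b * y ↔ (m : ℤ) ∣ a - b := by
  rw [mul_left_inj, h.zpow_eq]

theorem refl_notMem (h : DR S m x y) (k : ℤ) : x ^ k * y ∉ Subgroup.zpowers x := fun h1 =>
  h.ny (((Subgroup.zpowers x).mul_mem_cancel_left (Subgroup.zpow_mem_zpowers x k)).1 h1)

theorem zpow_ne_refl (h : DR S m x y) (k l : ℤ) : x ^ k ≠ x ^ l * y := fun h1 =>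
  h.refl_notMem l (h1 ▸ Subgroup.zpow_mem_zpowers x k)

theorem refl_ne_one (h : DR S m x y) (k : ℤ) : x ^ k * y ≠ 1 := fun h1 => h.refl_notMem k (h1 ▸ one_mem _)

theorem finite (h : DR S m x y) : Finite S := by
  apply Nat.finite_of_card_ne_zero
  rw [h.card]; have := h.hm; omega

/-- subgroups of a dihedral 2-group with an automorphism of odd order are four-groups -/
theorem odd_aut (h : DR S m x y) (hS : IsPGroup 2 S) {X : Subgroup S} {β : MulAut X} {n : ℕ} (hn : Odd n)
    (hβ : β ^ n = 1) (hβ1 : β ≠ 1) : IsKleinFour X := by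
  haveI := h.finite
  have hord : ∀ g : S, ∃ j : ℕ, g ^ 2 ^ j = 1 := fun g => hS g
  have hzc : ∀ a ∈ Subgroup.zpowers x, ∀ b ∈ Subgroup.zpowers x, a * b = b * a := fun a ha b hb => comm_zpowers ha hb
  -- the rotations of order two are equal
  have huniq : ∀ a ∈ Subgroup.zpowers x, ∀ b ∈ Subgroup.zpowers x, a * a = 1 → b * b = 1 → a ≠ 1 → b ≠ 1 → a = b := by
    rintro _ ⟨a, rfl⟩ _ ⟨b, rfl⟩ haa hbb ha1 hb1
    change x ^ a * x ^ a = 1 at haa
    change x ^ b * x ^ b = 1 at hbb
    change x ^ a ≠ 1 at ha1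
    change x ^ b ≠ 1 at hb1
    show x ^ a = x ^ b
    rw [← zpow_add, h.zpow_eq_one_iff] at haa hbb
    rw [Ne, h.zpow_eq_one_iff] at ha1 hb1
    rw [h.zpow_eq]
    obtain ⟨u, hu⟩ := haa
    obtain ⟨v, hv⟩ := hbb
    rcases Int.even_or_odd' u with ⟨u', hu' | hu'⟩
    · exfalso; apply ha1; refine ⟨u', ?_⟩
      rw [hu'] at hu
      have : 2 * (a - m * u') = 0 := by linear_combination hu
      omega
    · rcases Int.even_or_odd' v with ⟨v', hv' | hv'⟩
      · exfalso; apply hb1; refine ⟨v', ?_⟩
        rw [hv'] at hv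
        have : 2 * (b - m * v') = 0 := by linear_combination hv
        omega
      · refine ⟨u' - v', ?_⟩
        rw [hu'] at hu
        rw [hv'] at hv
        have : 2 * (a - b - m * (u' - v')) = 0 := by linear_combination hu - hv
        omega
  by_cases hA : ∃ a : X, (a : S) ∈ Subgroup.zpowers x ∧ a * a ≠ 1
  · exfalso
    obtain ⟨a0, ha0, ha02⟩ := hA
    have hR : ∀ a : X, a * a ≠ 1 → (a : S) ∈ Subgroup.zpowers x := by
      intro a ha
      rcases h.cov a with ⟨k, hk⟩ | ⟨k, hk⟩
      · exact ⟨k, hk.symm⟩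
      · exfalso; apply ha; apply Subtype.ext
        show (a : S) * a = 1
        rw [hk]; exact h.refl_sq k
    have hβR1 : ∀ a : X, a * a ≠ 1 → (β a : S) ∈ Subgroup.zpowers x := by
      intro a ha
      apply hR
      rw [← map_mul]
      intro h1
      exact ha (β.injective (by rw [h1, map_one]))
    have hβR : ∀ a : X, (a : S) ∈ Subgroup.zpowers x → (β a : S) ∈ Subgroup.zpowers x := by
      intro a ha
      by_cases haa : a * a = 1
      · have hc : a * a0 = a0 * a := Subtype.ext (hzc _ ha _ ha0)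
        have h1 : (a * a0) * (a * a0) ≠ 1 := by
          have : (a * a0) * (a * a0) = a * (a0 * a) * a0 := by group
          rw [this, ← hc]
          have : a * (a * a0) * a0 = (a * a) * (a0 * a0) := by group
          rw [this, haa, one_mul]; exact ha02
        have h2 := hβR1 _ h1
        have h3 := hβR1 _ ha02
        rw [map_mul] at h2
        exact ((Subgroup.zpowers x).mul_mem_cancel_right h3).1 h2
      · exact hβR1 a haa
    have hfix : ∀ a : X, (a : S) ∈ Subgroup.zpowers x → β a = a := by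
      intro a ha
      have hX2 : IsPGroup 2 ((Subgroup.zpowers x).subgroupOf X) := (hS.to_subgroup X).to_subgroup _
      refine fix_abelian (A := (Subgroup.zpowers x).subgroupOf X) hn hβ hX2
        (fun a ha b hb => Subtype.ext (hzc _ ha _ hb)) (fun a ha => hβR a ha) ?_ a ha
      intro a ha haa
      by_cases ha1 : a = 1
      · rw [ha1, map_one]
      · apply Subtype.ext
        apply huniq _ (hβR a ha) _ ha
        · have : β a * β a = 1 := by rw [← map_mul, haa, map_one]
          exact congrArg Subtype.val this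
        · exact congrArg Subtype.val haa
        · intro h1
          apply ha1
          apply β.injective
          rw [map_one]; exact Subtype.ext h1
        · intro h1; exact ha1 (Subtype.ext h1)
    apply hβ1
    ext a
    show (β a : S) = a
    congr 1
    by_cases ha : (a : S) ∈ Subgroup.zpowers x
    · exact hfix a ha
    · have hβa : (β a : S) ∉ Subgroup.zpowers x := by
        intro h1
        have h2 : β (β a) = β a := hfix _ h1
        have h3 : β a = a := β.injective h2
        rw [h3] at h1; exact ha h1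
      have hn' : ((a⁻¹ * β a : X) : S) ∈ Subgroup.zpowers x := by
        rcases h.cov a with ⟨k, hk⟩ | ⟨k, hk⟩
        · exact absurd ⟨k, hk.symm⟩ ha
        · rcases h.cov (β a) with ⟨l, hl⟩ | ⟨l, hl⟩
          · exact absurd ⟨l, hl.symm⟩ hβa
          · show (a : S)⁻¹ * (β a : S) ∈ _
            rw [hk, hl, h.refl_inv, h.refl_mul_refl]
            exact Subgroup.zpow_mem_zpowers _ _
      obtain ⟨j, hj⟩ := hord ((a⁻¹ * β a : X) : S)
      exact fix_of_mul hn hβ (n := a⁻¹ * β a) (j := j) (Subtype.ext (by simpa using hj)) (hfix _ hn') (by group)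
  · push Not at hA
    -- X is elementary abelian of order at most four
    have hX2 : ∀ a : X, a * a = 1 := by
      intro a
      by_cases ha : (a : S) ∈ Subgroup.zpowers x
      · exact hA a ha
      · rcases h.cov a with ⟨k, hk⟩ | ⟨k, hk⟩
        · exact absurd ⟨k, hk.symm⟩ ha
        · apply Subtype.ext
          show (a : S) * a = 1
          rw [hk]; exact h.refl_sq k
    have hXc : ∀ a b : X, a * b = b * a := by
      intro a b
      have h1 := hX2 (a * b)
      have h2 : a * b = (a * b)⁻¹ := eq_inv_of_mul_eq_one_left h1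
      rw [h2, mul_inv_rev, inv_eq_self_of_mul_self (hX2 a), inv_eq_self_of_mul_self (hX2 b)]
    obtain ⟨a, ha⟩ : ∃ a, β a ≠ a := by
      by_contra hcon
      push Not at hcon
      exact hβ1 (MulEquiv.ext hcon)
    have ha1 : a ≠ 1 := by rintro rfl; exact ha (map_one β)
    have hβa1 : β a ≠ 1 := by
      intro h1
      exact ha1 (β.injective (by rw [h1, map_one]))
    have hk := kleinSub_isKleinFour (congrArg Subtype.val (hX2 a)) (congrArg Subtype.val (hX2 (β a)))
      (congrArg Subtype.val (hXc a (β a))) (fun h => ha1 (Subtype.ext h)) (fun h => hβa1 (Subtype.ext h))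
      (fun h => ha (Subtype.ext h).symm)
    have hXR : ∀ w : X, (w : S) ∈ Subgroup.zpowers x → w = 1 ∨ ∀ w' : X, (w' : S) ∈ Subgroup.zpowers x → w' = 1 ∨ w' = w := by
      intro w hw
      by_cases hw1 : w = 1
      · exact Or.inl hw1
      · right
        intro w' hw'
        by_cases hw'1 : w' = 1
        · exact Or.inl hw'1
        · right
          apply Subtype.ext
          exact huniq _ hw' _ hw (congrArg Subtype.val (hX2 w')) (congrArg Subtype.val (hX2 w))
            (fun h => hw'1 (Subtype.ext h)) (fun h => hw1 (Subtype.ext h))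
    have hmulR : ∀ u v : X, (u : S) ∉ Subgroup.zpowers x → (v : S) ∉ Subgroup.zpowers x → ((u * v : X) : S) ∈ Subgroup.zpowers x := by
      intro u v hu hv
      rcases h.cov u with ⟨k, hk⟩ | ⟨k, hk⟩
      · exact absurd ⟨k, hk.symm⟩ hu
      · rcases h.cov v with ⟨l, hl⟩ | ⟨l, hl⟩
        · exact absurd ⟨l, hl.symm⟩ hv
        · show (u : S) * (v : S) ∈ _
          rw [hk, hl, h.refl_mul_refl]
          exact Subgroup.zpow_mem_zpowers _ _
    -- X is contained in the four-group
    have hle : X ≤ kleinSub (congrArg Subtype.val (hX2 a)) (congrArg Subtype.val (hX2 (β a)))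
        (congrArg Subtype.val (hXc a (β a))) := by
      -- some w in R, some t not in R among a, βa, a βa
      have hindex : ∀ w : X, w = 1 ∨ w = a ∨ w = β a ∨ w = a * β a := by
        have hab1 : a * β a ≠ 1 := by
          intro h1
          apply ha
          rw [← inv_eq_of_mul_eq_one_right h1, inv_eq_self_of_mul_self (hX2 a)]
        have hRne : ∃ r t : X, (r : S) ∈ Subgroup.zpowers x ∧ r ≠ 1 ∧ (t : S) ∉ Subgroup.zpowers x ∧
            ∀ w : X, (w = 1 ∨ w = r ∨ w = t ∨ w = r * t) → (w = 1 ∨ w = a ∨ w = β a ∨ w = a * β a) := by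
          by_cases h1 : (a : S) ∈ Subgroup.zpowers x
          · refine ⟨a, β a, h1, ha1, ?_, fun w hw => hw⟩
            intro h2
            rcases (hXR a h1).resolve_left ha1 (β a) h2 with h3 | h3
            · exact hβa1 h3
            · exact ha h3
          · by_cases h2 : (β a : S) ∈ Subgroup.zpowers x
            · refine ⟨β a, a, h2, hβa1, h1, fun w hw => ?_⟩
              rw [hXc (β a) a] at hw; tauto
            · refine ⟨a * β a, a, hmulR _ _ h1 h2, hab1, h1, fun w hw => ?_⟩
              have e1 : a * β a * a = β a := by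
                rw [hXc a (β a), mul_assoc, hX2, mul_one]
              rw [e1] at hw; tauto
        obtain ⟨r, t, hr, hr1, ht, hrt⟩ := hRne
        intro w
        apply hrt
        by_cases hw : (w : S) ∈ Subgroup.zpowers x
        · rcases (hXR r hr).resolve_left hr1 w hw with h3 | h3
          · exact Or.inl h3
          · exact Or.inr (Or.inl h3)
        · rcases (hXR r hr).resolve_left hr1 (w * t) (hmulR _ _ hw ht) with h3 | h3
          · right; right; left
            have h4 := eq_inv_of_mul_eq_one_left h3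
            rw [h4]; exact inv_eq_self_of_mul_self (hX2 t)
          · right; right; right
            rw [← h3, mul_assoc, hX2, mul_one]
      intro w hw
      rcases hindex ⟨w, hw⟩ with h1 | h1 | h1 | h1
      · exact Or.inl (congrArg Subtype.val h1)
      · exact Or.inr (Or.inl (congrArg Subtype.val h1))
      · exact Or.inr (Or.inr (Or.inl (congrArg Subtype.val h1)))
      · exact Or.inr (Or.inr (Or.inr (congrArg Subtype.val h1)))
    have hge : kleinSub (congrArg Subtype.val (hX2 a)) (congrArg Subtype.val (hX2 (β a)))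
        (congrArg Subtype.val (hXc a (β a))) ≤ X := by
      intro w hw
      rcases (mem_kleinSub _ _ _).1 hw with rfl | rfl | rfl | rfl
      · exact one_mem _
      · exact a.2
      · exact (β a).2
      · exact mul_mem a.2 (β a).2
    rw [le_antisymm hle hge]
    exact hk

end DR

section
variable {G : Type*} [Group G] [Finite G] {P : Sylow 2 G} {m : ℕ} {x y : (P : Subgroup G)}

theorem isKleinFour_map {P : Subgroup G} {X : Subgroup P} (h : IsKleinFour X) : IsKleinFour (X.map P.subtype) := by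
  have e1 := X.equivMapOfInjective _ P.subtype_injective
  exact ⟨by rw [← Nat.card_congr e1.toEquiv]; exact h.card_four,
    by rw [← Monoid.exponent_eq_of_mulEquiv e1]; exact h.exponent_two⟩

/-- fusion in a group with dihedral Sylow 2-subgroups is controlled by the normalizers of four-groups -/
theorem DR.fusion (h : DR (P : Subgroup G) m x y)
    (r : G → G → Prop) (hrefl : ∀ a, r a a) (htrans : ∀ a b c, r a b → r b c → r a c)
    (hS : ∀ s ∈ (P : Subgroup G), ∀ a ∈ (P : Subgroup G), r a (s * a * s⁻¹))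
    (hrU : ∀ U : Subgroup G, U ≤ (P : Subgroup G) → IsKleinFour U →
      ∀ n ∈ Subgroup.normalizer (U : Set G), ∀ a ∈ U, r a (n * a * n⁻¹))
    {a g : G} (ha : a ∈ (P : Subgroup G)) (hg : g * a * g⁻¹ ∈ (P : Subgroup G)) : r a (g * a * g⁻¹) := by
  haveI : Fact (Nat.Prime 2) := ⟨Nat.prime_two⟩
  refine fusion_rel P r hrefl htrans hS ?_ ha hg
  intro X hX hXc _ hk n hn a ha
  have h1 := not_isPGroup_mulAut hk
  have h2 : ¬ IsPGroup 2 (MulAut (X.subgroupOf (P : Subgroup G))) := fun h2 =>
    h1 (isPGroup_mulAut_congr (Subgroup.subgroupOfEquivOfLe hX) h2)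
  obtain ⟨β, k, hk, hβ, hβ1⟩ := exists_odd_aut h2
  have h3 := h.odd_aut P.isPGroup' hk hβ hβ1
  have h4 := isKleinFour_map h3
  rw [Subgroup.subgroupOf_map_subtype, inf_of_le_left hX] at h4
  exact hrU X hX h4 n hn a ha

/-- an induction for fusion of subgroups -/
theorem DR.fusion_klein (h : DR (P : Subgroup G) m x y) {U : Subgroup G} (hU : IsKleinFour U) (hUP : U ≤ (P : Subgroup G))
    {g : G} (hg : cj g U ≤ (P : Subgroup G)) : ∃ s ∈ (P : Subgroup G), cj g U = cj s U := by
  haveI : Fact (Nat.Prime 2) := ⟨Nat.prime_two⟩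
  refine H14.fusion_induction P {U : Subgroup G | U ≤ (P : Subgroup G) ∧ H14.FN 2 (P : Subgroup G) U}
    (fun U hU => hU) (H14.chain_fn P)
    (fun A x => ∀ B : Subgroup G, B ≤ A → IsKleinFour B → ∃ s ∈ (P : Subgroup G), cj x B = cj s B) ?_ ?_ ?_ ?_ ?_ U g hUP hg
    U le_rfl hU
  · intro A _ B _ _
    exact ⟨1, one_mem _, rfl⟩
  · intro A x y _ _ h1 h2 B hB hBk
    obtain ⟨s, hs, hs1⟩ := h1 B hB hBk
    obtain ⟨s', hs', hs2⟩ := h2 (cj x B) (cj_mono hB) (isKleinFour_cj hBk x)
    refine ⟨s' * s, mul_mem hs' hs, ?_⟩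
    rw [← cj_cj, hs2, hs1, cj_cj]
  · intro A B x hB _ h C hC hCk
    exact h C (hC.trans hB) hCk
  · intro A x c _ hc h B hB hBk
    obtain ⟨s, hs, hs1⟩ := h B hB hBk
    refine ⟨s, hs, ?_⟩
    rw [← cj_cj, ← hs1]
    apply cj_eq_of_mem_centralizer
    exact Subgroup.centralizer_le (cj_mono hB) hc
  · rintro X ⟨hX, hFN⟩ hC n hn B hB hBk
    by_cases hk : ∀ k : ℕ, ¬ (Subgroup.centralizer (X : Set G)).relIndex (Subgroup.normalizer (X : Set G)) ∣ 2 ^ k
    · have h1 := not_isPGroup_mulAut hk
      have h2 : ¬ IsPGroup 2 (MulAut (X.subgroupOf (P : Subgroup G))) := fun h2 =>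
        h1 (isPGroup_mulAut_congr (Subgroup.subgroupOfEquivOfLe hX) h2)
      obtain ⟨β, k, hk, hβ, hβ1⟩ := exists_odd_aut h2
      have h3 := h.odd_aut P.isPGroup' hk hβ hβ1
      have h4 := isKleinFour_map h3
      rw [Subgroup.subgroupOf_map_subtype, inf_of_le_left hX] at h4
      have h5 : B = X := klein_eq_of_le hBk h4 hB
      refine ⟨1, one_mem _, ?_⟩
      rw [h5, cj_one]
      exact (mem_normalizer_cj).1 hn
    · push Not at hk
      obtain ⟨k, hk⟩ := hk
      obtain ⟨s, hs, c, hc, rfl⟩ := exists_factor_of_fn hFN hk hn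
      refine ⟨s, hs.1, ?_⟩
      rw [← cj_cj]
      congr 1
      apply cj_eq_of_mem_centralizer
      exact Subgroup.centralizer_le hB hc

end

end Cfsg.Agent.H4
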