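import Cfsg.Agent.H4.SEmb
import Cfsg.Agent.H4.KleinSylow
import Mathlib.GroupTheory.Complement
import Mathlib.GroupTheory.FixedPointFree

set_option autoImplicit false
set_option linter.style.haveILetI false

/-! Groups in which the centralizer of every involution is an elementary abelian 2-group. -/

namespace Cfsg.Agent.H4

open Cfsg

section
variable {G : Type*} [Group G]

/-- the standing hypotheses of S1226 – S1230 -/
structure EC (T : Sylow 2 G) : Prop where
  nc : ¬ IsCyclic (T : Subgroup G)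
  nn : ¬ (T : Subgroup G).Normal
  cent : ∀ t : G, orderOf t = 2 → IsMulCommutative (Subgroup.centralizer ({t} : Set G)) ∧
    ∀ c ∈ Subgroup.centralizer ({t} : Set G), c ^ 2 = 1

variable [Finite G] {T : Sylow 2 G}

theorem ec_card_ge (h : EC T) : 4 ≤ Nat.card T := by
  obtain ⟨n, hn⟩ := (IsPGroup.iff_card).1 T.2
  have hn' : Nat.card T = 2 ^ n := hn
  rcases n with _ | _ | n
  · exfalso; apply h.nc
    have : Nat.card (T : Subgroup G) = 1 := by rw [hn]; rfl
    haveI : Subsingleton (T : Subgroup G) := (Nat.card_eq_one_iff_unique.1 this).1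
    exact isCyclic_of_subsingleton
  · exfalso; apply h.nc
    haveI : Fact (Nat.Prime 2) := ⟨Nat.prime_two⟩
    have : Nat.card (T : Subgroup G) = 2 := by rw [hn]; rfl
    exact isCyclic_of_prime_card this
  · rw [hn', pow_succ, pow_succ]
    have : 1 ≤ 2 ^ n := Nat.one_le_two_pow
    omega

theorem ec_elem (h : EC T) : (∀ a ∈ T, ∀ b ∈ T, a * b = b * a) ∧ ∀ a ∈ T, a * a = 1 := by
  haveI : Fact (Nat.Prime 2) := ⟨Nat.prime_two⟩
  have hge := ec_card_ge h
  haveI : Nontrivial (T : Subgroup G) := by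
    apply Finite.one_lt_card_iff_nontrivial.1
    have : Nat.card (T : Subgroup G) = Nat.card T := rfl
    omega
  have hnt : Nontrivial (Subgroup.center (T : Subgroup G)) := T.2.center_nontrivial
  -- central involution
  have hp : IsPGroup 2 (Subgroup.center (T : Subgroup G)) := T.2.to_subgroup _
  have hd : 2 ∣ Nat.card (Subgroup.center (T : Subgroup G)) := by
    obtain ⟨n, hn⟩ := (IsPGroup.iff_card).1 hp
    rw [hn]
    rcases n with _ | n
    · have := Finite.one_lt_card_iff_nontrivial.2 hnt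
      rw [hn] at this; simp at this
    · exact dvd_pow_self 2 (Nat.succ_ne_zero n)
  obtain ⟨z, hz⟩ := exists_prime_orderOf_dvd_card' (G := Subgroup.center (T : Subgroup G)) 2 hd
  have hzo : orderOf ((z : (T : Subgroup G)) : G) = 2 := by rw [Subgroup.orderOf_coe, Subgroup.orderOf_coe, hz]
  have hle : ∀ a ∈ T, a ∈ Subgroup.centralizer ({((z : (T : Subgroup G)) : G)} : Set G) := by
    intro a ha
    rw [Subgroup.mem_centralizer_singleton_iff]
    have := Subgroup.mem_center_iff.1 z.2 ⟨a, ha⟩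
    exact congrArg Subtype.val this
  obtain ⟨h1, h2⟩ := h.cent _ hzo
  refine ⟨fun a ha b hb => ?_, fun a ha => by rw [← pow_two]; exact h2 a (hle a ha)⟩
  have := h1.is_comm.comm ⟨a, hle a ha⟩ ⟨b, hle b hb⟩
  exact congrArg Subtype.val this

theorem ec_orderOf (h : EC T) {t : G} (ht : t ∈ T) (h1 : t ≠ 1) : orderOf t = 2 :=
  orderOf_two_of ((ec_elem h).2 t ht) h1

/-- the centralizer of an involution is a 2-group -/
theorem ec_odd (h : EC T) {t d : G} (ht : orderOf t = 2) (hd : Commute d t) (ho : Odd (orderOf d)) : d = 1 := by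
  have := (h.cent t ht).2 d (Subgroup.mem_centralizer_singleton_iff.2 hd)
  exact isPGroup_odd_eq_one (k := 1) (by rw [pow_one]; exact this) ho

theorem ec_centralizer (h : EC T) {t : G} (ht : t ∈ T) (h1 : t ≠ 1) {c : G} (hc : Commute c t) : c ∈ T := by
  haveI : Fact (Nat.Prime 2) := ⟨Nat.prime_two⟩
  have ho := ec_orderOf h ht h1
  have hcom := (h.cent t ho).1
  -- `c` commutes with all of `T`
  have hcT : ∀ a ∈ T, c * a = a * c := by
    intro a ha
    have := hcom.is_comm.comm ⟨c, Subgroup.mem_centralizer_singleton_iff.2 hc⟩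
      ⟨a, Subgroup.mem_centralizer_singleton_iff.2 ((ec_elem h).1 a ha t ht)⟩
    exact congrArg Subtype.val this
  apply mem_sylow_of_normalizes T (k := 1)
  · have := (h.cent t ho).2 c (Subgroup.mem_centralizer_singleton_iff.2 hc)
    rw [pow_one]; exact this
  · rw [Subgroup.mem_normalizer_iff]
    intro a
    constructor
    · intro ha
      have := hcT a ha
      have e : c * a * c⁻¹ = a := by rw [this]; group
      rw [e]; exact ha
    · intro ha
      have := hcT _ ha
      have e : c * a * c⁻¹ = a := by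
        have h2 : c * (c * a * c⁻¹) = (c * a * c⁻¹) * c := this
        have h3 : c * (c * a * c⁻¹) = c * a := by rw [h2]; group
        exact mul_left_cancel h3
      rw [e] at ha; exact ha

theorem ec_ti (h : EC T) {t g : G} (ht : t ∈ T) (h1 : t ≠ 1) (hg : g * t * g⁻¹ ∈ T) :
    g ∈ Subgroup.normalizer ((T : Subgroup G) : Set G) := by
  -- g T g⁻¹ ≤ T
  have hle : ∀ a ∈ T, g * a * g⁻¹ ∈ T := by
    intro a ha
    have hne : g * t * g⁻¹ ≠ 1 := by
      intro h2; apply h1
      calc t = g⁻¹ * (g * t * g⁻¹) * g := by group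
        _ = 1 := by rw [h2]; group
    apply ec_centralizer h hg hne
    have hc : a * t = t * a := (ec_elem h).1 a ha t ht
    show g * a * g⁻¹ * (g * t * g⁻¹) = g * t * g⁻¹ * (g * a * g⁻¹)
    calc g * a * g⁻¹ * (g * t * g⁻¹) = g * (a * t) * g⁻¹ := by group
      _ = g * t * g⁻¹ * (g * a * g⁻¹) := by rw [hc]; group
  rw [← map_conj_eq_iff_mem_normalizer]
  apply Subgroup.eq_of_le_of_card_ge
  · rintro _ ⟨a, ha, rfl⟩
    exact hle a ha
  · apply le_of_eq
    exact (Subgroup.card_map_of_injective (MulAut.conj g).injective).symm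

theorem ec_inv_mem (h : EC T) {t : G} (ht : orderOf t = 2)
    (htN : t ∈ Subgroup.normalizer ((T : Subgroup G) : Set G)) : t ∈ T := by
  haveI : Fact (Nat.Prime 2) := ⟨Nat.prime_two⟩
  have _ := h
  exact mem_sylow_of_normalizes T (k := 1) (by rw [pow_one, pow_two]; exact mul_self_of_orderOf_two ht) htN

theorem ec_strong (h : EC T) : IsStronglyEmbedded (Subgroup.normalizer ((T : Subgroup G) : Set G)) := by
  haveI : Fact (Nat.Prime 2) := ⟨Nat.prime_two⟩
  have hge := ec_card_ge h
  refine ⟨fun htop => h.nn (Subgroup.normalizer_eq_top_iff.1 htop), ?_, ?_⟩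
  · have hd : Nat.card (T : Subgroup G) ∣ Nat.card (Subgroup.normalizer ((T : Subgroup G) : Set G)) :=
      Subgroup.card_dvd_of_le Subgroup.le_normalizer
    obtain ⟨n, hn⟩ := (IsPGroup.iff_card).1 T.2
    rw [hn] at hd
    rcases n with _ | n
    · have : Nat.card T = 1 := by
        have : Nat.card T = 2 ^ 0 := hn
        rw [this]; rfl
      omega
    · exact even_iff_two_dvd.2 ((dvd_pow_self 2 (Nat.succ_ne_zero n)).trans hd)
  · intro g hg
    by_contra hodd
    obtain ⟨s, hs, hs2⟩ := exists_involution hodd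
    obtain ⟨hsH, hsg⟩ := Subgroup.mem_inf.1 hs
    rw [mem_map_conj] at hsg
    have h1 : s ∈ T := ec_inv_mem h hs2 hsH
    have h2 : g⁻¹ * s * g ∈ T := by
      apply ec_inv_mem h _ hsg
      have := orderOf_conj s g⁻¹
      rw [inv_inv] at this
      rw [this, hs2]
    have h3 : g⁻¹ ∈ Subgroup.normalizer ((T : Subgroup G) : Set G) := by
      apply ec_ti h h1 (ne_one_of_orderOf_two hs2)
      rw [inv_inv]; exact h2
    exact hg (by simpa using inv_mem h3)

theorem ec_card_inv (h : EC T) :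
    Nat.card {t : G // orderOf t = 2 ∧ t ∈ Subgroup.normalizer ((T : Subgroup G) : Set G)} = Nat.card T - 1 := by
  classical
  haveI := Fintype.ofFinite G
  have h1 : Nat.card {t : G // orderOf t = 2 ∧ t ∈ Subgroup.normalizer ((T : Subgroup G) : Set G)} =
      (((Finset.univ.filter (fun t : G => t ∈ T))).erase 1).card := by
    rw [Nat.card_eq_fintype_card, Fintype.card_subtype]
    congr 1
    ext t
    simp only [Finset.mem_filter, Finset.mem_univ, true_and, Finset.mem_erase]
    constructor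
    · rintro ⟨h1, h2⟩
      exact ⟨ne_one_of_orderOf_two h1, ec_inv_mem h h1 h2⟩
    · rintro ⟨h1, h2⟩
      exact ⟨ec_orderOf h h2 h1, Subgroup.le_normalizer h2⟩
  rw [h1, Finset.card_erase_of_mem (by simp [one_mem])]
  congr 1
  have : Nat.card T = Nat.card {t : G // t ∈ T} := rfl
  rw [this, Nat.card_eq_fintype_card, Fintype.card_subtype]

end

section
variable {G : Type*} [Group G] {X : Type*} [MulAction G X]

/-- two-point stabilizer -/
def twoPt (G : Type*) [Group G] {X : Type*} [MulAction G X] (x y : X) : Subgroup G :=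
  MulAction.stabilizer G x ⊓ MulAction.stabilizer G y

theorem mem_twoPt {x y : X} {d : G} : d ∈ twoPt G x y ↔ d • x = x ∧ d • y = y := by
  rw [twoPt, Subgroup.mem_inf, MulAction.mem_stabilizer_iff, MulAction.mem_stabilizer_iff]

end

section
variable {G : Type*} [Group G] [Finite G] {T : Sylow 2 G}

local notation "X" => (G ⧸ Subgroup.normalizer ((T : Subgroup G) : Set G))

theorem twoPt_odd {H : Subgroup G} (hH : IsStronglyEmbedded H) {x y : G ⧸ H} (hxy : x ≠ y) :
    Odd (Nat.card (twoPt G x y)) := by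
  by_contra hodd
  obtain ⟨s, hs, hs2⟩ := exists_involution hodd
  rw [mem_twoPt] at hs
  exact hxy (semb_fix_unique hH hs2 hs.1 hs.2)

theorem odd_orderOf_of_mem {K : Subgroup G} (hK : Odd (Nat.card K)) {x : G} (hx : x ∈ K) : Odd (orderOf x) := by
  have h1 : orderOf x ∣ Nat.card K := by
    have := orderOf_dvd_natCard (⟨x, hx⟩ : K)
    rwa [Subgroup.orderOf_mk] at this
  exact hK.of_dvd_nat h1

theorem ec_swap_exists (h : EC T) {x y : X} (hxy : x ≠ y) : ∃ u : G, orderOf u = 2 ∧ u • x = y ∧ u • y = x := by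
  have _ := hxy
  have h1 := semb_card_swap (ec_strong h) x y
  rw [ec_card_inv h] at h1
  have hge := ec_card_ge h
  have : 0 < Nat.card {i : G // orderOf i = 2 ∧ i • x = y} := by omega
  obtain ⟨⟨i, hi1, hi2⟩⟩ := (Nat.card_pos_iff.1 this).1
  exact ⟨i, hi1, hi2, by rw [← hi2, ← mul_smul, mul_self_of_orderOf_two hi1, one_smul]⟩

theorem ec_card_twoPt (h : EC T) {x y : X} (hxy : x ≠ y) : Nat.card (twoPt G x y) = Nat.card T - 1 := by
  have hS := ec_strong h
  obtain ⟨u, hu, hux, huy⟩ := ec_swap_exists h hxy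
  rw [← ec_card_inv h, ← card_inv_fix x]
  -- an involution fixing x
  have hpos : 0 < Nat.card {t : G // orderOf t = 2 ∧ t • x = x} := by
    rw [card_inv_fix x, ec_card_inv h]
    have := ec_card_ge h
    omega
  obtain ⟨⟨t, ht, htx⟩⟩ := (Nat.card_pos_iff.1 hpos).1
  apply Nat.card_congr
  refine Equiv.ofBijective (fun d => ⟨d.1 * t * d.1⁻¹, by rw [orderOf_conj, ht], ?_⟩) ⟨?_, ?_⟩
  · have h1 := (mem_twoPt.1 d.2).1
    have h2 : d.1⁻¹ • x = x := by rw [inv_smul_eq_iff, h1]
    rw [mul_smul, mul_smul, h2, htx, h1]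
  · intro d e hde
    have hde' : d.1 * t * d.1⁻¹ = e.1 * t * e.1⁻¹ := congrArg Subtype.val hde
    have hc : Commute (e.1⁻¹ * d.1) t := by
      show e.1⁻¹ * d.1 * t = t * (e.1⁻¹ * d.1)
      calc e.1⁻¹ * d.1 * t = e.1⁻¹ * (d.1 * t * d.1⁻¹) * d.1 := by group
        _ = t * (e.1⁻¹ * d.1) := by rw [hde']; group
    have hm : e.1⁻¹ * d.1 ∈ twoPt G x y := mul_mem (inv_mem e.2) d.2
    have := ec_odd h ht hc (odd_orderOf_of_mem (twoPt_odd hS hxy) hm)
    apply Subtype.ext
    exact (inv_mul_eq_one.1 this).symm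
  · rintro ⟨s, hs, hsx⟩
    obtain ⟨d, hdx, hdy, hd⟩ := semb_conj_in_two_point hS hux huy hxy ht htx hs hsx
    exact ⟨⟨d, mem_twoPt.2 ⟨hdx, hdy⟩⟩, Subtype.ext hd⟩

/-- swapping involutions invert the two point stabilizer -/
theorem ec_inverts (h : EC T) {x y : X} (hxy : x ≠ y) {u : G} (hu : orderOf u = 2) (hux : u • x = y)
    {d : G} (hd : d ∈ twoPt G x y) : u * d * u⁻¹ = d⁻¹ := by
  have huu := mul_self_of_orderOf_two hu
  have huy : u • y = x := by rw [← hux, ← mul_smul, huu, one_smul]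
  have hu' := inv_eq_self_of_mul_self huu
  have hmem : ∀ i : {i : G // orderOf i = 2 ∧ i • x = y}, u * i.1 ∈ twoPt G x y := by
    rintro ⟨i, hi, hix⟩
    have hiy : i • y = x := by rw [← hix, ← mul_smul, mul_self_of_orderOf_two hi, one_smul]
    rw [mem_twoPt]
    exact ⟨by rw [mul_smul, hix, huy], by rw [mul_smul, hiy, hux]⟩
  let f : {i : G // orderOf i = 2 ∧ i • x = y} → twoPt G x y := fun i => ⟨u * i.1, hmem i⟩
  have hfinj : Function.Injective f := by
    intro i j hij
    have : u * i.1 = u * j.1 := congrArg Subtype.val hij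
    exact Subtype.ext (mul_left_cancel this)
  have hcard : Nat.card {i : G // orderOf i = 2 ∧ i • x = y} = Nat.card (twoPt G x y) := by
    rw [ec_card_twoPt h hxy, semb_card_swap (ec_strong h), ec_card_inv h]
  have hbij : Function.Bijective f := (Nat.bijective_iff_injective_and_card f).2 ⟨hfinj, hcard⟩
  obtain ⟨⟨i, hi, hix⟩, hfi⟩ := hbij.2 ⟨d, hd⟩
  have hid : u * i = d := congrArg Subtype.val hfi
  rw [← hid, hu', mul_inv_rev, inv_eq_self_of_mul_self (mul_self_of_orderOf_two hi), hu']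
  calc u * (u * i) * u = (u * u) * i * u := by group
    _ = i * u := by rw [huu, one_mul]

theorem ec_twoPt_comm (h : EC T) {x y : X} (hxy : x ≠ y) {d e : G} (hd : d ∈ twoPt G x y) (he : e ∈ twoPt G x y) :
    d * e = e * d := by
  obtain ⟨u, hu, hux, huy⟩ := ec_swap_exists h hxy
  have h1 := ec_inverts h hxy hu hux hd
  have h2 := ec_inverts h hxy hu hux he
  have h3 := ec_inverts h hxy hu hux (mul_mem hd he)
  have h4 : u * (d * e) * u⁻¹ = (u * d * u⁻¹) * (u * e * u⁻¹) := by group
  rw [h3, h1, h2, mul_inv_rev] at h4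
  have h5 := congrArg (·⁻¹) h4
  simpa [mul_inv_rev] using h5

theorem ec_twoPt_inf (h : EC T) {y : X} (hy : y ≠ QuotientGroup.mk 1) {d : G}
    (hd : d ∈ twoPt G (QuotientGroup.mk 1 : X) y) (hdT : d ∈ T) : d = 1 := by
  by_contra h1
  have ho := ec_orderOf h hdT h1
  rw [mem_twoPt] at hd
  exact hy (semb_fix_unique (ec_strong h) ho hd.2 hd.1)

theorem mem_normalizer_iff_fix {g : G} : g ∈ Subgroup.normalizer ((T : Subgroup G) : Set G) ↔ g • (QuotientGroup.mk 1 : X) = QuotientGroup.mk 1 := by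
  rw [smul_mk_eq_iff]; simp

/-- `H = D T` -/
theorem ec_decomp (h : EC T) {y : X} (hy : y ≠ QuotientGroup.mk 1) {g : G}
    (hg : g • (QuotientGroup.mk 1 : X) = QuotientGroup.mk 1) :
    ∃ d ∈ twoPt G (QuotientGroup.mk 1 : X) y, ∃ t ∈ T, g = d * t := by
  have hS := ec_strong h
  have hge := ec_card_ge h
  -- an element of T^#
  haveI : Nontrivial (T : Subgroup G) := by
    apply Finite.one_lt_card_iff_nontrivial.1
    have : Nat.card (T : Subgroup G) = Nat.card T := rfl
    omega
  obtain ⟨⟨t, htT⟩, ht1⟩ := exists_ne (1 : (T : Subgroup G))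
  have ht1' : t ≠ 1 := fun h => ht1 (Subtype.ext h)
  have ho := ec_orderOf h htT ht1'
  have htx : t • (QuotientGroup.mk 1 : X) = QuotientGroup.mk 1 := mem_normalizer_iff_fix.1 (Subgroup.le_normalizer htT)
  obtain ⟨u, hu, hux, huy⟩ := ec_swap_exists h (Ne.symm hy)
  have ho' : orderOf (g * t * g⁻¹) = 2 := by rw [orderOf_conj, ho]
  have hfix' : (g * t * g⁻¹) • (QuotientGroup.mk 1 : X) = QuotientGroup.mk 1 := by
    have h2 : g⁻¹ • (QuotientGroup.mk 1 : X) = QuotientGroup.mk 1 := by rw [inv_smul_eq_iff, hg]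
    rw [mul_smul, mul_smul, h2, htx, hg]
  obtain ⟨d, hd1, hd2, hd3⟩ := semb_conj_in_two_point hS hux huy (Ne.symm hy) ho htx ho' hfix'
  refine ⟨d, mem_twoPt.2 ⟨hd1, hd2⟩, d⁻¹ * g, ?_, by group⟩
  apply ec_centralizer h htT ht1'
  show d⁻¹ * g * t = t * (d⁻¹ * g)
  calc d⁻¹ * g * t = d⁻¹ * (g * t * g⁻¹) * g := by group
    _ = t * (d⁻¹ * g) := by rw [← hd3]; group

theorem ec_card_normalizer (h : EC T) :
    Nat.card (Subgroup.normalizer ((T : Subgroup G) : Set G)) = Nat.card T * (Nat.card T - 1) := by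
  have hS := ec_strong h
  -- another point
  have hex : ∃ y : X, y ≠ QuotientGroup.mk 1 := by
    by_contra hcon
    push Not at hcon
    apply hS.1
    rw [eq_top_iff]
    intro g _
    have := hcon (QuotientGroup.mk g)
    have := QuotientGroup.eq.1 this.symm
    simpa using this
  obtain ⟨y, hy⟩ := hex
  rw [← ec_card_twoPt h (Ne.symm hy)]
  have : Nat.card T = Nat.card (T : Subgroup G) := rfl
  rw [this, ← Nat.card_prod]
  symm
  apply Nat.card_congr
  refine Equiv.ofBijective (fun p => ⟨p.2.1 * p.1.1, ?_⟩) ⟨?_, ?_⟩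
  · exact mul_mem (mem_normalizer_iff_fix.2 (mem_twoPt.1 p.2.2).1) (Subgroup.le_normalizer p.1.2)
  · rintro ⟨⟨t, ht⟩, ⟨d, hd⟩⟩ ⟨⟨t', ht'⟩, ⟨d', hd'⟩⟩ heq
    have heq' : d * t = d' * t' := congrArg Subtype.val heq
    have h1 : d'⁻¹ * d = t' * t⁻¹ := by
      rw [inv_mul_eq_iff_eq_mul, ← mul_assoc, ← heq', mul_assoc, mul_inv_cancel, mul_one]
    have h2 : d'⁻¹ * d = 1 := by
      apply ec_twoPt_inf h hy (mul_mem (inv_mem hd') hd)
      rw [h1]; exact mul_mem ht' (inv_mem ht)
    have h3 : d = d' := (inv_mul_eq_one.1 h2).symm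
    subst h3
    have h4 : t = t' := mul_left_cancel heq'
    subst h4
    rfl
  · rintro ⟨g, hg⟩
    obtain ⟨d, hd, t, ht, rfl⟩ := ec_decomp h hy (mem_normalizer_iff_fix.1 hg)
    exact ⟨⟨⟨t, ht⟩, ⟨d, hd⟩⟩, rfl⟩

theorem ec_twoPt_ne_one (h : EC T) {x y : X} (hxy : x ≠ y) : ∃ d ∈ twoPt G x y, d ≠ 1 := by
  have h1 := ec_card_twoPt h hxy
  have hge := ec_card_ge h
  haveI : Nontrivial (twoPt G x y) := by
    apply Finite.one_lt_card_iff_nontrivial.1
    omega
  obtain ⟨⟨d, hd⟩, hd1⟩ := exists_ne (1 : twoPt G x y)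
  exact ⟨d, hd, fun h => hd1 (Subtype.ext h)⟩

/-- `N_H(D) = D` -/
theorem ec_normalizer_fix (h : EC T) {y : X} (hy : y ≠ QuotientGroup.mk 1) {g : G}
    (hg : g • (QuotientGroup.mk 1 : X) = QuotientGroup.mk 1)
    (hgD : ∀ d ∈ twoPt G (QuotientGroup.mk 1 : X) y, g * d * g⁻¹ ∈ twoPt G (QuotientGroup.mk 1 : X) y) :
    g ∈ twoPt G (QuotientGroup.mk 1 : X) y := by
  obtain ⟨d, hd, t, ht, rfl⟩ := ec_decomp h hy hg
  have htD : ∀ e ∈ twoPt G (QuotientGroup.mk 1 : X) y, t * e * t⁻¹ ∈ twoPt G (QuotientGroup.mk 1 : X) y := by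
    intro e he
    have h1 := hgD e he
    have h2 : t * e * t⁻¹ = d⁻¹ * (d * t * e * (d * t)⁻¹) * d := by group
    rw [h2]
    exact mul_mem (mul_mem (inv_mem hd) h1) hd
  by_cases ht1 : t = 1
  · rw [ht1, mul_one]; exact hd
  · exfalso
    obtain ⟨e, he, he1⟩ := ec_twoPt_ne_one h (Ne.symm hy)
    have heN : e ∈ Subgroup.normalizer ((T : Subgroup G) : Set G) := mem_normalizer_iff_fix.2 (mem_twoPt.1 he).1
    have h1 : t * e * t⁻¹ * e⁻¹ = 1 := by
      apply ec_twoPt_inf h hy (mul_mem (htD e he) (inv_mem he))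
      have h2 : e * t⁻¹ * e⁻¹ ∈ (T : Subgroup G) := (Subgroup.mem_normalizer_iff.1 heN _).1 (inv_mem ht)
      have h3 : t * e * t⁻¹ * e⁻¹ = t * (e * t⁻¹ * e⁻¹) := by group
      rw [h3]; exact mul_mem ht h2
    have hc : Commute e t := by
      have h4 : t * e = e * t := by
        calc t * e = (t * e * t⁻¹ * e⁻¹) * (e * t) := by group
          _ = e * t := by rw [h1, one_mul]
      exact h4.symm
    exact he1 (ec_twoPt_inf h hy he (ec_centralizer h ht ht1 hc))

/-- elements normalizing `D` are in `D` or in `uD` -/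
theorem ec_normalizer_twoPt (h : EC T) {y : X} (hy : y ≠ QuotientGroup.mk 1) {u : G} (hu : orderOf u = 2)
    (hux : u • (QuotientGroup.mk 1 : X) = y) {g : G}
    (hgD : ∀ d ∈ twoPt G (QuotientGroup.mk 1 : X) y, g * d * g⁻¹ ∈ twoPt G (QuotientGroup.mk 1 : X) y) :
    g ∈ twoPt G (QuotientGroup.mk 1 : X) y ∨ u * g ∈ twoPt G (QuotientGroup.mk 1 : X) y := by
  set D := twoPt G (QuotientGroup.mk 1 : X) y with hD
  have hxy := Ne.symm hy
  have huy : u • y = QuotientGroup.mk 1 := by rw [← hux, ← mul_smul, mul_self_of_orderOf_two hu, one_smul]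
  -- everything normalizing D is in D or inverts D
  have key : ∀ g : G, (∀ d ∈ D, g * d * g⁻¹ ∈ D) → g ∈ D ∨ ∀ d ∈ D, g * d * g⁻¹ = d⁻¹ := by
    intro g hg
    by_cases hgx : g • (QuotientGroup.mk 1 : X) = QuotientGroup.mk 1
    · left; exact ec_normalizer_fix h hy hgx hg
    · right
      set z := g • (QuotientGroup.mk 1 : X) with hz
      have hxz : (QuotientGroup.mk 1 : X) ≠ z := Ne.symm hgx
      -- D fixes z
      have hDz : D ≤ twoPt G (QuotientGroup.mk 1 : X) z := by
        intro d hd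
        rw [mem_twoPt]
        refine ⟨(mem_twoPt.1 hd).1, ?_⟩
        -- g⁻¹ d g ∈ D by finiteness
        have hmap : D.map (MulAut.conj g).toMonoidHom = D := by
          apply Subgroup.eq_of_le_of_card_ge
          · rintro _ ⟨e, he, rfl⟩; exact hg e he
          · exact le_of_eq (Subgroup.card_map_of_injective (MulAut.conj g).injective).symm
        have hd' : d ∈ D.map (MulAut.conj g).toMonoidHom := by rw [hmap]; exact hd
        obtain ⟨e, he, hed⟩ := hd'
        have hed' : g * e * g⁻¹ = d := hed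
        have he1 := (mem_twoPt.1 he).1
        rw [hz, ← hed', ← mul_smul]
        have : g * e * g⁻¹ * g = g * e := by group
        rw [this, mul_smul, he1]
      have hDeq : D = twoPt G (QuotientGroup.mk 1 : X) z := by
        apply Subgroup.eq_of_le_of_card_ge hDz
        rw [hD, ec_card_twoPt h hxz, ec_card_twoPt h hxy]
      obtain ⟨v, hv, hvx, hvz⟩ := ec_swap_exists h hxz
      have hvinv : ∀ d ∈ D, v * d * v⁻¹ = d⁻¹ := by
        intro d hd
        exact ec_inverts h hxz hv hvx (by rw [← hDeq]; exact hd)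
      -- v⁻¹ g fixes x and normalizes D
      have hvg : v⁻¹ * g ∈ D := by
        apply ec_normalizer_fix h hy
        · rw [mul_smul, ← hz, ← hvx, inv_smul_smul]
        · intro d hd
          have h1 := hg d hd
          have h2 := hvinv _ h1
          have hv' := inv_eq_self_of_mul_self (mul_self_of_orderOf_two hv)
          have h3 : v⁻¹ * g * d * (v⁻¹ * g)⁻¹ = v * (g * d * g⁻¹) * v⁻¹ := by
            rw [mul_inv_rev, inv_inv, hv']; group
          rw [h3, h2]
          exact inv_mem h1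
      intro d hd
      have hcomm := ec_twoPt_comm h hxy hvg hd
      calc g * d * g⁻¹ = v * ((v⁻¹ * g) * d * (v⁻¹ * g)⁻¹) * v⁻¹ := by group
        _ = v * d * v⁻¹ := by rw [hcomm]; group
        _ = d⁻¹ := hvinv d hd
  have huinv : ∀ d ∈ D, u * d * u⁻¹ = d⁻¹ := fun d hd => ec_inverts h hxy hu hux hd
  rcases key g hgD with h1 | h1
  · left; exact h1
  · right
    rcases key (u * g) (by
      intro d hd
      have : u * g * d * (u * g)⁻¹ = u * (g * d * g⁻¹) * u⁻¹ := by group
      rw [this, h1 d hd, huinv _ (inv_mem hd), inv_inv]; exact hd) with h2 | h2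
    · exact h2
    · exfalso
      obtain ⟨d, hd, hd1⟩ := ec_twoPt_ne_one h hxy
      have h3 := h2 d hd
      have : u * g * d * (u * g)⁻¹ = u * (g * d * g⁻¹) * u⁻¹ := by group
      rw [this, h1 d hd, huinv _ (inv_mem hd), inv_inv] at h3
      have h4 : d ^ 2 = 1 := by rw [pow_two]; nth_rewrite 1 [h3]; exact inv_mul_cancel d
      exact hd1 (isPGroup_odd_eq_one (k := 1) (by rw [pow_one]; exact h4)
        (odd_orderOf_of_mem (twoPt_odd (ec_strong h) hxy) hd))

/-- `D` fixes exactly two points -/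
theorem ec_fixed_twoPt (h : EC T) {y : X} (hy : y ≠ QuotientGroup.mk 1) {z : X}
    (hz : ∀ d ∈ twoPt G (QuotientGroup.mk 1 : X) y, d • z = z) : z = QuotientGroup.mk 1 ∨ z = y := by
  set D := twoPt G (QuotientGroup.mk 1 : X) y with hD
  have hxy := Ne.symm hy
  by_cases hzx : z = QuotientGroup.mk 1
  · left; exact hzx
  · right
    have hxz : (QuotientGroup.mk 1 : X) ≠ z := Ne.symm hzx
    have hDz : D ≤ twoPt G (QuotientGroup.mk 1 : X) z := by
      intro d hd
      rw [mem_twoPt]
      exact ⟨(mem_twoPt.1 hd).1, hz d hd⟩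
    have hDeq : D = twoPt G (QuotientGroup.mk 1 : X) z := by
      apply Subgroup.eq_of_le_of_card_ge hDz
      rw [hD, ec_card_twoPt h hxz, ec_card_twoPt h hxy]
    obtain ⟨v, hv, hvx, hvz⟩ := ec_swap_exists h hxz
    obtain ⟨u, hu, hux, huy⟩ := ec_swap_exists h hxy
    have hvD : ∀ d ∈ D, v * d * v⁻¹ ∈ D := by
      intro d hd
      rw [ec_inverts h hxz hv hvx (by rw [← hDeq]; exact hd)]
      exact inv_mem hd
    rcases ec_normalizer_twoPt h hy hu hux hvD with h1 | h1
    · exfalso
      have := (mem_twoPt.1 h1).1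
      rw [hvx] at this
      exact hzx this
    · have := (mem_twoPt.1 h1).1
      rw [mul_smul, hvx] at this
      rw [← hux, ← this, ← mul_smul, mul_self_of_orderOf_two hu, one_smul]

/-- an element fixing three points is trivial (one of them being the base point) -/
theorem ec_three_points_aux (h : EC T) {y z : X} (hy : y ≠ QuotientGroup.mk 1) (hz : z ≠ QuotientGroup.mk 1)
    (hyz : y ≠ z) {d : G} (hdx : d • (QuotientGroup.mk 1 : X) = QuotientGroup.mk 1) (hdy : d • y = y) (hdz : d • z = z) :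
    d = 1 := by
  by_contra hd1
  have hS := ec_strong h
  -- centralizer of d is D x y'
  have key : ∀ y' : X, y' ≠ QuotientGroup.mk 1 → d • y' = y' →
      Subgroup.centralizer ({d} : Set G) = twoPt G (QuotientGroup.mk 1 : X) y' := by
    intro y' hy' hdy'
    have hxy' := Ne.symm hy'
    have hdD : d ∈ twoPt G (QuotientGroup.mk 1 : X) y' := mem_twoPt.2 ⟨hdx, hdy'⟩
    have hodd := odd_orderOf_of_mem (twoPt_odd hS hxy') hdD
    obtain ⟨u, hu, hux, huy⟩ := ec_swap_exists h hxy'
    have huinv := ec_inverts h hxy' hu hux hdD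
    have hle : twoPt G (QuotientGroup.mk 1 : X) y' ≤ Subgroup.centralizer ({d} : Set G) := by
      intro e he
      rw [Subgroup.mem_centralizer_singleton_iff]
      exact ec_twoPt_comm h hxy' he hdD
    set K := Subgroup.centralizer ({d} : Set G) with hK
    have hKodd : Odd (Nat.card K) := by
      by_contra hne
      obtain ⟨s, hs, hs2⟩ := exists_involution hne
      have hs' := Subgroup.mem_centralizer_singleton_iff.1 hs
      exact hd1 (ec_odd h hs2 (show Commute d s from hs'.symm) hodd)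
    -- u normalizes K
    have hu' := inv_eq_self_of_mul_self (mul_self_of_orderOf_two hu)
    have huu := mul_self_of_orderOf_two hu
    have huK : ∀ k ∈ K, u * k * u⁻¹ ∈ K := by
      intro k hk
      rw [hK, Subgroup.mem_centralizer_singleton_iff] at hk ⊢
      have h1 : d = (u * d * u⁻¹)⁻¹ := by rw [huinv, inv_inv]
      have h2 : k * d⁻¹ = d⁻¹ * k := (Commute.inv_right (show Commute k d from hk)).eq
      have h3 : d = u * d⁻¹ * u⁻¹ := by
        calc d = (u * d * u⁻¹)⁻¹ := h1
          _ = u * d⁻¹ * u⁻¹ := by group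
      calc u * k * u⁻¹ * d = u * k * u⁻¹ * (u * d⁻¹ * u⁻¹) := by rw [← h3]
        _ = u * (k * d⁻¹) * u⁻¹ := by group
        _ = (u * d⁻¹ * u⁻¹) * (u * k * u⁻¹) := by rw [h2]; group
        _ = d * (u * k * u⁻¹) := by rw [← h3]
    -- conjugation by u on K
    let φ : K →* K :=
      { toFun := fun k => ⟨u * k.1 * u⁻¹, huK k.1 k.2⟩
        map_one' := by apply Subtype.ext; simp
        map_mul' := by intro a b; apply Subtype.ext; simp [mul_assoc] }
    have hfpf : MonoidHom.FixedPointFree φ := by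
      intro k hk
      have h1 : u * k.1 * u⁻¹ = k.1 := congrArg Subtype.val hk
      have h2 : Commute k.1 u := by
        show k.1 * u = u * k.1
        calc k.1 * u = (u * k.1 * u⁻¹) * u := by rw [h1]
          _ = u * k.1 := by group
      exact Subtype.ext (ec_odd h hu h2 (odd_orderOf_of_mem hKodd k.2))
    have hinvol : Function.Involutive φ := by
      intro k
      apply Subtype.ext
      show u * (u * k.1 * u⁻¹) * u⁻¹ = k.1
      rw [hu']
      calc u * (u * k.1 * u) * u = (u * u) * k.1 * (u * u) := by group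
        _ = k.1 := by rw [huu, one_mul, mul_one]
    have hcommK : ∀ a b : K, Commute a b := fun a b => hfpf.commute_all_of_involutive hinvol a b
    have hKinv : ∀ k ∈ K, u * k * u⁻¹ = k⁻¹ := by
      intro k hk
      have := congrFun (hfpf.coe_eq_inv_of_involutive hinvol) ⟨k, hk⟩
      exact congrArg Subtype.val this
    apply le_antisymm _ hle
    intro k hk
    have hkD : ∀ e ∈ twoPt G (QuotientGroup.mk 1 : X) y', k * e * k⁻¹ ∈ twoPt G (QuotientGroup.mk 1 : X) y' := by
      intro e he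
      have h1 : k * e = e * k := congrArg Subtype.val (hcommK ⟨k, hk⟩ ⟨e, hle he⟩).eq
      rw [h1, mul_assoc, mul_inv_cancel, mul_one]; exact he
    rcases ec_normalizer_twoPt h hy' hu hux hkD with h1 | h1
    · exact h1
    · exfalso
      -- u * k ∈ D ≤ K so u ∈ K
      have h2 : u ∈ K := by
        have : u = (u * k) * k⁻¹ := by group
        rw [this]; exact mul_mem (hle h1) (inv_mem hk)
      exact not_odd_card_of_mem h2 hu hKodd
  have h1 := key y hy hdy
  have h2 := key z hz hdz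
  rw [h1] at h2
  have h3 : ∀ e ∈ twoPt G (QuotientGroup.mk 1 : X) y, e • z = z := by
    intro e he
    rw [h2] at he
    exact (mem_twoPt.1 he).2
  rcases ec_fixed_twoPt h hy h3 with h4 | h4
  · exact hz h4
  · exact hyz h4.symm

theorem exists_smul_base (x : X) : ∃ a : G, a • (QuotientGroup.mk 1 : X) = x := by
  obtain ⟨a, rfl⟩ := QuotientGroup.mk_surjective x
  exact ⟨a, by show (QuotientGroup.mk (a * 1) : X) = _; rw [mul_one]⟩

theorem ec_three_points (h : EC T) {x y z : X} (hxy : x ≠ y) (hxz : x ≠ z) (hyz : y ≠ z) {d : G}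
    (hdx : d • x = x) (hdy : d • y = y) (hdz : d • z = z) : d = 1 := by
  obtain ⟨a, ha⟩ := exists_smul_base x
  have key : ∀ w : X, d • w = w → (a⁻¹ * d * a) • (a⁻¹ • w) = a⁻¹ • w := by
    intro w hw
    rw [← mul_smul]
    have : a⁻¹ * d * a * a⁻¹ = a⁻¹ * d := by group
    rw [this, mul_smul, hw]
  have hx' : a⁻¹ • x = (QuotientGroup.mk 1 : X) := by rw [← ha, inv_smul_smul]
  have h1 := ec_three_points_aux h (y := a⁻¹ • y) (z := a⁻¹ • z) (d := a⁻¹ * d * a)
    (by rw [← hx']; exact fun hc => hxy (smul_left_cancel _ hc).symm)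
    (by rw [← hx']; exact fun hc => hxz (smul_left_cancel _ hc).symm)
    (fun hc => hyz (smul_left_cancel _ hc))
    (by have := key x hdx; rwa [hx'] at this) (key y hdy) (key z hdz)
  calc d = a * (a⁻¹ * d * a) * a⁻¹ := by group
    _ = 1 := by rw [h1]; group

theorem ec_T_free (h : EC T) {x : X} (hx : x ≠ QuotientGroup.mk 1) {s t : G} (hs : s ∈ T) (ht : t ∈ T)
    (hst : s • x = t • x) : s = t := by
  by_contra hne
  have h1 : t⁻¹ * s ∈ T := mul_mem (inv_mem ht) hs
  have h2 : t⁻¹ * s ≠ 1 := fun h3 => hne (inv_mul_eq_one.1 h3).symm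
  have h3 := ec_orderOf h h1 h2
  apply hx
  apply semb_fix_unique (ec_strong h) h3
  · rw [mul_smul, hst, inv_smul_smul]
  · exact mem_normalizer_iff_fix.1 (Subgroup.le_normalizer h1)

theorem ec_card_points (h : EC T) : Nat.card {x : X // x ≠ QuotientGroup.mk 1} = Nat.card T := by
  classical
  have hS := ec_strong h
  have hge := ec_card_ge h
  haveI := Fintype.ofFinite G
  haveI : Fintype X := Fintype.ofFinite _
  have hex : ∃ y : X, y ≠ QuotientGroup.mk 1 := by
    by_contra hcon
    push Not at hcon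
    apply hS.1
    rw [eq_top_iff]
    intro g _
    have := hcon (QuotientGroup.mk g)
    have := QuotientGroup.eq.1 this.symm
    simpa using this
  obtain ⟨y, hy⟩ := hex
  apply le_antisymm
  · -- count
    set q := Nat.card T with hq
    set Y := Finset.univ.filter (fun x : X => x ≠ QuotientGroup.mk 1) with hY
    have hYc : Nat.card {x : X // x ≠ QuotientGroup.mk 1} = Y.card := by
      rw [Nat.card_eq_fintype_card, Fintype.card_subtype]
    set A : X → Finset G := fun y' => (Finset.univ.filter (fun d : G => d ∈ twoPt G (QuotientGroup.mk 1 : X) y')).erase 1 with hA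
    have hAc : ∀ y' ∈ Y, (A y').card = q - 2 := by
      intro y' hy'
      rw [hA]
      simp only
      rw [Finset.card_erase_of_mem (by simp [one_mem])]
      have h1 := ec_card_twoPt h (Ne.symm (Finset.mem_filter.1 hy').2)
      have h2 : Nat.card (twoPt G (QuotientGroup.mk 1 : X) y') = (Finset.univ.filter (fun d : G => d ∈ twoPt G (QuotientGroup.mk 1 : X) y')).card := by
        rw [Nat.card_eq_fintype_card, ← Fintype.card_subtype]
      rw [← h2, h1]; omega
    have hdisj : ∀ a ∈ Y, ∀ b ∈ Y, a ≠ b → Disjoint (A a) (A b) := by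
      intro a ha b hb hab
      rw [Finset.disjoint_left]
      intro d hda hdb
      simp only [hA, Finset.mem_erase, Finset.mem_filter, Finset.mem_univ, true_and] at hda hdb
      exact hda.1 (ec_three_points_aux h (Finset.mem_filter.1 ha).2 (Finset.mem_filter.1 hb).2 hab
        (mem_twoPt.1 hda.2).1 (mem_twoPt.1 hda.2).2 (mem_twoPt.1 hdb.2).2)
    have hun : (Y.biUnion A).card = Y.card * (q - 2) := by
      rw [Finset.card_biUnion hdisj, Finset.sum_congr rfl hAc, Finset.sum_const, smul_eq_mul]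
    set NN := Finset.univ.filter (fun g : G => g ∈ Subgroup.normalizer ((T : Subgroup G) : Set G)) with hNN
    set TT := Finset.univ.filter (fun g : G => g ∈ (T : Subgroup G)) with hTT
    have hNc : NN.card = q * (q - 1) := by
      rw [← ec_card_normalizer h, hNN, ← Fintype.card_subtype, ← Nat.card_eq_fintype_card]
    have hTc : TT.card = q := by
      rw [hTT, ← Fintype.card_subtype, ← Nat.card_eq_fintype_card]
    have hsub : Y.biUnion A ∪ TT ⊆ NN := by
      intro g hg
      rw [Finset.mem_union, Finset.mem_biUnion] at hg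
      rcases hg with ⟨a, ha, hg⟩ | hg
      · simp only [hA, Finset.mem_erase, Finset.mem_filter, Finset.mem_univ, true_and] at hg
        exact Finset.mem_filter.2 ⟨Finset.mem_univ _, mem_normalizer_iff_fix.2 (mem_twoPt.1 hg.2).1⟩
      · exact Finset.mem_filter.2 ⟨Finset.mem_univ _, Subgroup.le_normalizer (Finset.mem_filter.1 hg).2⟩
    have hdis2 : Disjoint (Y.biUnion A) TT := by
      rw [Finset.disjoint_left]
      intro g hg hgT
      rw [Finset.mem_biUnion] at hg
      obtain ⟨a, ha, hg⟩ := hg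
      simp only [hA, Finset.mem_erase, Finset.mem_filter, Finset.mem_univ, true_and] at hg
      exact hg.1 (ec_twoPt_inf h (Finset.mem_filter.1 ha).2 hg.2 (Finset.mem_filter.1 hgT).2)
    have hle := Finset.card_le_card hsub
    rw [Finset.card_union_of_disjoint hdis2, hun, hTc, hNc] at hle
    rw [hYc]
    obtain ⟨k, hk⟩ : ∃ k, q = k + 3 := ⟨q - 3, by omega⟩
    rw [hk] at hle ⊢
    have e1 : k + 3 - 2 = k + 1 := by omega
    have e2 : k + 3 - 1 = k + 2 := by omega
    rw [e1, e2] at hle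
    by_contra hcon
    push Not at hcon
    have : (k + 3 + 1) * (k + 1) ≤ Y.card * (k + 1) := Nat.mul_le_mul_right _ hcon
    nlinarith
  · -- T acts freely
    have hmem : ∀ t : T, (t : G) • y ≠ (QuotientGroup.mk 1 : X) := by
      intro t ht
      apply hy
      have h1 : (t : G) • (QuotientGroup.mk 1 : X) = QuotientGroup.mk 1 := mem_normalizer_iff_fix.1 (Subgroup.le_normalizer t.2)
      exact smul_left_cancel (t : G) (ht.trans h1.symm)
    apply Nat.card_le_card_of_injective (fun t : T => (⟨(t : G) • y, hmem t⟩ : {x : X // x ≠ QuotientGroup.mk 1}))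
    intro s t hst
    exact Subtype.ext (ec_T_free h hy s.2 t.2 (congrArg Subtype.val hst))

theorem ec_T_regular (h : EC T) {x y : X} (hx : x ≠ QuotientGroup.mk 1) (hy : y ≠ QuotientGroup.mk 1) :
    ∃ t ∈ T, t • x = y := by
  have hmem : ∀ t : T, (t : G) • x ≠ (QuotientGroup.mk 1 : X) := by
    intro t ht
    apply hx
    have h1 : (t : G) • (QuotientGroup.mk 1 : X) = QuotientGroup.mk 1 := mem_normalizer_iff_fix.1 (Subgroup.le_normalizer t.2)
    exact smul_left_cancel (t : G) (ht.trans h1.symm)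
  let f : T → {x : X // x ≠ QuotientGroup.mk 1} := fun t => ⟨(t : G) • x, hmem t⟩
  have hinj : Function.Injective f := fun s t hst =>
    Subtype.ext (ec_T_free h hx s.2 t.2 (congrArg Subtype.val hst))
  have hbij : Function.Bijective f := (Nat.bijective_iff_injective_and_card f).2 ⟨hinj, (ec_card_points h).symm⟩
  obtain ⟨t, ht⟩ := hbij.2 ⟨y, hy⟩
  exact ⟨t.1, t.2, congrArg Subtype.val ht⟩

/-- two-point stabilizer is transitive on the remaining points -/
theorem ec_D_transitive (h : EC T) {y : X} (hy : y ≠ QuotientGroup.mk 1) {z w : X} (hz : z ≠ QuotientGroup.mk 1)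
    (hzy : z ≠ y) (hw : w ≠ QuotientGroup.mk 1) (hwy : w ≠ y) : ∃ d ∈ twoPt G (QuotientGroup.mk 1 : X) y, d • z = w := by
  -- z = t y, w = s y with s, t ∈ T nontrivial; conjugate t to s by D
  obtain ⟨t, ht, htz⟩ := ec_T_regular h hy hz
  obtain ⟨s, hs, hsw⟩ := ec_T_regular h hy hw
  have ht1 : t ≠ 1 := by rintro rfl; rw [one_smul] at htz; exact hzy htz.symm
  have hs1 : s ≠ 1 := by rintro rfl; rw [one_smul] at hsw; exact hwy hsw.symm
  obtain ⟨u, hu, hux, huy⟩ := ec_swap_exists h (Ne.symm hy)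
  obtain ⟨d, hd1, hd2, hd3⟩ := semb_conj_in_two_point (ec_strong h) hux huy (Ne.symm hy) (ec_orderOf h ht ht1)
    (mem_normalizer_iff_fix.1 (Subgroup.le_normalizer ht)) (ec_orderOf h hs hs1)
    (mem_normalizer_iff_fix.1 (Subgroup.le_normalizer hs))
  refine ⟨d, mem_twoPt.2 ⟨hd1, hd2⟩, ?_⟩
  have hd2' : d⁻¹ • y = y := by rw [inv_smul_eq_iff, hd2]
  calc d • z = (d * t) • y := by rw [mul_smul, htz]
    _ = (d * t * d⁻¹) • y := by rw [mul_smul (d * t), hd2']
    _ = w := by rw [hd3, hsw]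

theorem ec_triply (h : EC T) (x₁ x₂ x₃ y₁ y₂ y₃ : X) (h12 : x₁ ≠ x₂) (h13 : x₁ ≠ x₃) (h23 : x₂ ≠ x₃)
    (k12 : y₁ ≠ y₂) (k13 : y₁ ≠ y₃) (k23 : y₂ ≠ y₃) : ∃ g : G, g • x₁ = y₁ ∧ g • x₂ = y₂ ∧ g • x₃ = y₃ := by
  obtain ⟨u, hu⟩ : ∃ u : G, u ∉ Subgroup.normalizer ((T : Subgroup G) : Set G) := by
    by_contra hcon
    push Not at hcon
    exact (ec_strong h).1 (by rw [eq_top_iff]; intro g _; exact hcon g)
  set b : X := u • (QuotientGroup.mk 1 : X) with hb
  have hb1 : b ≠ QuotientGroup.mk 1 := fun hc => hu (mem_normalizer_iff_fix.2 hc)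
  -- move (x₁,x₂) to (base, b)
  have key : ∀ x₁ x₂ : X, x₁ ≠ x₂ → ∃ g : G, g • x₁ = QuotientGroup.mk 1 ∧ g • x₂ = b := by
    intro x₁ x₂ hne
    obtain ⟨a, ha⟩ := exists_smul_base x₁
    have h1 : a⁻¹ • x₁ = QuotientGroup.mk 1 := by rw [← ha, inv_smul_smul]
    have h2 : a⁻¹ • x₂ ≠ QuotientGroup.mk 1 := by
      rw [← h1]; exact fun hc => hne (smul_left_cancel _ hc).symm
    obtain ⟨t, ht, ht2⟩ := ec_T_regular h h2 hb1
    refine ⟨t * a⁻¹, ?_, ?_⟩
    · rw [mul_smul, h1]; exact mem_normalizer_iff_fix.1 (Subgroup.le_normalizer ht)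
    · rw [mul_smul, ht2]
  obtain ⟨g, hg1, hg2⟩ := key x₁ x₂ h12
  obtain ⟨k, hk1, hk2⟩ := key y₁ y₂ k12
  have hz1 : g • x₃ ≠ QuotientGroup.mk 1 := by rw [← hg1]; exact fun hc => h13 (smul_left_cancel _ hc).symm
  have hz2 : g • x₃ ≠ b := by rw [← hg2]; exact fun hc => h23 (smul_left_cancel _ hc).symm
  have hw1 : k • y₃ ≠ QuotientGroup.mk 1 := by rw [← hk1]; exact fun hc => k13 (smul_left_cancel _ hc).symm
  have hw2 : k • y₃ ≠ b := by rw [← hk2]; exact fun hc => k23 (smul_left_cancel _ hc).symm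
  obtain ⟨d, hd, hd2⟩ := ec_D_transitive h hb1 hz1 hz2 hw1 hw2
  rw [mem_twoPt] at hd
  refine ⟨k⁻¹ * d * g, ?_, ?_, ?_⟩
  · rw [mul_smul, mul_smul, hg1, hd.1, ← hk1, inv_smul_smul]
  · rw [mul_smul, mul_smul, hg2, hd.2, ← hk2, inv_smul_smul]
  · rw [mul_smul, mul_smul, hd2, inv_smul_smul]

end
end Cfsg.Agent.H4
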