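import Cfsg.Agent.H4.Basic2
import Cfsg.Agent.H4.Isolated
import Cfsg.Prelude.Def_Involutions
import Mathlib.GroupTheory.Perm.Cycle.Type

set_option autoImplicit false
set_option linter.style.haveILetI false

/-! Basic facts on strongly embedded subgroups. -/

namespace Cfsg.Agent.H4

open Cfsg

section
variable {G : Type*} [Group G] [Finite G] {H : Subgroup G}

theorem semb_fix_unique (hH : IsStronglyEmbedded H) {t : G} (ht : orderOf t = 2) {x y : G ⧸ H}
    (hx : t • x = x) (hy : t • y = y) : x = y := by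
  obtain ⟨a, rfl⟩ := QuotientGroup.mk_surjective x
  obtain ⟨b, rfl⟩ := QuotientGroup.mk_surjective y
  by_contra hne
  have hab : a⁻¹ * b ∉ H := fun h => hne (QuotientGroup.eq.2 h)
  rw [smul_mk_eq_iff] at hx hy
  have ho : orderOf (a⁻¹ * t * a) = 2 := by
    have := orderOf_conj t a⁻¹
    rw [inv_inv] at this
    rw [this, ht]
  refine not_odd_card_of_mem (Subgroup.mem_inf.2 ⟨hx, (mem_map_conj H (a⁻¹ * b) _).2 ?_⟩) ho (hH.2.2 _ hab)
  have e : (a⁻¹ * b)⁻¹ * (a⁻¹ * t * a) * (a⁻¹ * b) = b⁻¹ * t * b := by group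
  rw [e]; exact hy

omit [Finite G] in
theorem card_modEq_fixed {X : Type*} [Finite X] [MulAction G X] {t : G} (ht : t * t = 1) :
    Nat.card X ≡ Nat.card {x : X // t • x = x} [MOD 2] := by
  classical
  haveI := Fintype.ofFinite X
  haveI : Fact (Nat.Prime 2) := ⟨Nat.prime_two⟩
  let f : Function.End X := fun x => t • x
  have hf : f ^ 2 ^ 1 = 1 := by
    rw [pow_one, pow_two]
    funext x
    show t • t • x = x
    rw [← mul_smul, ht, one_smul]
  have h := Equiv.Perm.card_fixedPoints_modEq (f := f) (p := 2) (n := 1) hf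
  rw [Nat.card_eq_fintype_card, Nat.card_eq_fintype_card]
  exact h

theorem semb_exists_involution (hH : IsStronglyEmbedded H) : ∃ t ∈ H, orderOf t = 2 :=
  exists_involution (Nat.not_odd_iff_even.2 hH.2.1)

theorem semb_index_odd (hH : IsStronglyEmbedded H) : Odd (Nat.card (G ⧸ H)) := by
  obtain ⟨t, htH, ht⟩ := semb_exists_involution hH
  have h1 := card_modEq_fixed (X := G ⧸ H) (mul_self_of_orderOf_two ht)
  have h2 : Nat.card {x : G ⧸ H // t • x = x} = 1 := by
    rw [Nat.card_eq_one_iff_unique]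
    refine ⟨⟨fun a b => Subtype.ext (semb_fix_unique hH ht a.2 b.2)⟩, ⟨⟨QuotientGroup.mk 1, ?_⟩⟩⟩
    rw [smul_mk_eq_iff]; simpa using htH
  rw [h2] at h1
  rw [Nat.odd_iff]; exact h1

theorem semb_exists_fix (hH : IsStronglyEmbedded H) {t : G} (ht : orderOf t = 2) :
    ∃ x : G ⧸ H, t • x = x := by
  have h1 := card_modEq_fixed (X := G ⧸ H) (mul_self_of_orderOf_two ht)
  have h2 := semb_index_odd hH
  by_contra hcon
  push Not at hcon
  have h3 : Nat.card {x : G ⧸ H // t • x = x} = 0 := by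
    rw [Nat.card_eq_zero]; left
    exact ⟨fun a => hcon a.1 a.2⟩
  rw [h3] at h1
  rw [Nat.odd_iff] at h2
  have : Nat.card (G ⧸ H) % 2 = 0 % 2 := h1
  omega

/-- involutions fixing different points have a product of odd order -/
theorem semb_odd_mul (hH : IsStronglyEmbedded H) {s t : G} (hs : orderOf s = 2) (ht : orderOf t = 2)
    {x y : G ⧸ H} (hx : s • x = x) (hy : t • y = y) (hxy : x ≠ y) : Odd (orderOf (s * t)) := by
  by_contra hodd
  rw [Nat.not_odd_iff_even] at hodd
  have h0 : orderOf (s * t) ≠ 0 := (orderOf_pos _).ne'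
  have hord := even_pow_half h0 hodd
  obtain ⟨h1, h2⟩ := commute_pow_half (mul_self_of_orderOf_two hs) (mul_self_of_orderOf_two ht) h0 hodd
  set z := (s * t) ^ (orderOf (s * t) / 2) with hz
  have hzx : z • x = x := by
    apply semb_fix_unique hH hs _ hx
    rw [← mul_smul, ← h1.eq, mul_smul, hx]
  have hzy : z • y = y := by
    apply semb_fix_unique hH ht _ hy
    rw [← mul_smul, ← h2.eq, mul_smul, hy]
  exact hxy (semb_fix_unique hH hord hzx hzy)

omit [Finite G] in
theorem exists_swap_of_odd {s t : G} (hs : s * s = 1) (ht : t * t = 1) (hodd : Odd (orderOf (s * t))) :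
    ∃ k : ℕ, (((s * t) ^ k * t) * ((s * t) ^ k * t) = 1) ∧ ((s * t) ^ k * t) * t * ((s * t) ^ k * t)⁻¹ = s := by
  obtain ⟨m, hm⟩ := hodd
  have hinv := inv_conj_mul' hs ht
  have ht' := inv_eq_self_of_mul_self ht
  have hpow : (s * t) ^ (2 * (m + 1)) = s * t := by
    have : 2 * (m + 1) = orderOf (s * t) + 1 := by omega
    rw [this, pow_succ, pow_orderOf_eq_one, one_mul]
  have hc := conj_pow_inv hinv (m + 1)
  rw [ht'] at hc
  have hsq : ((s * t) ^ (m + 1) * t) * ((s * t) ^ (m + 1) * t) = 1 := by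
    calc ((s * t) ^ (m + 1) * t) * ((s * t) ^ (m + 1) * t) = (s * t) ^ (m + 1) * (t * (s * t) ^ (m + 1) * t) := by
          simp only [mul_assoc]
      _ = 1 := by rw [hc, mul_inv_cancel]
  refine ⟨m + 1, hsq, ?_⟩
  rw [inv_eq_self_of_mul_self hsq]
  calc (s * t) ^ (m + 1) * t * t * ((s * t) ^ (m + 1) * t) = (s * t) ^ (m + 1) * (t * t) * ((s * t) ^ (m + 1) * t) := by
        simp only [mul_assoc]
    _ = ((s * t) ^ (m + 1) * (s * t) ^ (m + 1)) * t := by rw [ht, mul_one, mul_assoc]
    _ = (s * t) * t := by rw [← pow_add, ← two_mul, hpow]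
    _ = s := by rw [mul_assoc, ht, mul_one]

theorem semb_exists_swap (hH : IsStronglyEmbedded H) {s t : G} (hs : orderOf s = 2) (ht : orderOf t = 2)
    {x y : G ⧸ H} (hx : t • x = x) (hy : s • y = y) (hxy : x ≠ y) :
    ∃ i : G, orderOf i = 2 ∧ i • x = y ∧ i * t * i⁻¹ = s := by
  have hodd := semb_odd_mul hH hs ht hy hx (Ne.symm hxy)
  obtain ⟨k, h1, h2⟩ := exists_swap_of_odd (mul_self_of_orderOf_two hs) (mul_self_of_orderOf_two ht) hodd
  set i := (s * t) ^ k * t with hi
  have hix : i • x = y := by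
    apply semb_fix_unique hH hs _ hy
    rw [← h2, ← mul_smul]
    have : i * t * i⁻¹ * i = i * t := by group
    rw [this, mul_smul, hx]
  refine ⟨i, orderOf_two_of h1 ?_, hix, h2⟩
  intro h
  rw [h, one_smul] at hix
  exact hxy hix

omit [Finite G] in
/-- the number of involutions fixing a point -/
theorem card_inv_fix (x : G ⧸ H) :
    Nat.card {t : G // orderOf t = 2 ∧ t • x = x} = Nat.card {t : G // orderOf t = 2 ∧ t ∈ H} := by
  obtain ⟨a, rfl⟩ := QuotientGroup.mk_surjective x
  apply Nat.card_congr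
  refine
    { toFun := fun c => ⟨a⁻¹ * c.1 * a, ?_, (smul_mk_eq_iff H c.1 a).1 c.2.2⟩
      invFun := fun c => ⟨a * c.1 * a⁻¹, ?_, (smul_mk_eq_iff H _ a).2 ?_⟩
      left_inv := fun c => by apply Subtype.ext; simp [mul_assoc]
      right_inv := fun c => by apply Subtype.ext; simp [mul_assoc] }
  · have := orderOf_conj c.1 a⁻¹
    rw [inv_inv] at this
    rw [this, c.2.1]
  · rw [orderOf_conj, c.2.1]
  · have : a⁻¹ * (a * c.1 * a⁻¹) * a = c.1 := by group
    rw [this]; exact c.2.2

theorem semb_card_swap_ge (hH : IsStronglyEmbedded H) {x y : G ⧸ H} (hxy : x ≠ y) :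
    Nat.card {t : G // orderOf t = 2 ∧ t ∈ H} ≤ Nat.card {i : G // orderOf i = 2 ∧ i • x = y} := by
  classical
  -- an involution fixing x
  have hex : ∃ t : G, orderOf t = 2 ∧ t • x = x := by
    obtain ⟨t, htH, ht⟩ := semb_exists_involution hH
    obtain ⟨a, rfl⟩ := QuotientGroup.mk_surjective x
    refine ⟨a * t * a⁻¹, by rw [orderOf_conj, ht], (smul_mk_eq_iff H _ a).2 ?_⟩
    have : a⁻¹ * (a * t * a⁻¹) * a = t := by group
    rw [this]; exact htH
  obtain ⟨t, ht, htx⟩ := hex
  rw [← card_inv_fix y]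
  have hch : ∀ s : {t : G // orderOf t = 2 ∧ t • y = y}, ∃ i : G, orderOf i = 2 ∧ i • x = y ∧ i * t * i⁻¹ = s.1 :=
    fun s => semb_exists_swap hH s.2.1 ht htx s.2.2 hxy
  choose f hf1 hf2 hf3 using hch
  apply Nat.card_le_card_of_injective (fun s => (⟨f s, hf1 s, hf2 s⟩ : {i : G // orderOf i = 2 ∧ i • x = y}))
  intro s s' h
  have h' : f s = f s' := congrArg Subtype.val h
  apply Subtype.ext
  rw [← hf3 s, ← hf3 s', h']

theorem semb_card_swap (hH : IsStronglyEmbedded H) (x y : G ⧸ H) :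
    Nat.card {i : G // orderOf i = 2 ∧ i • x = y} = Nat.card {t : G // orderOf t = 2 ∧ t ∈ H} := by
  classical
  haveI := Fintype.ofFinite G
  haveI : Fintype (G ⧸ H) := Fintype.ofFinite _
  set m := Nat.card {t : G // orderOf t = 2 ∧ t ∈ H} with hm
  set I := Finset.univ.filter (fun i : G => orderOf i = 2) with hI
  have hN : ∀ y' : G ⧸ H, Nat.card {i : G // orderOf i = 2 ∧ i • x = y'} = (I.filter (fun i => i • x = y')).card := by
    intro y'
    rw [Nat.card_eq_fintype_card, Fintype.card_subtype, hI, Finset.filter_filter]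
  have hF : ∀ y' : G ⧸ H, m = (I.filter (fun i => i • y' = y')).card := by
    intro y'
    rw [hm, ← card_inv_fix y', Nat.card_eq_fintype_card, Fintype.card_subtype, hI, Finset.filter_filter]
  -- total number of involutions
  have h1 : I.card = ∑ y' : G ⧸ H, (I.filter (fun i => i • x = y')).card :=
    Finset.card_eq_sum_card_fiberwise (fun i _ => Finset.mem_univ _)
  have h2 : I.card = Fintype.card (G ⧸ H) * m := by
    have hex : ∀ i : G, ∃ z : G ⧸ H, orderOf i = 2 → i • z = z := by
      intro i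
      by_cases hi : orderOf i = 2
      · obtain ⟨z, hz⟩ := semb_exists_fix hH hi
        exact ⟨z, fun _ => hz⟩
      · exact ⟨x, fun h => absurd h hi⟩
    choose f hf using hex
    have h3 : I.card = ∑ y' : G ⧸ H, (I.filter (fun i => f i = y')).card :=
      Finset.card_eq_sum_card_fiberwise (fun i _ => Finset.mem_univ _)
    rw [h3]
    have h4 : ∀ y' ∈ (Finset.univ : Finset (G ⧸ H)), (I.filter (fun i => f i = y')).card = m := by
      intro y' _
      rw [hF y']
      congr 1
      ext i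
      simp only [Finset.mem_filter, hI, Finset.mem_univ, true_and]
      constructor
      · rintro ⟨ho, he⟩
        exact ⟨ho, by rw [← he]; exact hf i ho⟩
      · rintro ⟨ho, he⟩
        exact ⟨ho, semb_fix_unique hH ho (hf i ho) he⟩
    rw [Finset.sum_congr rfl h4, Finset.sum_const, Finset.card_univ, smul_eq_mul]
  -- all terms are ≥ m
  have hge : ∀ y' ∈ (Finset.univ : Finset (G ⧸ H)), m ≤ (I.filter (fun i => i • x = y')).card := by
    intro y' _
    by_cases hy' : x = y'
    · rw [← hy', ← hF x]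
    · rw [← hN, hm]; exact semb_card_swap_ge hH hy'
  have hsum : ∑ y' : G ⧸ H, m = ∑ y' : G ⧸ H, (I.filter (fun i => i • x = y')).card := by
    rw [← h1, h2, Finset.sum_const, Finset.card_univ, smul_eq_mul]
  have := (Finset.sum_eq_sum_iff_of_le hge).1 hsum y (Finset.mem_univ _)
  rw [hN y, ← this]

omit [Finite G] in
/-- the stabilizer form of `H ⊓ uHu⁻¹` -/
theorem mem_inf_conj_iff (H : Subgroup G) (u d : G) :
    d ∈ (H ⊓ H.map (MulAut.conj u).toMonoidHom) ↔
      d • (QuotientGroup.mk 1 : G ⧸ H) = QuotientGroup.mk 1 ∧ d • (QuotientGroup.mk u : G ⧸ H) = QuotientGroup.mk u := by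
  rw [Subgroup.mem_inf, mem_map_conj, smul_mk_eq_iff, smul_mk_eq_iff]
  simp

theorem semb_isConj (hH : IsStronglyEmbedded H) {a b : G} (ha : orderOf a = 2) (hb : orderOf b = 2) : IsConj a b := by
  have key : ∀ {a b : G}, orderOf a = 2 → orderOf b = 2 → ∀ {x y : G ⧸ H}, a • x = x → b • y = y → x ≠ y → IsConj a b := by
    intro a b ha hb x y hx hy hxy
    obtain ⟨i, -, -, hi⟩ := semb_exists_swap hH hb ha hx hy hxy
    exact isConj_iff.2 ⟨i, hi⟩
  obtain ⟨x, hx⟩ := semb_exists_fix hH ha
  obtain ⟨y, hy⟩ := semb_exists_fix hH hb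
  by_cases hxy : x = y
  · -- choose another point
    subst hxy
    have : ∃ g : G, g • x ≠ x := by
      by_contra hcon
      push Not at hcon
      apply hH.1
      rw [eq_top_iff]
      intro g _
      obtain ⟨c, rfl⟩ := QuotientGroup.mk_surjective x
      have := hcon (c * g * c⁻¹)
      rw [smul_mk_eq_iff] at this
      have e : c⁻¹ * (c * g * c⁻¹) * c = g := by group
      rwa [e] at this
    obtain ⟨g, hg⟩ := this
    have hc : (g * a * g⁻¹) • (g • x) = g • x := by
      rw [← mul_smul]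
      have : g * a * g⁻¹ * g = g * a := by group
      rw [this, mul_smul, hx]
    have ho : orderOf (g * a * g⁻¹) = 2 := by rw [orderOf_conj, ha]
    exact (key ha ho hx hc (Ne.symm hg)).trans (key ho hb hc hy hg)
  · exact key ha hb hx hy hxy

/-- two-point stabilizers are transitive on the involutions fixing one of the points -/
theorem semb_conj_in_two_point (hH : IsStronglyEmbedded H) {x y : G ⧸ H} {u : G} (hux : u • x = y) (huy : u • y = x)
    (hxy : x ≠ y) {s t : G}
    (hs : orderOf s = 2) (hsx : s • x = x) (ht : orderOf t = 2) (htx : t • x = x) :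
    ∃ d : G, d • x = x ∧ d • y = y ∧ d * s * d⁻¹ = t := by
  have hs' : orderOf (u * t * u⁻¹) = 2 := by rw [orderOf_conj, ht]
  have hs'y : (u * t * u⁻¹) • y = y := by
    rw [← hux, ← mul_smul]
    have : u * t * u⁻¹ * u = u * t := by group
    rw [this, mul_smul, htx]
  obtain ⟨i, hi, hix, hit⟩ := semb_exists_swap hH hs' hs hsx hs'y hxy
  have hiy : i • y = x := by
    rw [← hix, ← mul_smul, mul_self_of_orderOf_two hi, one_smul]
  refine ⟨u⁻¹ * i, ?_, ?_, ?_⟩
  · rw [mul_smul, hix, ← hux, inv_smul_smul]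
  · rw [mul_smul, hiy, ← huy, inv_smul_smul]
  · calc u⁻¹ * i * s * (u⁻¹ * i)⁻¹ = u⁻¹ * (i * s * i⁻¹) * u := by group
      _ = t := by rw [hit]; group

end
end Cfsg.Agent.H4
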