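import Mathlib
import Cfsg.Agent.H4.SEmb

set_option autoImplicit false
set_option linter.unusedSectionVars false

/-! Groups with abelian centralizers of involutions: the strongly embedded configuration. -/

namespace Cfsg.Agent.H4

open Cfsg

structure IA {G : Type*} [Group G] (H A : Subgroup G) : Prop where
  semb : IsStronglyEmbedded H
  le : A ≤ H
  nrm : ∀ h ∈ H, ∀ a ∈ A, h * a * h⁻¹ ∈ A
  comm : ∀ a ∈ A, ∀ b ∈ A, a * b = b * a
  cent : ∀ t ∈ H, orderOf t = 2 → ∀ g : G, g * t = t * g → g ∈ A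
  three : 3 ≤ Nat.card {t : G // orderOf t = 2 ∧ t ∈ H}

namespace IA

variable {G : Type*} [Group G] [Finite G] {H A : Subgroup G} (h : IA H A)

/-- the base point -/
local notation "x₀" => (QuotientGroup.mk 1 : G ⧸ H)

omit [Finite G] in
theorem smul_pt (g : G) : g • (x₀ : G ⧸ H) = QuotientGroup.mk g := by
  change (QuotientGroup.mk (g * 1) : G ⧸ H) = _
  rw [mul_one]

omit [Finite G] in
theorem smul_pt_eq {g : G} : g • (x₀ : G ⧸ H) = x₀ ↔ g ∈ H := by
  rw [smul_mk_eq_iff]; simp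

include h

theorem exists_inv : ∃ t ∈ H, orderOf t = 2 := semb_exists_involution h.semb

theorem inv_mem {t : G} (ht : t ∈ H) (ho : orderOf t = 2) : t ∈ A := h.cent t ht ho t rfl

theorem comm_inv {t a : G} (ht : t ∈ H) (ho : orderOf t = 2) (ha : a ∈ A) : a * t = t * a :=
  h.comm a ha t (h.inv_mem ht ho)

theorem conj_in {s t : G} (hs : orderOf s = 2) (ht : orderOf t = 2) (htH : t ∈ H) (hsH : s ∉ H) :
    ∃ i ∈ Subgroup.closure ({s, t} : Set G), i * t * i⁻¹ = s := by
  obtain ⟨y, hy⟩ := semb_exists_fix h.semb hs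
  have hxy : y ≠ (x₀ : G ⧸ H) := by
    rintro rfl
    exact hsH (smul_pt_eq.1 hy)
  have hodd := semb_odd_mul h.semb hs ht hy (smul_pt_eq.2 htH) hxy
  obtain ⟨k, -, h2⟩ := exists_swap_of_odd (mul_self_of_orderOf_two hs) (mul_self_of_orderOf_two ht) hodd
  refine ⟨(s * t) ^ k * t, ?_, h2⟩
  have h3 : s ∈ Subgroup.closure ({s, t} : Set G) := Subgroup.subset_closure (by simp)
  have h4 : t ∈ Subgroup.closure ({s, t} : Set G) := Subgroup.subset_closure (by simp)
  exact Subgroup.mul_mem _ (Subgroup.pow_mem _ (Subgroup.mul_mem _ h3 h4) k) h4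

theorem conj_in' {X : Subgroup G} {s t : G} (hs : orderOf s = 2) (ht : orderOf t = 2) (htH : t ∈ H) (hsH : s ∉ H)
    (hsX : s ∈ X) (htX : t ∈ X) : ∃ i ∈ X, i * t * i⁻¹ = s := by
  obtain ⟨i, hi, hi2⟩ := h.conj_in hs ht htH hsH
  refine ⟨i, (Subgroup.closure_le X).2 ?_ hi, hi2⟩
  intro z hz
  rcases hz with rfl | hz
  · exact hsX
  · rw [Set.mem_singleton_iff] at hz; rw [hz]; exact htX

/-- a subgroup containing `A` and an involution outside `H` contains `H` -/
theorem le_of_inv {X : Subgroup G} (hA : A ≤ X) {s : G} (hs : orderOf s = 2) (hsX : s ∈ X) (hsH : s ∉ H) : H ≤ X := by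
  intro g hg
  obtain ⟨t, htH, ht⟩ := h.exists_inv
  have ht' : orderOf (g * t * g⁻¹) = 2 := by rw [orderOf_conj, ht]
  have htH' : g * t * g⁻¹ ∈ H := H.mul_mem (H.mul_mem hg htH) (H.inv_mem hg)
  obtain ⟨i, hi, hi2⟩ := h.conj_in' hs ht htH hsH hsX (hA (h.inv_mem htH ht))
  obtain ⟨j, hj, hj2⟩ := h.conj_in' hs ht' htH' hsH hsX (hA (h.inv_mem htH' ht'))
  have h1 : (i⁻¹ * (j * g)) * t = t * (i⁻¹ * (j * g)) := by
    have h2 : (j * g) * t * (j * g)⁻¹ = i * t * i⁻¹ := by
      rw [hi2, ← hj2]; group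
    have h3 : (j * g) * t = i * t * i⁻¹ * (j * g) := by rw [← h2]; group
    rw [mul_assoc, h3]; group
  have h2 := hA (h.cent t htH ht _ h1)
  have h3 : g = j⁻¹ * (i * (i⁻¹ * (j * g))) := by group
  rw [h3]
  exact X.mul_mem (X.inv_mem hj) (X.mul_mem hi h2)

theorem mem_of_conj {X : Subgroup G} (hX : H ≤ X) {u t : G} (htH : t ∈ H) (ht : orderOf t = 2)
    (hu : u * t * u⁻¹ ∈ X) : u ∈ X := by
  by_cases hsH : u * t * u⁻¹ ∈ H
  · -- then u ∈ H
    apply hX
    have h1 : t • (x₀ : G ⧸ H) = x₀ := smul_pt_eq.2 htH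
    have h2 : t • (QuotientGroup.mk u⁻¹ : G ⧸ H) = QuotientGroup.mk u⁻¹ := by
      rw [smul_mk_eq_iff, inv_inv]; exact hsH
    have h3 := semb_fix_unique h.semb ht h1 h2
    rw [QuotientGroup.eq] at h3
    simpa using h3
  · obtain ⟨i, hi, hi2⟩ := h.conj_in' (by rw [orderOf_conj, ht]) ht htH hsH hu (hX htH)
    have h1 : (i⁻¹ * u) * t = t * (i⁻¹ * u) := by
      have h3 : u * t = i * t * i⁻¹ * u := by rw [hi2]; group
      rw [mul_assoc, h3]; group
    have h2 := hX (h.le (h.cent t htH ht _ h1))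
    have h3 : u = i * (i⁻¹ * u) := by group
    rw [h3]; exact X.mul_mem hi h2

/-- elements of `A` in two conjugates of `A` centralize `H` -/
theorem meet {a g : G} (ha : a ∈ A) (hg : g ∉ H) (hga : g⁻¹ * a * g ∈ A) :
    ∃ s, orderOf s = 2 ∧ s ∉ H ∧ s * a = a * s ∧ H ≤ Subgroup.centralizer {a} := by
  obtain ⟨t, htH, ht⟩ := h.exists_inv
  have hs : orderOf (g * t * g⁻¹) = 2 := by rw [orderOf_conj, ht]
  have hsH : g * t * g⁻¹ ∉ H := by
    intro hc
    have h1 : (g * t * g⁻¹) • (x₀ : G ⧸ H) = x₀ := smul_pt_eq.2 hc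
    have h2 : (g * t * g⁻¹) • (QuotientGroup.mk g : G ⧸ H) = QuotientGroup.mk g := by
      rw [smul_mk_eq_iff]
      have : g⁻¹ * (g * t * g⁻¹) * g = t := by group
      rw [this]; exact htH
    have h3 := semb_fix_unique h.semb hs h1 h2
    rw [QuotientGroup.eq] at h3
    exact hg (by simpa using h3)
  have hc : (g * t * g⁻¹) * a = a * (g * t * g⁻¹) := by
    have h1 := h.comm_inv htH ht hga
    calc (g * t * g⁻¹) * a = g * (t * (g⁻¹ * a * g)) * g⁻¹ := by group
      _ = g * ((g⁻¹ * a * g) * t) * g⁻¹ := by rw [h1]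
      _ = a * (g * t * g⁻¹) := by group
  refine ⟨_, hs, hsH, hc, ?_⟩
  apply h.le_of_inv _ hs (Subgroup.mem_centralizer_singleton_iff.2 hc) hsH
  intro b hb
  exact Subgroup.mem_centralizer_singleton_iff.2 (h.comm b hb a ha)

/-- injectivity modulo `A` of the elements inverted by an involution -/
theorem inv_inj {u k l : G} (hu : orderOf u = 2) (huH : u ∉ H) (hk : k ∈ H) (hk2 : u * k * u⁻¹ = k⁻¹)
    (hl2 : u * l * u⁻¹ = l⁻¹) (hkl : k⁻¹ * l ∈ A) : k = l := by
  set a := k⁻¹ * l with ha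
  have hlk : l = k * a := by rw [ha]; group
  have hua : u * a * u⁻¹ = k * a⁻¹ * k⁻¹ := by
    calc u * a * u⁻¹ = (u * k * u⁻¹)⁻¹ * (u * l * u⁻¹) := by rw [ha]; group
      _ = k * l⁻¹ := by rw [hk2, hl2, inv_inv]
      _ = k * a⁻¹ * k⁻¹ := by rw [hlk]; group
  have huaA : u * a * u⁻¹ ∈ A := by rw [hua]; exact h.nrm k hk _ (A.inv_mem hkl)
  have huinv : u⁻¹ = u := inv_eq_self_of_mul_self (mul_self_of_orderOf_two hu)
  have hu' : u⁻¹ * a * u ∈ A := by rw [huinv] at huaA ⊢; exact huaA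
  by_contra hne
  have ha1 : a ≠ 1 := by
    intro h1
    apply hne
    rw [hlk, h1, mul_one]
  obtain ⟨s, hs, hsH, hsa, hHa⟩ := h.meet hkl huH hu'
  have hka : k * a = a * k := Subgroup.mem_centralizer_singleton_iff.1 (hHa hk)
  have hua2 : u * a * u⁻¹ = a⁻¹ := by
    rw [hua]
    have : k * a⁻¹ = a⁻¹ * k := (show Commute k a from hka).inv_right.eq
    rw [this, mul_inv_cancel_right]
  obtain ⟨t, htH, ht⟩ := h.exists_inv
  have hta : (u * t * u⁻¹) * a = a * (u * t * u⁻¹) := by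
    have h1 : a⁻¹ * t = t * a⁻¹ := h.comm_inv htH ht (A.inv_mem hkl)
    have h2 : a = u * a⁻¹ * u⁻¹ := by
      have := congrArg (fun z => z⁻¹) hua2
      simp only [mul_inv_rev, inv_inv] at this
      rw [← mul_assoc] at this
      exact this.symm
    calc (u * t * u⁻¹) * a = (u * t * u⁻¹) * (u * a⁻¹ * u⁻¹) := by rw [← h2]
      _ = u * (t * a⁻¹) * u⁻¹ := by group
      _ = u * (a⁻¹ * t) * u⁻¹ := by rw [h1]
      _ = (u * a⁻¹ * u⁻¹) * (u * t * u⁻¹) := by group
      _ = a * (u * t * u⁻¹) := by rw [← h2]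
  have huC := h.mem_of_conj hHa htH ht (Subgroup.mem_centralizer_singleton_iff.2 hta)
  have huc : u * a = a * u := Subgroup.mem_centralizer_singleton_iff.1 huC
  have haa : a * a = 1 := by
    rw [huc, mul_inv_cancel_right] at hua2
    nth_rewrite 2 [hua2]
    exact mul_inv_cancel a
  have ho := orderOf_two_of haa ha1
  -- `a` fixes the base point and `u x₀`
  have h1 : a • (x₀ : G ⧸ H) = x₀ := smul_pt_eq.2 (h.le hkl)
  have h2 : a • (QuotientGroup.mk u : G ⧸ H) = QuotientGroup.mk u := by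
    rw [smul_mk_eq_iff]; exact h.le hu'
  have h3 := semb_fix_unique h.semb ho h1 h2
  rw [QuotientGroup.eq] at h3
  exact huH (by simpa using h3)

omit h in
/-- restriction to an overgroup of `H` -/
theorem sub (h : IA H A) {L : Subgroup G} (hL : H ≤ L) (hne : L ≠ H) : IA (H.subgroupOf L) (A.subgroupOf L) where
  semb := by
    refine ⟨?_, ?_, ?_⟩
    · intro hc
      rw [Subgroup.subgroupOf_eq_top] at hc
      exact hne (le_antisymm hc hL)
    · rw [Nat.card_congr (Subgroup.subgroupOfEquivOfLe hL).toEquiv]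
      exact h.semb.2.1
    · intro g hg
      have hg' : (g : G) ∉ H := fun hc => hg (Subgroup.mem_subgroupOf.2 hc)
      by_contra hodd
      obtain ⟨s, hs, ho⟩ := exists_involution hodd
      rw [Subgroup.mem_inf, mem_map_conj, Subgroup.mem_subgroupOf, Subgroup.mem_subgroupOf] at hs
      refine not_odd_card_of_mem (K := H ⊓ H.map (MulAut.conj (g : G)).toMonoidHom) (x := (s : G)) ?_ ?_
        (h.semb.2.2 _ hg')
      · rw [Subgroup.mem_inf, mem_map_conj]
        exact hs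
      · rw [Subgroup.orderOf_coe]; exact ho
  le := by
    intro a ha
    exact Subgroup.mem_subgroupOf.2 (h.le (Subgroup.mem_subgroupOf.1 ha))
  nrm := by
    intro k hk a ha
    exact Subgroup.mem_subgroupOf.2 (h.nrm _ (Subgroup.mem_subgroupOf.1 hk) _ (Subgroup.mem_subgroupOf.1 ha))
  comm := by
    intro a ha b hb
    apply Subtype.ext
    exact h.comm _ (Subgroup.mem_subgroupOf.1 ha) _ (Subgroup.mem_subgroupOf.1 hb)
  cent := by
    intro t ht ho g hg
    rw [Subgroup.mem_subgroupOf] at ht ⊢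
    exact h.cent _ ht (by rw [Subgroup.orderOf_coe]; exact ho) _ (congrArg Subtype.val hg)
  three := by
    refine h.three.trans (le_of_eq ?_)
    apply Nat.card_congr
    refine
      { toFun := fun t => ⟨⟨t.1, hL t.2.2⟩, by rw [Subgroup.orderOf_mk]; exact t.2.1, t.2.2⟩
        invFun := fun t => ⟨t.1, by rw [Subgroup.orderOf_coe]; exact t.2.1, t.2.2⟩
        left_inv := fun t => rfl
        right_inv := fun t => rfl }

theorem center_le : Subgroup.center G ≤ A := by
  intro z hz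
  obtain ⟨t, htH, ht⟩ := h.exists_inv
  exact h.cent t htH ht z ((Subgroup.mem_center_iff.1 hz t).symm)

theorem center_no_inv {z : G} (hz : z ∈ Subgroup.center G) : orderOf z ≠ 2 := by
  intro ho
  apply h.semb.1
  rw [eq_top_iff]
  intro g _
  have h1 : z • (x₀ : G ⧸ H) = x₀ := smul_pt_eq.2 (h.le (h.center_le hz))
  have h2 : z • (QuotientGroup.mk g : G ⧸ H) = QuotientGroup.mk g := by
    rw [smul_mk_eq_iff]
    have : g⁻¹ * z * g = z := by
      rw [Subgroup.mem_center_iff.1 hz g⁻¹, inv_mul_cancel_right]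
    rw [this]
    exact h.le (h.center_le hz)
  have h3 := semb_fix_unique h.semb ho h1 h2
  rw [QuotientGroup.eq] at h3
  simpa using h3

end IA

end Cfsg.Agent.H4
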