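import Mathlib
import Cfsg.Agent.H4.IAa

set_option autoImplicit false
set_option linter.unusedSectionVars false

/-! Groups with abelian centralizers of involutions: passage to the quotient by the centre. -/

namespace Cfsg.Agent.H4

open Cfsg

namespace IA

variable {G : Type*} [Group G] [Finite G] {H A : Subgroup G}

local notation "ZG" => Subgroup.center G

theorem mk_mem_map {K : Subgroup G} (hK : Subgroup.center G ≤ K) {g : G} :
    (QuotientGroup.mk' (Subgroup.center G)) g ∈ K.map (QuotientGroup.mk' (Subgroup.center G)) ↔ g ∈ K := by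
  constructor
  · rintro ⟨k, hk, hkg⟩
    have h1 : k⁻¹ * g ∈ Subgroup.center G := QuotientGroup.eq.1 hkg
    have h2 : g = k * (k⁻¹ * g) := by group
    rw [h2]; exact K.mul_mem hk (hK h1)
  · intro hg
    exact ⟨g, hg, rfl⟩

theorem eq_one_of_center (h : IA H A) {z : G} (hz : z ∈ Subgroup.center G) (hzz : z * z = 1) : z = 1 := by
  by_contra hne
  exact h.center_no_inv hz (orderOf_two_of hzz hne)

theorem odd_orderOf_center (h : IA H A) {z : G} (hz : z ∈ Subgroup.center G) : Odd (orderOf z) := by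
  by_contra hodd
  rw [Nat.not_odd_iff_even] at hodd
  have := even_pow_half (orderOf_pos z).ne' hodd
  exact h.center_no_inv ((Subgroup.center G).pow_mem hz _) this

theorem lift_inv (h : IA H A) {g : G} (hg : orderOf ((QuotientGroup.mk' (Subgroup.center G)) g) = 2) :
    ∃ t : G, orderOf t = 2 ∧ (QuotientGroup.mk' (Subgroup.center G)) t = (QuotientGroup.mk' (Subgroup.center G)) g := by
  have h1 : g * g ∈ Subgroup.center G := by
    have := mul_self_of_orderOf_two hg
    rw [← map_mul] at this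
    exact (QuotientGroup.eq_one_iff _).1 this
  obtain ⟨k, hk⟩ := h.odd_orderOf_center h1
  have hcom : Commute g ((g * g) ^ k) := ((Commute.refl g).mul_right (Commute.refl g)).pow_right k
  have h2 : (g * (g * g) ^ k) * (g * (g * g) ^ k) = 1 := by
    calc (g * (g * g) ^ k) * (g * (g * g) ^ k) = g * ((g * g) ^ k * g) * (g * g) ^ k := by simp only [mul_assoc]
      _ = g * (g * (g * g) ^ k) * (g * g) ^ k := by rw [hcom.eq]
      _ = (g * g) * ((g * g) ^ k * (g * g) ^ k) := by simp only [mul_assoc]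
      _ = (g * g) ^ (2 * k + 1) := by rw [← pow_add, ← two_mul, pow_succ']
      _ = 1 := by rw [← hk, pow_orderOf_eq_one]
  have h3 : (QuotientGroup.mk' (Subgroup.center G)) (g * (g * g) ^ k) = (QuotientGroup.mk' (Subgroup.center G)) g := by
    rw [map_mul]
    have : (QuotientGroup.mk' (Subgroup.center G)) ((g * g) ^ k) = 1 :=
      (QuotientGroup.eq_one_iff _).2 ((Subgroup.center G).pow_mem h1 k)
    rw [this, mul_one]
  refine ⟨g * (g * g) ^ k, orderOf_two_of h2 ?_, h3⟩
  intro h4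
  rw [h4, map_one] at h3
  rw [← h3, orderOf_one] at hg
  exact absurd hg (by norm_num)

theorem orderOf_mk (h : IA H A) {t : G} (ht : orderOf t = 2) :
    orderOf ((QuotientGroup.mk' (Subgroup.center G)) t) = 2 := by
  apply orderOf_two_of
  · rw [← map_mul, mul_self_of_orderOf_two ht, map_one]
  · intro h1
    exact h.center_no_inv ((QuotientGroup.eq_one_iff _).1 h1) ht

theorem card_inv_quot (h : IA H A) :
    Nat.card {t : G ⧸ Subgroup.center G // orderOf t = 2 ∧ t ∈ H.map (QuotientGroup.mk' (Subgroup.center G))} =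
      Nat.card {t : G // orderOf t = 2 ∧ t ∈ H} := by
  have hZH : Subgroup.center G ≤ H := h.center_le.trans h.le
  symm
  apply Nat.card_congr
  refine Equiv.ofBijective (fun t => ⟨(QuotientGroup.mk' (Subgroup.center G)) t.1, h.orderOf_mk t.2.1, t.1, t.2.2, rfl⟩) ⟨?_, ?_⟩
  · intro s t hst
    have h1 : (QuotientGroup.mk' (Subgroup.center G)) s.1 = (QuotientGroup.mk' (Subgroup.center G)) t.1 :=
      congrArg Subtype.val hst
    have h2 : s.1⁻¹ * t.1 ∈ Subgroup.center G := QuotientGroup.eq.1 h1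
    have h3 : (s.1⁻¹ * t.1) * (s.1⁻¹ * t.1) = 1 := by
      have e := Subgroup.mem_center_iff.1 h2 s.1⁻¹
      calc (s.1⁻¹ * t.1) * (s.1⁻¹ * t.1) = ((s.1⁻¹ * t.1) * s.1⁻¹) * t.1 := by group
        _ = (s.1⁻¹ * (s.1⁻¹ * t.1)) * t.1 := by rw [e]
        _ = (s.1 * s.1)⁻¹ * (t.1 * t.1) := by group
        _ = 1 := by rw [mul_self_of_orderOf_two s.2.1, mul_self_of_orderOf_two t.2.1]; simp
    have h4 := h.eq_one_of_center h2 h3
    exact Subtype.ext (inv_mul_eq_one.1 h4)
  · rintro ⟨x, hx, hxH⟩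
    obtain ⟨g, hg, rfl⟩ := hxH
    obtain ⟨t, ht, htg⟩ := h.lift_inv hx
    refine ⟨⟨t, ht, ?_⟩, Subtype.ext htg⟩
    rw [← mk_mem_map hZH, htg]
    exact ⟨g, hg, rfl⟩

theorem not_both (h : IA H A) {t g : G} (ht : orderOf t = 2) (htH : t ∈ H) (hgt : g⁻¹ * t * g ∈ H) : g ∈ H := by
  have h1 : t • (QuotientGroup.mk 1 : G ⧸ H) = QuotientGroup.mk 1 := smul_pt_eq.2 htH
  have h2 : t • (QuotientGroup.mk g : G ⧸ H) = QuotientGroup.mk g := by
    rw [smul_mk_eq_iff]; exact hgt
  have h3 := semb_fix_unique h.semb ht h1 h2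
  rw [QuotientGroup.eq] at h3
  simpa using h3

theorem quot (h : IA H A) :
    IA (H.map (QuotientGroup.mk' (Subgroup.center G))) (A.map (QuotientGroup.mk' (Subgroup.center G))) := by
  have hZA : Subgroup.center G ≤ A := h.center_le
  have hZH : Subgroup.center G ≤ H := hZA.trans h.le
  refine ⟨⟨?_, ?_, ?_⟩, Subgroup.map_mono h.le, ?_, ?_, ?_, ?_⟩
  · intro hc
    apply h.semb.1
    rw [eq_top_iff]
    intro g _
    rw [← mk_mem_map hZH, hc]
    exact Subgroup.mem_top _
  · rw [← Nat.not_odd_iff_even]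
    obtain ⟨t, htH, ht⟩ := h.exists_inv
    exact not_odd_card_of_mem (x := (QuotientGroup.mk' (Subgroup.center G)) t) ⟨t, htH, rfl⟩ (h.orderOf_mk ht)
  · intro x hx
    obtain ⟨g, rfl⟩ := QuotientGroup.mk'_surjective _ x
    have hg : g ∉ H := fun hc => hx ((mk_mem_map hZH).2 hc)
    by_contra hodd
    obtain ⟨s, hs, ho⟩ := exists_involution hodd
    obtain ⟨s', rfl⟩ := QuotientGroup.mk'_surjective _ s
    obtain ⟨t, ht, hts⟩ := h.lift_inv ho
    rw [← hts, Subgroup.mem_inf, mem_map_conj, ← map_inv, ← map_mul, ← map_mul, mk_mem_map hZH, mk_mem_map hZH] at hs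
    exact hg (h.not_both ht hs.1 hs.2)
  · rintro _ ⟨k, hk, rfl⟩ _ ⟨a, ha, rfl⟩
    exact ⟨k * a * k⁻¹, h.nrm k hk a ha, by simp⟩
  · rintro _ ⟨a, ha, rfl⟩ _ ⟨b, hb, rfl⟩
    rw [← map_mul, ← map_mul, h.comm a ha b hb]
  · intro x hx ho y hy
    obtain ⟨s', rfl⟩ := QuotientGroup.mk'_surjective _ x
    obtain ⟨g, rfl⟩ := QuotientGroup.mk'_surjective _ y
    obtain ⟨t, ht, hts⟩ := h.lift_inv ho
    rw [← hts, mk_mem_map hZH] at hx
    rw [← hts] at hy
    rw [mk_mem_map hZA]
    apply h.cent t hx ht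
    rw [← map_mul, ← map_mul] at hy
    have h1 : (g * t)⁻¹ * (t * g) ∈ Subgroup.center G := QuotientGroup.eq.1 hy
    set z := (g * t)⁻¹ * (t * g) with hz
    have h2 : t * g = g * t * z := by rw [hz]; group
    -- g⁻¹ t g = t z
    have h3 : g⁻¹ * t * g = t * z := by rw [mul_assoc, h2]; group
    have h4 : (t * z) * (t * z) = 1 := by
      rw [← h3]
      calc g⁻¹ * t * g * (g⁻¹ * t * g) = g⁻¹ * (t * t) * g := by group
        _ = 1 := by rw [mul_self_of_orderOf_two ht]; group
    have h5 : z * z = 1 := by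
      have e := Subgroup.mem_center_iff.1 h1 t
      calc z * z = (t * t) * (z * z) := by rw [mul_self_of_orderOf_two ht, one_mul]
        _ = t * (t * z) * z := by simp only [mul_assoc]
        _ = t * (z * t) * z := by rw [e]
        _ = (t * z) * (t * z) := by simp only [mul_assoc]
        _ = 1 := h4
    have h6 := h.eq_one_of_center h1 h5
    rw [h2, h6, mul_one]
  · rw [h.card_inv_quot]; exact h.three

/-- TI property of `A` in the quotient by the centre when `H` is maximal -/
theorem quot_ti (h : IA H A) (hmax : ∀ X : Subgroup G, H ≤ X → X = H ∨ X = ⊤) :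
    ∀ x : G ⧸ Subgroup.center G, x ∉ H.map (QuotientGroup.mk' (Subgroup.center G)) →
      ∀ a ∈ A.map (QuotientGroup.mk' (Subgroup.center G)),
        x⁻¹ * a * x ∈ A.map (QuotientGroup.mk' (Subgroup.center G)) → a = 1 := by
  have hZA : Subgroup.center G ≤ A := h.center_le
  have hZH : Subgroup.center G ≤ H := hZA.trans h.le
  intro x hx a ha hxa
  obtain ⟨g, rfl⟩ := QuotientGroup.mk'_surjective _ x
  obtain ⟨b, hb, rfl⟩ := ha
  rw [mk_mem_map hZH] at hx
  rw [← map_inv, ← map_mul, ← map_mul, mk_mem_map hZA] at hxa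
  obtain ⟨s, hs, hsH, hsb, hHb⟩ := h.meet hb hx hxa
  rcases hmax _ hHb with h1 | h1
  · exact absurd (by rw [← h1]; exact Subgroup.mem_centralizer_singleton_iff.2 hsb) hsH
  · apply (QuotientGroup.eq_one_iff _).2
    rw [Subgroup.mem_center_iff]
    intro g'
    have : g' ∈ Subgroup.centralizer {b} := by rw [h1]; exact Subgroup.mem_top _
    exact Subgroup.mem_centralizer_singleton_iff.1 this

end IA

end Cfsg.Agent.H4
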