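import Mathlib
import Cfsg.Agent.H4.IAb

set_option autoImplicit false
set_option linter.unusedSectionVars false

/-! Groups with abelian centralizers of involutions: the TI case, fixed points. -/

namespace Cfsg.Agent.H4

open Cfsg

namespace IA

variable {G : Type*} [Group G] [Finite G] {H A : Subgroup G}

/-- `a` lies in the conjugate of `A` attached to the point `z` -/
def MA (H A : Subgroup G) (z : G ⧸ H) (a : G) : Prop :=
  ∃ g : G, (QuotientGroup.mk g : G ⧸ H) = z ∧ g⁻¹ * a * g ∈ A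

theorem swap_back {X : Type*} [MulAction G X] {i : G} (hi : orderOf i = 2) {z w : X} (hz : i • z = w) : i • w = z := by
  rw [← hz, ← mul_smul, mul_self_of_orderOf_two hi, one_smul]

section
variable (h : IA H A)
include h

theorem MA_mk {g a : G} : MA H A (QuotientGroup.mk g) a ↔ g⁻¹ * a * g ∈ A := by
  constructor
  · rintro ⟨k, hk, hka⟩
    have h1 : k⁻¹ * g ∈ H := QuotientGroup.eq.1 hk
    have h2 := h.nrm _ (H.inv_mem h1) _ hka
    have h3 : (k⁻¹ * g)⁻¹ * (k⁻¹ * a * k) * (k⁻¹ * g)⁻¹⁻¹ = g⁻¹ * a * g := by group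
    rwa [h3] at h2
  · intro hg
    exact ⟨g, rfl, hg⟩

theorem MA_fix {z : G ⧸ H} {a : G} (ha : MA H A z a) : a • z = z := by
  obtain ⟨g, rfl, hg⟩ := ha
  rw [smul_mk_eq_iff]; exact h.le hg

theorem MA_comm {z : G ⧸ H} {a b : G} (ha : MA H A z a) (hb : MA H A z b) : a * b = b * a := by
  obtain ⟨g, rfl⟩ := QuotientGroup.mk_surjective z
  rw [h.MA_mk] at ha hb
  have h1 := h.comm _ ha _ hb
  calc a * b = g * ((g⁻¹ * a * g) * (g⁻¹ * b * g)) * g⁻¹ := by group
    _ = g * ((g⁻¹ * b * g) * (g⁻¹ * a * g)) * g⁻¹ := by rw [h1]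
    _ = b * a := by group

theorem MA_mul {z : G ⧸ H} {a b : G} (ha : MA H A z a) (hb : MA H A z b) : MA H A z (a * b) := by
  obtain ⟨g, rfl⟩ := QuotientGroup.mk_surjective z
  rw [h.MA_mk] at ha hb ⊢
  have := A.mul_mem ha hb
  have e : g⁻¹ * a * g * (g⁻¹ * b * g) = g⁻¹ * (a * b) * g := by group
  rwa [e] at this

theorem MA_inv {z : G ⧸ H} {a : G} (ha : MA H A z a) : MA H A z a⁻¹ := by
  obtain ⟨g, rfl⟩ := QuotientGroup.mk_surjective z
  rw [h.MA_mk] at ha ⊢
  have := A.inv_mem ha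
  have e : (g⁻¹ * a * g)⁻¹ = g⁻¹ * a⁻¹ * g := by group
  rwa [e] at this

theorem MA_conj {z : G ⧸ H} {a : G} (k : G) (ha : MA H A z a) : MA H A (k • z) (k * a * k⁻¹) := by
  obtain ⟨g, rfl⟩ := QuotientGroup.mk_surjective z
  have : k • (QuotientGroup.mk g : G ⧸ H) = QuotientGroup.mk (k * g) := rfl
  rw [this, h.MA_mk]
  rw [h.MA_mk] at ha
  have e : (k * g)⁻¹ * (k * a * k⁻¹) * (k * g) = g⁻¹ * a * g := by group
  rw [e]; exact ha

theorem MA_nrm {z : G ⧸ H} {a b : G} (hb : b • z = z) (ha : MA H A z a) : MA H A z (b * a * b⁻¹) := by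
  have := h.MA_conj b ha
  rwa [hb] at this

theorem MA_cent {z : G ⧸ H} {i g : G} (hi : orderOf i = 2) (hz : i • z = z) (hg : g * i = i * g) : MA H A z g := by
  obtain ⟨k, rfl⟩ := QuotientGroup.mk_surjective z
  rw [smul_mk_eq_iff] at hz
  rw [h.MA_mk]
  apply h.cent _ hz
  · have := orderOf_conj i k⁻¹
    rw [inv_inv] at this
    rw [this, hi]
  · calc k⁻¹ * g * k * (k⁻¹ * i * k) = k⁻¹ * (g * i) * k := by group
      _ = k⁻¹ * (i * g) * k := by rw [hg]
      _ = k⁻¹ * i * k * (k⁻¹ * g * k) := by group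

theorem exists_swap (z w : G ⧸ H) : ∃ i : G, orderOf i = 2 ∧ i • z = w := by
  have h1 := semb_card_swap h.semb z w
  have h2 := h.three
  rw [← h1] at h2
  have : Nonempty {i : G // orderOf i = 2 ∧ i • z = w} := by
    rw [← not_isEmpty_iff]
    intro he
    rw [Nat.card_of_isEmpty] at h2
    omega
  obtain ⟨i, hi⟩ := this
  exact ⟨i, hi⟩

theorem card_le_of_fix {z : G ⧸ H} {S : Set G} (hS : ∀ d ∈ S, d • z = z)
    (hinj : ∀ d ∈ S, ∀ e ∈ S, MA H A z (e⁻¹ * d) → d = e) :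
    S.ncard ≤ Nat.card {t : G // orderOf t = 2 ∧ t ∈ H} := by
  obtain ⟨t, ht, htz⟩ := h.exists_swap z z
  rw [← card_inv_fix z, ← Nat.card_coe_set_eq]
  refine Nat.card_le_card_of_injective (fun d => (⟨d.1 * t * d.1⁻¹, by rw [orderOf_conj, ht], ?_⟩ :
    {t : G // orderOf t = 2 ∧ t • z = z})) ?_
  · rw [mul_smul, mul_smul, inv_smul_eq_iff.2 (hS d.1 d.2).symm, htz, hS d.1 d.2]
  · intro d e hde
    have h1 : d.1 * t * d.1⁻¹ = e.1 * t * e.1⁻¹ := congrArg Subtype.val hde
    apply Subtype.ext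
    apply hinj _ d.2 _ e.2
    apply h.MA_cent ht htz
    calc e.1⁻¹ * d.1 * t = e.1⁻¹ * (d.1 * t * d.1⁻¹) * d.1 := by group
      _ = e.1⁻¹ * (e.1 * t * e.1⁻¹) * d.1 := by rw [h1]
      _ = t * (e.1⁻¹ * d.1) := by group

theorem inv_unique {t : G} (ht : orderOf t = 2) {z w : G ⧸ H} (hz : t • z = z) (hw : t • w = w) : z = w :=
  semb_fix_unique h.semb ht hz hw

end

section TI
variable (h : IA H A) (hti : ∀ x : G, x ∉ H → ∀ a ∈ A, x⁻¹ * a * x ∈ A → a = 1)
include h hti

theorem MA_ti {z w : G ⧸ H} {a : G} (hz : MA H A z a) (hw : MA H A w a) (hzw : z ≠ w) : a = 1 := by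
  obtain ⟨g, rfl⟩ := QuotientGroup.mk_surjective z
  obtain ⟨k, rfl⟩ := QuotientGroup.mk_surjective w
  rw [h.MA_mk] at hz hw
  have h1 : g⁻¹ * k ∉ H := fun hc => hzw (QuotientGroup.eq.2 hc)
  have h2 := hti (g⁻¹ * k) h1 _ hz (by
    have e : (g⁻¹ * k)⁻¹ * (g⁻¹ * a * g) * (g⁻¹ * k) = k⁻¹ * a * k := by group
    rw [e]; exact hw)
  have h3 : a = g * (g⁻¹ * a * g) * g⁻¹ := by group
  rw [h3, h2]; group

theorem semireg {z w : G ⧸ H} {a : G} (hz : MA H A z a) (hw : a • w = w) (hzw : z ≠ w) : a = 1 := by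
  classical
  by_contra ha1
  set m := Nat.card {t : G // orderOf t = 2 ∧ t ∈ H} with hm
  set S : Set G := {b | MA H A w b ∧ b • z = z} with hS
  have hS1 : S.ncard ≤ m := by
    apply h.card_le_of_fix (z := z)
    · intro d hd; exact hd.2
    · intro d hd e he hde
      have h1 : MA H A w (e⁻¹ * d) := h.MA_mul (h.MA_inv he.1) hd.1
      have h2 := h.MA_ti hti hde h1 hzw
      exact (inv_mul_eq_one.1 h2).symm
  -- the injection
  have hI : ∀ i : {i : G // orderOf i = 2 ∧ i • z = w}, i.1 * a * i.1⁻¹ ∈ S ∧ i.1 * a * i.1⁻¹ ≠ 1 := by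
    intro i
    have hiw : i.1 • w = z := swap_back i.2.1 i.2.2
    refine ⟨⟨?_, ?_⟩, ?_⟩
    · have := h.MA_conj i.1 hz
      rwa [i.2.2] at this
    · rw [mul_smul, mul_smul, inv_smul_eq_iff.2 hiw.symm, hw, hiw]
    · intro hc
      exact ha1 (by simpa using hc)
  have hinj : Function.Injective (fun i : {i : G // orderOf i = 2 ∧ i • z = w} =>
      (⟨i.1 * a * i.1⁻¹, (hI i).1, (hI i).2⟩ : ↥(S \ {1}))) := by
    intro i j hij
    by_contra hne
    have hne' : i.1 ≠ j.1 := fun e => hne (Subtype.ext e)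
    have h1 : i.1 * a * i.1⁻¹ = j.1 * a * j.1⁻¹ := congrArg (fun x : ↥(S \ {1}) => (x : G)) hij
    set b := i.1 * a * i.1⁻¹ with hb
    have hiw : i.1 • w = z := swap_back i.2.1 i.2.2
    have hjw : j.1 • w = z := swap_back j.2.1 j.2.2
    have hbS := (hI i).1
    rw [← hb] at hbS
    -- `a` and `b` commute
    have hab : a * b * a⁻¹ * b⁻¹ = 1 := by
      apply h.MA_ti hti (z := z) (w := w) _ _ hzw
      · have := h.MA_mul hz (h.MA_nrm hbS.2 (h.MA_inv hz))
        have e : a * (b * a⁻¹ * b⁻¹) = a * b * a⁻¹ * b⁻¹ := by group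
        rwa [e] at this
      · exact h.MA_mul (h.MA_nrm hw hbS.1) (h.MA_inv hbS.1)
    have hab' : a * b = b * a := by
      have e : a * b = (a * b * a⁻¹ * b⁻¹) * (b * a) := by group
      rw [e, hab, one_mul]
    have key : ∀ k : G, orderOf k = 2 → k * a * k⁻¹ = b → (a * b) * k = k * (a * b) := by
      intro k hk hkb
      have hkk := mul_self_of_orderOf_two hk
      have hkinv := inv_eq_self_of_mul_self hkk
      have h2 : k * b * k⁻¹ = a := by
        rw [← hkb]
        calc k * (k * a * k⁻¹) * k⁻¹ = (k * k) * a * (k * k)⁻¹ := by group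
          _ = a := by rw [hkk]; group
      have h3 : k * (a * b) * k⁻¹ = a * b := by
        calc k * (a * b) * k⁻¹ = (k * a * k⁻¹) * (k * b * k⁻¹) := by group
          _ = b * a := by rw [hkb, h2]
          _ = a * b := hab'.symm
      exact (mul_inv_eq_iff_eq_mul.1 h3).symm
    obtain ⟨zi, hzi⟩ := semb_exists_fix h.semb i.2.1
    obtain ⟨zj, hzj⟩ := semb_exists_fix h.semb j.2.1
    have hei := h.MA_cent i.2.1 hzi (key i.1 i.2.1 rfl)
    have hej := h.MA_cent j.2.1 hzj (key j.1 j.2.1 h1.symm)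
    by_cases hzz : zi = zj
    · have hci := h.MA_cent i.2.1 hzi (rfl : i.1 * i.1 = i.1 * i.1)
      have hcj := h.MA_cent j.2.1 hzj (rfl : j.1 * j.1 = j.1 * j.1)
      rw [← hzz] at hcj
      have hcomm := h.MA_comm hci hcj
      have h2 : (i.1 * j.1) * (i.1 * j.1) = 1 := by
        calc (i.1 * j.1) * (i.1 * j.1) = i.1 * (j.1 * i.1) * j.1 := by group
          _ = i.1 * (i.1 * j.1) * j.1 := by rw [hcomm]
          _ = (i.1 * i.1) * (j.1 * j.1) := by group
          _ = 1 := by rw [mul_self_of_orderOf_two i.2.1, mul_self_of_orderOf_two j.2.1, one_mul]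
      have h3 : i.1 * j.1 ≠ 1 := by
        intro hc
        apply hne'
        have := eq_inv_of_mul_eq_one_left hc
        rw [this, inv_eq_self_of_mul_self (mul_self_of_orderOf_two j.2.1)]
      apply hzw
      apply h.inv_unique (orderOf_two_of h2 h3)
      · rw [mul_smul, j.2.2, hiw]
      · rw [mul_smul, hjw, i.2.2]
    · have he1 := h.MA_ti hti hei hej hzz
      apply ha1
      have h2 : b = a⁻¹ := eq_inv_of_mul_eq_one_right he1
      have h3 : MA H A w a := by
        have := h.MA_inv hbS.1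
        rwa [h2, inv_inv] at this
      exact h.MA_ti hti hz h3 hzw
  have h2 := Nat.card_le_card_of_injective _ hinj
  rw [semb_card_swap h.semb z w, Nat.card_coe_set_eq] at h2
  have h1S : (1 : G) ∈ S := by
    refine ⟨?_, one_smul _ _⟩
    obtain ⟨g, rfl⟩ := QuotientGroup.mk_surjective w
    rw [h.MA_mk]
    simp
  have h3 : (S \ {1}).ncard + 1 = S.ncard := Set.ncard_sdiff_singleton_add_one h1S
  omega

theorem inverts_aux {z w : G ⧸ H} (hzw : z ≠ w) {u : G} (hu : orderOf u = 2) (huz : u • z = w) :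
    {d : G | d • z = z ∧ d • w = w}.ncard = Nat.card {t : G // orderOf t = 2 ∧ t ∈ H} ∧
    ∀ d : G, d • z = z → d • w = w → u * d * u⁻¹ = d⁻¹ := by
  classical
  set m := Nat.card {t : G // orderOf t = 2 ∧ t ∈ H} with hm
  set D : Set G := {d | d • z = z ∧ d • w = w} with hD
  set K : Set G := {d | (d • z = z ∧ d • w = w) ∧ u * d * u⁻¹ = d⁻¹} with hK
  have huw : u • w = z := by
    rw [← huz, ← mul_smul, mul_self_of_orderOf_two hu, one_smul]
  have hKD : K ⊆ D := fun d hd => hd.1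
  have hDm : D.ncard ≤ m := by
    apply h.card_le_of_fix (z := z)
    · intro d hd; exact hd.1
    · intro d hd e he hde
      have h1 : (e⁻¹ * d) • w = w := by rw [mul_smul, hd.2, inv_smul_eq_iff.2 he.2.symm]
      have h2 := h.semireg hti hde h1 hzw
      exact (inv_mul_eq_one.1 h2).symm
  have hKm : m ≤ K.ncard := by
    rw [hm, ← semb_card_swap h.semb z w, ← Nat.card_coe_set_eq]
    refine Nat.card_le_card_of_injective (fun i : {i : G // orderOf i = 2 ∧ i • z = w} => (⟨u * i.1, ?_⟩ : K)) ?_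
    · have hiw : i.1 • w = z := swap_back i.2.1 i.2.2
      refine ⟨⟨?_, ?_⟩, ?_⟩
      · rw [mul_smul, i.2.2, huw]
      · rw [mul_smul, hiw, huz]
      · have huu := mul_self_of_orderOf_two hu
        have hii := mul_self_of_orderOf_two i.2.1
        rw [mul_inv_rev, inv_eq_self_of_mul_self huu, inv_eq_self_of_mul_self hii, ← mul_assoc, huu, one_mul]
    · intro i j hij
      have : u * i.1 = u * j.1 := congrArg Subtype.val hij
      exact Subtype.ext (mul_left_cancel this)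
  have hle : K.ncard ≤ D.ncard := Set.ncard_le_ncard hKD (Set.toFinite _)
  have heq : K = D := Set.eq_of_subset_of_ncard_le hKD (by omega) (Set.toFinite _)
  refine ⟨by omega, ?_⟩
  intro d hdz hdw
  have : d ∈ K := by rw [heq]; exact ⟨hdz, hdw⟩
  exact this.2

theorem card_two {z w : G ⧸ H} (hzw : z ≠ w) :
    {d : G | d • z = z ∧ d • w = w}.ncard = Nat.card {t : G // orderOf t = 2 ∧ t ∈ H} := by
  obtain ⟨u, hu, huz⟩ := h.exists_swap z w
  exact (h.inverts_aux hti hzw hu huz).1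

theorem inverts {z w : G ⧸ H} (hzw : z ≠ w) {u : G} (hu : orderOf u = 2) (huz : u • z = w) {d : G}
    (hdz : d • z = z) (hdw : d • w = w) : u * d * u⁻¹ = d⁻¹ :=
  (h.inverts_aux hti hzw hu huz).2 d hdz hdw

/-- a non-identity element with two fixed points does not commute with an involution -/
theorem no_inv_comm {z w : G ⧸ H} (hzw : z ≠ w) {d : G} (hd1 : d ≠ 1) (hdz : d • z = z) (hdw : d • w = w)
    {t : G} (ht : orderOf t = 2) (htd : t * d = d * t) : False := by
  obtain ⟨x, hx⟩ := semb_exists_fix h.semb ht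
  have h1 := h.MA_cent ht hx htd.symm
  by_cases hxz : x = z
  · exact hd1 (h.semireg hti h1 hdw (by rw [hxz]; exact hzw))
  · exact hd1 (h.semireg hti h1 hdz hxz)

theorem sq_ne_one {z w : G ⧸ H} (hzw : z ≠ w) {d : G} (hd1 : d ≠ 1) (hdz : d • z = z) (hdw : d • w = w) :
    d * d ≠ 1 := by
  intro hc
  exact hzw (h.inv_unique (orderOf_two_of hc hd1) hdz hdw)

theorem no_inv_fix {z w x : G ⧸ H} (hzw : z ≠ w) {d : G} (hd1 : d ≠ 1) (hdz : d • z = z) (hdw : d • w = w)
    (hdx : d • x = x) {v : G} (hv : orderOf v = 2) (hvd : v * d * v⁻¹ = d⁻¹) (hvx : v • x = x) : False := by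
  have h1 := h.MA_cent hv hvx (rfl : v * v = v * v)
  have h2 := h.MA_mul h1 (h.MA_nrm hdx (h.MA_inv h1))
  have e : v * (d * v⁻¹ * d⁻¹) = d⁻¹ * d⁻¹ := by
    calc v * (d * v⁻¹ * d⁻¹) = (v * d * v⁻¹) * d⁻¹ := by group
      _ = d⁻¹ * d⁻¹ := by rw [hvd]
  rw [e] at h2
  have h3 : d⁻¹ * d⁻¹ ≠ 1 := by
    intro hc
    apply h.sq_ne_one hti hzw hd1 hdz hdw
    have := congrArg (fun t => t⁻¹) hc
    simpa using this
  have h4 : ∀ y : G ⧸ H, d • y = y → (d⁻¹ * d⁻¹) • y = y := by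
    intro y hy
    have : d⁻¹ • y = y := inv_smul_eq_iff.2 hy.symm
    rw [mul_smul, this, this]
  by_cases hxz : x = z
  · exact h3 (h.semireg hti h2 (h4 w hdw) (by rw [hxz]; exact hzw))
  · exact h3 (h.semireg hti h2 (h4 z hdz) hxz)

/-- non-identity elements fix at most two points -/
theorem fix_two {z w x : G ⧸ H} (hzw : z ≠ w) (hwx : w ≠ x) (hzx : z ≠ x) {d : G}
    (hdz : d • z = z) (hdw : d • w = w) (hdx : d • x = x) : d = 1 := by
  by_contra hd1
  obtain ⟨v1, h11, h12⟩ := h.exists_swap z w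
  obtain ⟨v2, h21, h22⟩ := h.exists_swap w x
  obtain ⟨v3, h31, h32⟩ := h.exists_swap z x
  have i1 := h.inverts hti hzw h11 h12 hdz hdw
  have i2 := h.inverts hti hwx h21 h22 hdw hdx
  have i3 := h.inverts hti hzx h31 h32 hdz hdx
  have s1 : v1 • w = z := by rw [← h12, ← mul_smul, mul_self_of_orderOf_two h11, one_smul]
  have s2 : v2 • x = w := by rw [← h22, ← mul_smul, mul_self_of_orderOf_two h21, one_smul]
  set c := v1 * v2 * v3 with hc
  have hcz : c • z = z := by rw [hc, mul_smul, mul_smul, h32, s2, s1]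
  have hflip : ∀ {v : G}, v * d * v⁻¹ = d⁻¹ → v * d⁻¹ * v⁻¹ = d := by
    intro v hv
    have h1 : (v * d * v⁻¹)⁻¹ = v * d⁻¹ * v⁻¹ := by group
    rw [← h1, hv, inv_inv]
  have hcd : c * d * c⁻¹ = d⁻¹ := by
    calc c * d * c⁻¹ = v1 * (v2 * (v3 * d * v3⁻¹) * v2⁻¹) * v1⁻¹ := by rw [hc]; group
      _ = d⁻¹ := by rw [i3, hflip i2, i1]
  have hccd : (c * c) * d = d * (c * c) := by
    have h1 : (c * c) * d * (c * c)⁻¹ = d := by
      calc (c * c) * d * (c * c)⁻¹ = c * (c * d * c⁻¹) * c⁻¹ := by group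
        _ = d := by rw [hcd, hflip hcd]
    exact mul_inv_eq_iff_eq_mul.1 h1
  -- the order of `c²` is odd
  have hodd : Odd (orderOf (c * c)) := by
    by_contra hne
    rw [Nat.not_odd_iff_even] at hne
    have h1 := even_pow_half (orderOf_pos (c * c)).ne' hne
    exact h.no_inv_comm hti hzw hd1 hdz hdw h1 ((show Commute (c * c) d from hccd).pow_left _).eq
  obtain ⟨k, hk⟩ := hodd
  set v := c * (c * c) ^ k with hv
  have hcomm : Commute c ((c * c) ^ k) := ((Commute.refl c).mul_right (Commute.refl c)).pow_right k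
  have hvv : v * v = 1 := by
    calc v * v = c * ((c * c) ^ k * c) * (c * c) ^ k := by rw [hv]; simp only [mul_assoc]
      _ = c * (c * (c * c) ^ k) * (c * c) ^ k := by rw [hcomm.eq]
      _ = (c * c) * ((c * c) ^ k * (c * c) ^ k) := by simp only [mul_assoc]
      _ = (c * c) ^ (2 * k + 1) := by rw [← pow_add, ← two_mul, pow_succ']
      _ = 1 := by rw [← hk, pow_orderOf_eq_one]
  have hvd : v * d * v⁻¹ = d⁻¹ := by
    have h1 : (c * c) ^ k * d = d * (c * c) ^ k := ((show Commute (c * c) d from hccd).pow_left k).eq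
    calc v * d * v⁻¹ = c * ((c * c) ^ k * d) * ((c * c) ^ k)⁻¹ * c⁻¹ := by rw [hv]; group
      _ = c * (d * (c * c) ^ k) * ((c * c) ^ k)⁻¹ * c⁻¹ := by rw [h1]
      _ = c * d * c⁻¹ := by group
      _ = d⁻¹ := hcd
  have hv1 : v ≠ 1 := by
    intro h1
    rw [h1, one_mul, inv_one, mul_one] at hvd
    apply h.sq_ne_one hti hzw hd1 hdz hdw
    nth_rewrite 2 [hvd]
    exact mul_inv_cancel d
  have hccz : (c * c) • z = z := by rw [mul_smul, hcz, hcz]
  have hpz : ∀ n : ℕ, (c * c) ^ n • z = z := by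
    intro n
    induction n with
    | zero => rw [pow_zero, one_smul]
    | succ n ih => rw [pow_succ, mul_smul, hccz, ih]
  have hvz : v • z = z := by rw [hv, mul_smul, hpz, hcz]
  exact h.no_inv_fix hti hzw hd1 hdz hdw hdz (orderOf_two_of hvv hv1) hvd hvz

end TI

end IA

end Cfsg.Agent.H4
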