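import Mathlib
import Cfsg.Agent.H4.IAc
import Cfsg.Agent.H20.ZPsl7

set_option autoImplicit false
set_option linter.unusedSectionVars false

/-! Groups with abelian centralizers of involutions: the TI case, identification. -/

namespace Cfsg.Agent.H4

open Cfsg

namespace IA

variable {G : Type*} [Group G] [Finite G] {H A : Subgroup G}

local notation "x₀" => (QuotientGroup.mk 1 : G ⧸ H)

theorem MA_pt (h : IA H A) {a : G} : MA H A (QuotientGroup.mk 1) a ↔ a ∈ A := by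
  rw [h.MA_mk]; simp

theorem factor (h : IA H A) {y : G ⧸ H} (hy : y ≠ QuotientGroup.mk 1) {k : G} (hk : k ∈ H) :
    ∃ d : G, d • (QuotientGroup.mk 1 : G ⧸ H) = QuotientGroup.mk 1 ∧ d • y = y ∧ d⁻¹ * k ∈ A := by
  obtain ⟨t, htH, ht⟩ := h.exists_inv
  obtain ⟨u, hu, huy⟩ := h.exists_swap (QuotientGroup.mk 1) y
  have hk' : k * t * k⁻¹ ∈ H := H.mul_mem (H.mul_mem hk htH) (H.inv_mem hk)
  obtain ⟨d, hd1, hd2, hd3⟩ := semb_conj_in_two_point h.semb huy (swap_back hu huy) (Ne.symm hy) ht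
    (smul_pt_eq.2 htH) (t := k * t * k⁻¹) (by rw [orderOf_conj, ht]) (smul_pt_eq.2 hk')
  refine ⟨d, hd1, hd2, ?_⟩
  apply h.cent t htH ht
  calc d⁻¹ * k * t = d⁻¹ * (k * t * k⁻¹) * k := by group
    _ = d⁻¹ * (d * t * d⁻¹) * k := by rw [hd3]
    _ = t * (d⁻¹ * k) := by group

section TI
variable (h : IA H A) (hti : ∀ x : G, x ∉ H → ∀ a ∈ A, x⁻¹ * a * x ∈ A → a = 1)
include h hti

theorem card_H : Nat.card H = Nat.card A * Nat.card {t : G // orderOf t = 2 ∧ t ∈ H} := by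
  obtain ⟨g, hg⟩ : ∃ g : G, g ∉ H := by
    by_contra hcon
    push Not at hcon
    exact h.semb.1 (eq_top_iff.2 fun g _ => hcon g)
  set y : G ⧸ H := QuotientGroup.mk g with hy
  have hyx : y ≠ QuotientGroup.mk 1 := by
    intro hc
    rw [hy, QuotientGroup.eq] at hc
    simp at hc
    exact hg hc
  set D : Set G := {d | d • (QuotientGroup.mk 1 : G ⧸ H) = QuotientGroup.mk 1 ∧ d • y = y} with hD
  have hDm : D.ncard = Nat.card {t : G // orderOf t = 2 ∧ t ∈ H} := h.card_two hti (Ne.symm hyx)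
  rw [← hDm, ← Nat.card_coe_set_eq, ← Nat.card_prod]
  symm
  apply Nat.card_congr
  refine Equiv.ofBijective (fun p : A × D => (⟨p.2.1 * p.1.1, H.mul_mem (smul_pt_eq.1 p.2.2.1) (h.le p.1.2)⟩ : H)) ⟨?_, ?_⟩
  · rintro ⟨a, d⟩ ⟨b, e⟩ hab
    have h1 : d.1 * a.1 = e.1 * b.1 := congrArg Subtype.val hab
    have h2 : e.1⁻¹ * d.1 = b.1 * a.1⁻¹ := by
      calc e.1⁻¹ * d.1 = e.1⁻¹ * (d.1 * a.1) * a.1⁻¹ := by group
        _ = b.1 * a.1⁻¹ := by rw [h1]; group
    have h3 : MA H A (QuotientGroup.mk 1) (e.1⁻¹ * d.1) := by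
      rw [h.MA_pt, h2]; exact A.mul_mem b.2 (A.inv_mem a.2)
    have h4 : (e.1⁻¹ * d.1) • y = y := by rw [mul_smul, d.2.2, inv_smul_eq_iff.2 e.2.2.symm]
    have h5 := h.semireg hti h3 h4 (Ne.symm hyx)
    have h6 : e.1 = d.1 := inv_mul_eq_one.1 h5
    have h7 : a.1 = b.1 := by rw [h6] at h1; exact mul_left_cancel h1
    exact Prod.ext (Subtype.ext h7) (Subtype.ext h6.symm)
  · rintro ⟨k, hk⟩
    obtain ⟨d, hd1, hd2, hd3⟩ := h.factor hyx hk
    refine ⟨(⟨d⁻¹ * k, hd3⟩, ⟨d, hd1, hd2⟩), Subtype.ext ?_⟩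
    change d * (d⁻¹ * k) = k
    group

theorem count : {y : G ⧸ H | y ≠ QuotientGroup.mk 1}.ncard = Nat.card A ∧
    (∀ k ∈ H, k ∉ A → ∃ y : G ⧸ H, y ≠ QuotientGroup.mk 1 ∧ k • y = y) := by
  classical
  let _ : Fintype (G ⧸ H) := Fintype.ofFinite _
  set m := Nat.card {t : G // orderOf t = 2 ∧ t ∈ H} with hm
  have hm3 := h.three
  rw [← hm] at hm3
  set Y := {y : G ⧸ H // y ≠ QuotientGroup.mk 1} with hY
  let D : Y → Type _ := fun y => {d : G // d ≠ 1 ∧ d • (QuotientGroup.mk 1 : G ⧸ H) = QuotientGroup.mk 1 ∧ d • y.1 = y.1}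
  have hDc : ∀ y : Y, Nat.card (D y) = m - 1 := by
    intro y
    have h1 := h.card_two hti (Ne.symm y.2)
    rw [← hm] at h1
    have h2 : (1 : G) ∈ {d : G | d • (QuotientGroup.mk 1 : G ⧸ H) = QuotientGroup.mk 1 ∧ d • y.1 = y.1} :=
      ⟨one_smul _ _, one_smul _ _⟩
    have h3 := Set.ncard_sdiff_singleton_add_one h2
    have h4 : Nat.card (D y) = ({d : G | d • (QuotientGroup.mk 1 : G ⧸ H) = QuotientGroup.mk 1 ∧ d • y.1 = y.1} \ {1}).ncard := by
      rw [← Nat.card_coe_set_eq]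
      apply Nat.card_congr
      apply Equiv.subtypeEquivRight
      intro d
      change _ ↔ (_ ∧ _)
      simp only [Set.mem_ofPred_eq, Set.mem_singleton_iff]
      tauto
    omega
  set T := {k : G // k ∈ H ∧ k ∉ A} with hT
  have hTc : Nat.card T + Nat.card A = Nat.card A * m := by
    rw [← h.card_H hti]
    have h1 : Nat.card T = ((H : Set G) \ A).ncard := by
      rw [← Nat.card_coe_set_eq]; rfl
    have h2 := Set.ncard_sdiff_add_ncard_of_subset (s := (A : Set G)) (t := (H : Set G)) h.le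
    rw [h1]
    exact h2
  let f : (Σ y : Y, D y) → T := fun p => ⟨p.2.1, smul_pt_eq.1 p.2.2.2.1, fun hc =>
    p.2.2.1 (h.semireg hti (h.MA_pt.2 hc) p.2.2.2.2 (Ne.symm p.1.2))⟩
  have hf : Function.Injective f := by
    rintro ⟨y, d⟩ ⟨w, e⟩ hde
    have h1 : d.1 = e.1 := congrArg Subtype.val hde
    have h2 : y = w := by
      by_contra hne
      have hne' : y.1 ≠ w.1 := fun e => hne (Subtype.ext e)
      apply d.2.1
      refine h.fix_two hti (Ne.symm y.2) hne' (Ne.symm w.2) d.2.2.1 d.2.2.2 ?_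
      rw [h1]; exact e.2.2.2
    subst h2
    have h3 : d = e := Subtype.ext h1
    rw [h3]
  have hS : Nat.card (Σ y : Y, D y) = Nat.card Y * (m - 1) := by
    rw [Nat.card_sigma]
    rw [Finset.sum_congr rfl (fun y _ => hDc y), Finset.sum_const, smul_eq_mul, Finset.card_univ,
      Nat.card_eq_fintype_card]
  have hle := Nat.card_le_card_of_injective f hf
  rw [hS] at hle
  have hTc' : Nat.card T = Nat.card A * (m - 1) := by
    have : Nat.card A * m = Nat.card A * (m - 1) + Nat.card A := by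
      obtain ⟨k, hk⟩ : ∃ k, m = k + 1 := ⟨m - 1, by omega⟩
      rw [hk, Nat.add_sub_cancel, mul_add, mul_one]
    omega
  have hYA : Nat.card Y ≤ Nat.card A := by
    rw [hTc'] at hle
    exact Nat.le_of_mul_le_mul_right hle (by omega)
  -- the other inequality
  obtain ⟨g, hg⟩ : ∃ g : G, g ∉ H := by
    by_contra hcon
    push Not at hcon
    exact h.semb.1 (eq_top_iff.2 fun g _ => hcon g)
  have hyx : (QuotientGroup.mk g : G ⧸ H) ≠ QuotientGroup.mk 1 := by
    intro hc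
    rw [QuotientGroup.eq] at hc
    simp at hc
    exact hg hc
  have hAY : Nat.card A ≤ Nat.card Y := by
    refine Nat.card_le_card_of_injective (fun a : A => (⟨a.1 • (QuotientGroup.mk g : G ⧸ H), ?_⟩ : Y)) ?_
    · intro hc
      apply hyx
      have h1 : a.1 • (QuotientGroup.mk 1 : G ⧸ H) = QuotientGroup.mk 1 := smul_pt_eq.2 (h.le a.2)
      have h2 : (QuotientGroup.mk g : G ⧸ H) = a.1⁻¹ • (QuotientGroup.mk 1 : G ⧸ H) := by rw [← hc, inv_smul_smul]
      rw [h2, inv_smul_eq_iff, h1]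
    · intro a b hab
      have h1 : a.1 • (QuotientGroup.mk g : G ⧸ H) = b.1 • (QuotientGroup.mk g : G ⧸ H) := congrArg Subtype.val hab
      have h2 : (b.1⁻¹ * a.1) • (QuotientGroup.mk g : G ⧸ H) = QuotientGroup.mk g := by
        rw [mul_smul, h1, inv_smul_smul]
      have h3 := h.semireg hti (h.MA_pt.2 (A.mul_mem (A.inv_mem b.2) a.2)) h2 (Ne.symm hyx)
      exact Subtype.ext (inv_mul_eq_one.1 h3).symm
  have heq : Nat.card Y = Nat.card A := le_antisymm hYA hAY
  refine ⟨?_, ?_⟩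
  · rw [← heq, ← Nat.card_coe_set_eq]; rfl
  · intro k hk hkA
    have hbij : Function.Bijective f := by
      have : Finite (Σ y : Y, D y) := inferInstance
      rw [Nat.bijective_iff_injective_and_card]
      exact ⟨hf, by rw [hS, hTc', heq]⟩
    obtain ⟨⟨y, d⟩, hyd⟩ := hbij.2 ⟨k, hk, hkA⟩
    have h1 : d.1 = k := congrArg Subtype.val hyd
    exact ⟨y.1, y.2, by rw [← h1]; exact d.2.2.2⟩

theorem card_pts : Nat.card (G ⧸ H) = Nat.card A + 1 := by
  have h1 := (h.count hti).1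
  have h2 := Set.ncard_add_ncard_compl {y : G ⧸ H | y ≠ QuotientGroup.mk 1} (Set.toFinite _) (Set.toFinite _)
  have h3 : {y : G ⧸ H | y ≠ QuotientGroup.mk 1}ᶜ = {QuotientGroup.mk 1} := by
    ext y; simp
  rw [h3, Set.ncard_singleton, h1] at h2
  exact h2.symm

theorem A_trans {y w : G ⧸ H} (hy : y ≠ QuotientGroup.mk 1) (hw : w ≠ QuotientGroup.mk 1) :
    ∃ a ∈ A, a • y = w := by
  classical
  set Y := {y : G ⧸ H // y ≠ QuotientGroup.mk 1} with hY
  have hYc : Nat.card Y = Nat.card A := by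
    rw [← (h.count hti).1, ← Nat.card_coe_set_eq]; rfl
  have hne : ∀ a : A, a.1 • y ≠ QuotientGroup.mk 1 := by
    intro a hc
    apply hy
    have h1 : a.1 • (QuotientGroup.mk 1 : G ⧸ H) = QuotientGroup.mk 1 := smul_pt_eq.2 (h.le a.2)
    have h2 : y = a.1⁻¹ • (QuotientGroup.mk 1 : G ⧸ H) := by rw [← hc, inv_smul_smul]
    rw [h2, inv_smul_eq_iff, h1]
  let f : A → Y := fun a => ⟨a.1 • y, hne a⟩
  have hf : Function.Injective f := by
    intro a b hab
    have h1 : a.1 • y = b.1 • y := congrArg Subtype.val hab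
    have h2 : (b.1⁻¹ * a.1) • y = y := by rw [mul_smul, h1, inv_smul_smul]
    have h3 := h.semireg hti (h.MA_pt.2 (A.mul_mem (A.inv_mem b.2) a.2)) h2 (Ne.symm hy)
    exact Subtype.ext (inv_mul_eq_one.1 h3).symm
  have hbij : Function.Bijective f := by
    rw [Nat.bijective_iff_injective_and_card]
    exact ⟨hf, hYc.symm⟩
  obtain ⟨a, ha⟩ := hbij.2 ⟨w, hw⟩
  exact ⟨a.1, a.2, congrArg Subtype.val ha⟩

theorem four_le : 4 ≤ Nat.card A := by
  have h3 := h.three
  have : Nat.card {t : G // orderOf t = 2 ∧ t ∈ H} + 1 ≤ Nat.card A := by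
    have h1 : Nat.card {t : G // orderOf t = 2 ∧ t ∈ H} ≤ ((A : Set G) \ {1}).ncard := by
      rw [← Nat.card_coe_set_eq]
      refine Nat.card_le_card_of_injective (fun t => (⟨t.1, h.inv_mem t.2.2 t.2.1, ?_⟩ : ↥((A : Set G) \ {1}))) ?_
      · exact ne_one_of_orderOf_two t.2.1
      · intro s t hst
        exact Subtype.ext (congrArg (fun x : ↥((A : Set G) \ {1}) => (x : G)) hst)
    have h2 : ((A : Set G) \ {1}).ncard + 1 = (A : Set G).ncard := Set.ncard_sdiff_singleton_add_one A.one_mem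
    have h4 : (A : Set G).ncard = Nat.card A := rfl
    omega
  omega

theorem zass : IsZassenhausGroup G (G ⧸ H) := by
  classical
  have hc := h.card_pts hti
  have h4 := h.four_le hti
  have hthree : 2 < Nat.card (G ⧸ H) := by omega
  have h3pts : ∃ a b c : G ⧸ H, a ≠ b ∧ a ≠ c ∧ b ≠ c := by
    let _ : Fintype (G ⧸ H) := Fintype.ofFinite _
    rw [Nat.card_eq_fintype_card, Fintype.two_lt_card_iff] at hthree
    exact hthree
  refine ⟨?_, ?_, ?_, ?_, ?_⟩
  · constructor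
    intro g g' hgg
    have hfix : ∀ x : G ⧸ H, (g'⁻¹ * g) • x = x := by
      intro x
      rw [mul_smul, hgg x, inv_smul_smul]
    obtain ⟨a, b, c, hab, hac, hbc⟩ := h3pts
    have h8 := h.fix_two hti hab hbc hac (hfix a) (hfix b) (hfix c)
    exact (inv_mul_eq_one.mp h8).symm
  · rw [MulAction.is_two_pretransitive_iff]
    intro a b c d hab hcd
    obtain ⟨g, rfl⟩ := QuotientGroup.mk_surjective a
    obtain ⟨g', rfl⟩ := QuotientGroup.mk_surjective c
    have e1 : (QuotientGroup.mk g : G ⧸ H) = g • (QuotientGroup.mk 1 : G ⧸ H) := (smul_pt g).symm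
    have e2 : (QuotientGroup.mk g' : G ⧸ H) = g' • (QuotientGroup.mk 1 : G ⧸ H) := (smul_pt g').symm
    have h1 : g⁻¹ • b ≠ QuotientGroup.mk 1 := by
      intro hc
      apply hab
      rw [e1, ← hc, smul_inv_smul]
    have h2 : g'⁻¹ • d ≠ QuotientGroup.mk 1 := by
      intro hc
      apply hcd
      rw [e2, ← hc, smul_inv_smul]
    obtain ⟨z, hz, hz2⟩ := h.A_trans hti h1 h2
    have hzp : z • (QuotientGroup.mk 1 : G ⧸ H) = QuotientGroup.mk 1 := smul_pt_eq.2 (h.le hz)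
    refine ⟨g' * z * g⁻¹, ?_, ?_⟩
    · rw [e1, e2, mul_smul, mul_smul, inv_smul_smul, hzp]
    · rw [mul_smul, mul_smul, hz2, smul_inv_smul]
  · intro g a b c hab hbc hac ha hb hc
    exact h.fix_two hti hab hbc hac ha hb hc
  · obtain ⟨a, b, c, hab, -, -⟩ := h3pts
    have h1 := h.card_two hti hab
    have h2 := h.three
    rw [← h1] at h2
    have h3 : ∃ d ∈ {d : G | d • a = a ∧ d • b = b}, d ≠ 1 := by
      by_contra hcon
      push Not at hcon
      have : {d : G | d • a = a ∧ d • b = b} ⊆ {1} := fun d hd => hcon d hd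
      have := Set.ncard_le_ncard this (Set.toFinite _)
      rw [Set.ncard_singleton] at this
      omega
    obtain ⟨d, hd, hd1⟩ := h3
    exact ⟨d, hd1, a, b, hab, hd.1, hd.2⟩
  · intro N hN htr
    by_contra hcon
    push Not at hcon
    have hreg : ∀ y ∈ N, ∀ z : G ⧸ H, y • z = z → y = 1 := by
      intro y hy z hyz
      have h5 := hcon z
      have : (⟨y, hy⟩ : N) ∈ (⊥ : Subgroup N) := by
        rw [← h5]; exact hyz
      rw [Subgroup.mem_bot] at this
      exact congrArg Subtype.val this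
    have hinv : ∀ t ∈ H, orderOf t = 2 → ∀ y ∈ N, t * y * t⁻¹ = y⁻¹ := by
      intro t htH ht
      have htN : ∀ y ∈ N, t * y * t⁻¹ ∈ N := fun y hy => hN.conj_mem y hy t
      let φ : N → N := fun y => ⟨y.1⁻¹ * (t * y.1 * t⁻¹), N.mul_mem (N.inv_mem y.2) (htN _ y.2)⟩
      have hφ : Function.Injective φ := by
        intro y z hyz
        have h1 : y.1⁻¹ * (t * y.1 * t⁻¹) = z.1⁻¹ * (t * z.1 * t⁻¹) := congrArg Subtype.val hyz
        have h2 : (z.1 * y.1⁻¹) * t = t * (z.1 * y.1⁻¹) := by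
          calc (z.1 * y.1⁻¹) * t = z.1 * (y.1⁻¹ * (t * y.1 * t⁻¹)) * (t * y.1⁻¹) := by group
            _ = z.1 * (z.1⁻¹ * (t * z.1 * t⁻¹)) * (t * y.1⁻¹) := by rw [h1]
            _ = t * (z.1 * y.1⁻¹) := by group
        have h3 := h.cent t htH ht _ h2
        have h4 := hreg _ (N.mul_mem z.2 (N.inv_mem y.2)) (QuotientGroup.mk 1) (smul_pt_eq.2 (h.le h3))
        exact Subtype.ext (mul_inv_eq_one.1 h4).symm
      intro z hz
      obtain ⟨y, hy⟩ := (Finite.injective_iff_surjective.1 hφ) ⟨z, hz⟩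
      have h1 : y.1⁻¹ * (t * y.1 * t⁻¹) = z := congrArg Subtype.val hy
      have htt := mul_self_of_orderOf_two ht
      rw [← h1]
      calc t * (y.1⁻¹ * (t * y.1 * t⁻¹)) * t⁻¹ = (t * y.1⁻¹ * t⁻¹) * ((t * t) * y.1 * (t * t)⁻¹) := by group
        _ = (t * y.1⁻¹ * t⁻¹) * y.1 := by rw [htt]; group
        _ = (y.1⁻¹ * (t * y.1 * t⁻¹))⁻¹ := by group
    obtain ⟨s, t, hst⟩ : ∃ s t : {t : G // orderOf t = 2 ∧ t ∈ H}, s ≠ t := by
      have h3 := h.three
      have : Nontrivial {t : G // orderOf t = 2 ∧ t ∈ H} := Finite.one_lt_card_iff_nontrivial.1 (by omega)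
      exact exists_pair_ne _
    obtain ⟨g, hg⟩ : ∃ g : G, g ∉ H := by
      by_contra hcon
      push Not at hcon
      exact h.semb.1 (eq_top_iff.2 fun g _ => hcon g)
    obtain ⟨y, hy⟩ := htr.exists_smul_eq (QuotientGroup.mk 1 : G ⧸ H) (QuotientGroup.mk g)
    have hy' : (y : G) • (QuotientGroup.mk 1 : G ⧸ H) = QuotientGroup.mk g := hy
    have hcy : (s.1 * t.1) * (y : G) = (y : G) * (s.1 * t.1) := by
      have h1 := hinv t.1 t.2.2 t.2.1 y y.2
      have h2 := hinv s.1 s.2.2 s.2.1 _ (N.inv_mem y.2)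
      have h3 : (s.1 * t.1) * (y : G) * (s.1 * t.1)⁻¹ = y := by
        calc (s.1 * t.1) * (y : G) * (s.1 * t.1)⁻¹ = s.1 * (t.1 * (y : G) * t.1⁻¹) * s.1⁻¹ := by group
          _ = y := by rw [h1, h2, inv_inv]
      exact mul_inv_eq_iff_eq_mul.1 h3
    have hstA : s.1 * t.1 ∈ A := A.mul_mem (h.inv_mem s.2.2 s.2.1) (h.inv_mem t.2.2 t.2.1)
    have hfix : (s.1 * t.1) • (QuotientGroup.mk g : G ⧸ H) = QuotientGroup.mk g := by
      rw [← hy', ← mul_smul, hcy, mul_smul, smul_pt_eq.2 (h.le hstA)]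
    have hne : (QuotientGroup.mk 1 : G ⧸ H) ≠ QuotientGroup.mk g := by
      intro hc
      rw [QuotientGroup.eq] at hc
      simp at hc
      exact hg hc
    have h1 := h.semireg hti (h.MA_pt.2 hstA) hfix hne
    apply hst
    apply Subtype.ext
    rw [eq_inv_of_mul_eq_one_left h1, inv_eq_self_of_mul_self (mul_self_of_orderOf_two t.2.1)]

open MulAction in
theorem ident : Nat.card A = Nat.card {t : G // orderOf t = 2 ∧ t ∈ H} + 1 ∧
    ∃ (F : Type) (_ : Field F) (_ : Fintype F), ringChar F = 2 ∧ Fintype.card F = Nat.card A ∧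
      Nonempty (G ≃* Matrix.ProjectiveSpecialLinearGroup (Fin 2) F) := by
  classical
  have hZ := h.zass hti
  have hc := h.card_pts hti
  have h4 := h.four_le hti
  set m := Nat.card {t : G // orderOf t = 2 ∧ t ∈ H} with hm
  have hm3 := h.three
  rw [← hm] at hm3
  have hK : A = H20.Zass.K hZ (QuotientGroup.mk 1 : G ⧸ H) := by
    apply H20.Zass.eq_K hZ
    · intro a ha
      exact smul_pt_eq.2 (h.le ha)
    · intro a ha ha1 c hca
      by_contra hne
      exact ha1 (h.semireg hti (h.MA_pt.2 ha) hca (Ne.symm hne))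
    · exact hc.symm
  obtain ⟨g, hg⟩ : ∃ g : G, g ∉ H := by
    by_contra hcon
    push Not at hcon
    exact h.semb.1 (eq_top_iff.2 fun g _ => hcon g)
  have hne : (QuotientGroup.mk 1 : G ⧸ H) ≠ QuotientGroup.mk g := by
    intro hc
    rw [QuotientGroup.eq] at hc
    simp at hc
    exact hg hc
  have hD : Nat.card ↥(stabilizer G (QuotientGroup.mk 1 : G ⧸ H) ⊓ stabilizer G (QuotientGroup.mk g : G ⧸ H)) = m := by
    have h1 := h.card_two hti hne
    rw [← Nat.card_coe_set_eq] at h1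
    rw [hm, ← h1]
    rfl
  have hodd : Odd (Nat.card ↥(stabilizer G (QuotientGroup.mk 1 : G ⧸ H) ⊓ stabilizer G (QuotientGroup.mk g : G ⧸ H))) := by
    by_contra ho
    obtain ⟨s, hs, hs2⟩ := exists_involution ho
    exact hne (h.inv_unique hs2 hs.1 hs.2)
  have hle := H20.Zass.card_le_of_abelian_odd _ hZ le_rfl hne hodd (by
    rw [← hK]; exact h.comm)
  have hdvd := H20.Zass.card_two_pt_dvd hZ hne
  have hAeven : Even (Nat.card A) := by
    obtain ⟨t, htH, ht⟩ := h.exists_inv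
    rw [← Nat.not_odd_iff_even]
    exact not_odd_card_of_mem (h.inv_mem htH ht) ht
  rw [hD, hc] at hle hdvd
  have hAm : Nat.card A = m + 1 := by
    obtain ⟨j, hj⟩ := hdvd
    have hj2 : j ≤ 2 := by
      by_contra hcon
      have : m * 3 ≤ m * j := Nat.mul_le_mul_left _ (by omega)
      omega
    obtain ⟨r, hr⟩ := hAeven
    interval_cases j
    · omega
    · omega
    · omega
  refine ⟨hAm, ?_⟩
  obtain ⟨u, hu, huy⟩ := h.exists_swap (QuotientGroup.mk 1) (QuotientGroup.mk g)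
  have hinv : ∀ d ∈ (stabilizer G (QuotientGroup.mk 1 : G ⧸ H) ⊓ stabilizer G (QuotientGroup.mk g : G ⧸ H) : Subgroup G),
      u * d * u⁻¹ = d⁻¹ := fun d hd => h.inverts hti hne hu huy hd.1 hd.2
  obtain ⟨F, i1, i2, hF, hcF, hiso⟩ := H20.Zass.psl_of_sharp_odd hZ hne hodd (by rw [hD, hc]; omega) (by
    intro x hx y hy
    have h1 := hinv _ hx
    have h2 := hinv _ hy
    have h3 := hinv _ (Subgroup.mul_mem _ hx hy)
    have h5 : u * (x * y) * u⁻¹ = x⁻¹ * y⁻¹ := by rw [← h1, ← h2]; group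
    rw [h5] at h3
    have := congrArg (fun z => z⁻¹) h3
    simp only [mul_inv_rev, inv_inv] at this
    exact this.symm) huy (swap_back hu huy) hinv
  exact ⟨F, i1, i2, hF, by omega, hiso⟩

end TI

end IA

end Cfsg.Agent.H4
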