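import Mathlib
import Cfsg.Agent.H4.IAd

set_option autoImplicit false
set_option linter.unusedSectionVars false

/-! Groups with abelian centralizers of involutions: no large subgroups of odd order. -/

namespace Cfsg.Agent.H4

open Cfsg

namespace IA

variable {G : Type*} [Group G] [Finite G] {H A : Subgroup G}

section TI
variable (h : IA H A) (hti : ∀ x : G, x ∉ H → ∀ a ∈ A, x⁻¹ * a * x ∈ A → a = 1)
include h hti

theorem A_two : ∃ n : ℕ, Nat.card A = 2 ^ n := by
  obtain ⟨-, F, i1, i2, hF, hc, -⟩ := h.ident hti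
  obtain ⟨p, hp, n, hpn, hcard⟩ := FiniteField.card' F
  have : ringChar F = p := ringChar.eq F p
  rw [hF] at this
  subst this
  exact ⟨n, by rw [← hc, hcard]⟩

theorem MA_odd {z : G ⧸ H} {a : G} (ha : MA H A z a) (ho : Odd (orderOf a)) : a = 1 := by
  obtain ⟨n, hn⟩ := h.A_two hti
  obtain ⟨g, -, hg⟩ := ha
  have h1 : orderOf (g⁻¹ * a * g) = orderOf a := by
    have := orderOf_conj a g⁻¹
    rwa [inv_inv] at this
  have h2 : orderOf (g⁻¹ * a * g) ∣ 2 ^ n := by
    rw [← hn]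
    have := orderOf_dvd_natCard (⟨g⁻¹ * a * g, hg⟩ : A)
    rwa [Subgroup.orderOf_mk] at this
  rw [h1] at h2
  obtain ⟨k, -, hk⟩ := (Nat.dvd_prime_pow Nat.prime_two).1 h2
  rw [← orderOf_eq_one_iff, hk]
  rcases Nat.eq_zero_or_pos k with rfl | hpos
  · rw [pow_zero]
  · exfalso
    rw [hk] at ho
    exact (Nat.not_even_iff_odd.2 ho) (Nat.even_pow.2 ⟨even_two, hpos.ne'⟩)

omit h hti in
theorem odd_of_mem {W : Subgroup G} (hW : Odd (Nat.card W)) {w : G} (hw : w ∈ W) : Odd (orderOf w) := by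
  have := orderOf_dvd_natCard (⟨w, hw⟩ : W)
  rw [Subgroup.orderOf_mk] at this
  exact hW.of_dvd_nat this

theorem W_facts {W : Subgroup G} (hW : Odd (Nat.card W))
    (hbig : (Nat.card {t : G // orderOf t = 2 ∧ t ∈ H} + 2) * Nat.card {t : G // orderOf t = 2 ∧ t ∈ H} ≤ Nat.card W)
    (z : G ⧸ H) : {w : G | w ∈ W ∧ w • z = z}.ncard = Nat.card {t : G // orderOf t = 2 ∧ t ∈ H} ∧
      ∀ y : G ⧸ H, ∃ w ∈ W, w • z = y := by
  classical
  let _ : Fintype G := Fintype.ofFinite _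
  let _ : Fintype (G ⧸ H) := Fintype.ofFinite _
  set m := Nat.card {t : G // orderOf t = 2 ∧ t ∈ H} with hm
  have hm3 := h.three
  rw [← hm] at hm3
  have hpts : Nat.card (G ⧸ H) = m + 2 := by rw [h.card_pts hti, (h.ident hti).1]
  set S : Set G := {w : G | w ∈ W ∧ w • z = z} with hS
  have hSm : S.ncard ≤ m := by
    apply h.card_le_of_fix (z := z)
    · intro d hd; exact hd.2
    · intro d hd e he hde
      have h1 : e⁻¹ * d ∈ W := W.mul_mem (W.inv_mem he.1) hd.1
      have h2 := h.MA_odd hti hde (odd_of_mem hW h1)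
      exact (inv_mul_eq_one.1 h2).symm
  set WF : Finset G := Finset.univ.filter (fun w => w ∈ W) with hWF
  have hWFc : WF.card = Nat.card W := by
    rw [hWF, ← Fintype.card_subtype, ← Nat.card_eq_fintype_card]
  have hfib : ∀ y ∈ WF.image (fun w => w • z), (WF.filter (fun w => w • z = y)).card ≤ S.ncard := by
    intro y hy
    obtain ⟨w0, hw0, rfl⟩ := Finset.mem_image.1 hy
    have hw0W : w0 ∈ W := (Finset.mem_filter.1 hw0).2
    rw [← Set.ncard_coe_finset]
    apply Set.ncard_le_ncard_of_injOn (fun w => w0⁻¹ * w)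
    · intro w hw
      have hw' := Finset.mem_filter.1 (Finset.mem_coe.1 hw)
      refine ⟨W.mul_mem (W.inv_mem hw0W) (Finset.mem_filter.1 hw'.1).2, ?_⟩
      change (w0⁻¹ * w) • z = z
      rw [mul_smul, hw'.2, inv_smul_smul]
    · intro a _ b _ hab
      exact mul_left_cancel hab
  have hle := Finset.card_le_mul_card_image WF _ hfib
  have himg : (WF.image (fun w => w • z)).card ≤ m + 2 := by
    rw [← hpts, Nat.card_eq_fintype_card]
    exact Finset.card_le_univ _
  rw [hWFc] at hle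
  have h1 : (m + 2) * m ≤ S.ncard * (WF.image (fun w => w • z)).card := hbig.trans hle
  have h2 : S.ncard = m := by
    by_contra hne
    have h3 : S.ncard + 1 ≤ m := by omega
    have h4 : S.ncard * (WF.image (fun w => w • z)).card ≤ S.ncard * (m + 2) := Nat.mul_le_mul_left _ himg
    have h5 : (S.ncard + 1) * (m + 2) ≤ m * (m + 2) := Nat.mul_le_mul_right _ h3
    nlinarith
  refine ⟨h2, ?_⟩
  have h3 : (WF.image (fun w => w • z)).card = m + 2 := by
    rw [h2] at h1
    have h4 : (m + 2) * m ≤ (WF.image (fun w => w • z)).card * m := by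
      rw [mul_comm (WF.image _).card]; exact h1
    have h5 := Nat.le_of_mul_le_mul_right h4 (by omega)
    omega
  have h4 : WF.image (fun w => w • z) = Finset.univ := by
    apply Finset.eq_univ_of_card
    rw [h3, ← hpts, Nat.card_eq_fintype_card]
  intro y
  have h5 : y ∈ WF.image (fun w => w • z) := by rw [h4]; exact Finset.mem_univ _
  obtain ⟨w, hw, hwy⟩ := Finset.mem_image.1 h5
  exact ⟨w, (Finset.mem_filter.1 hw).2, hwy⟩

theorem nobig {W : Subgroup G} (hW : Odd (Nat.card W)) :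
    Nat.card W < (Nat.card {t : G // orderOf t = 2 ∧ t ∈ H} + 2) * Nat.card {t : G // orderOf t = 2 ∧ t ∈ H} := by
  by_contra hbig
  push Not at hbig
  have hf := h.W_facts hti hW hbig
  set m := Nat.card {t : G // orderOf t = 2 ∧ t ∈ H} with hm
  have hm3 := h.three
  rw [← hm] at hm3
  -- a non-identity element of `W` fixing the base point
  obtain ⟨w, hw, hw1⟩ : ∃ w ∈ {w : G | w ∈ W ∧ w • (QuotientGroup.mk 1 : G ⧸ H) = QuotientGroup.mk 1}, w ≠ 1 := by
    by_contra hcon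
    push Not at hcon
    have h1 : {w : G | w ∈ W ∧ w • (QuotientGroup.mk 1 : G ⧸ H) = QuotientGroup.mk 1} ⊆ {1} := fun d hd => hcon d hd
    have h2 := Set.ncard_le_ncard h1 (Set.toFinite _)
    rw [Set.ncard_singleton, (hf _).1] at h2
    omega
  have hwH : w ∈ H := smul_pt_eq.1 hw.2
  have hwA : w ∉ A := fun hc => hw1 (h.MA_odd hti (h.MA_pt.2 hc) (odd_of_mem hW hw.1))
  obtain ⟨y, hy, hwy⟩ := (h.count hti).2 w hwH hwA
  have hx0 : w • (QuotientGroup.mk 1 : G ⧸ H) = QuotientGroup.mk 1 := hw.2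
  obtain ⟨u, hu, huy⟩ := h.exists_swap (QuotientGroup.mk 1) y
  -- every element of `W` fixing the base point fixes `y`
  have hall : ∀ v ∈ W, v • (QuotientGroup.mk 1 : G ⧸ H) = QuotientGroup.mk 1 → v • y = y := by
    intro v hv hvx
    have hvH : v ∈ H := smul_pt_eq.1 hvx
    obtain ⟨d, hd1, hd2, hd3⟩ := h.factor hy hvH
    set a := d⁻¹ * v with ha
    have hva : v = d * a := by rw [ha]; group
    -- d and w commute
    have hdw : w * d = d * w := by
      have e1 := h.inverts hti (Ne.symm hy) hu huy hx0 hwy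
      have e2 := h.inverts hti (Ne.symm hy) hu huy hd1 hd2
      have e3 := h.inverts hti (Ne.symm hy) hu huy (d := w * d) (by rw [mul_smul, hd1, hx0]) (by rw [mul_smul, hd2, hwy])
      have e4 : u * (w * d) * u⁻¹ = w⁻¹ * d⁻¹ := by rw [← e1, ← e2]; group
      rw [e4] at e3
      have := congrArg (fun z => z⁻¹) e3
      simp only [mul_inv_rev, inv_inv] at this
      exact this.symm
    have hcA : (v * w)⁻¹ * (w * v) ∈ A := by
      have e1 : (v * w)⁻¹ * (w * v) = (w⁻¹ * a * w⁻¹⁻¹)⁻¹ * a := by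
        rw [hva]
        calc (d * a * w)⁻¹ * (w * (d * a)) = w⁻¹ * a⁻¹ * d⁻¹ * (w * d) * a := by group
          _ = w⁻¹ * a⁻¹ * d⁻¹ * (d * w) * a := by rw [hdw]
          _ = (w⁻¹ * a * w⁻¹⁻¹)⁻¹ * a := by group
      rw [e1]
      exact A.mul_mem (A.inv_mem (h.nrm _ (H.inv_mem hwH) _ hd3)) hd3
    have hcW : (v * w)⁻¹ * (w * v) ∈ W :=
      W.mul_mem (W.inv_mem (W.mul_mem hv hw.1)) (W.mul_mem hw.1 hv)
    have h1 := h.MA_odd hti (h.MA_pt.2 hcA) (odd_of_mem hW hcW)
    have hcomm : v * w = w * v := inv_mul_eq_one.1 h1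
    have h2 : w • (v • y) = v • y := by rw [← mul_smul, ← hcomm, mul_smul, hwy]
    by_contra hne
    apply hw1
    refine h.fix_two hti (Ne.symm hy) (Ne.symm hne) ?_ hx0 hwy h2
    intro hc
    apply hy
    have : y = v⁻¹ • (QuotientGroup.mk 1 : G ⧸ H) := by rw [hc, inv_smul_smul]
    rw [this, inv_smul_eq_iff.2 hvx.symm]
  have heq : {w : G | w ∈ W ∧ w • (QuotientGroup.mk 1 : G ⧸ H) = QuotientGroup.mk 1} = {w : G | w ∈ W ∧ w • y = y} := by
    apply Set.eq_of_subset_of_ncard_le _ _ (Set.toFinite _)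
    · intro v hv
      exact ⟨hv.1, hall v hv.1 hv.2⟩
    · rw [(hf _).1, (hf _).1]
  obtain ⟨g, hg, hgy⟩ := (hf (QuotientGroup.mk 1)).2 y
  have h1 : g * w * g⁻¹ ∈ {w : G | w ∈ W ∧ w • y = y} := by
    refine ⟨W.mul_mem (W.mul_mem hg hw.1) (W.inv_mem hg), ?_⟩
    rw [mul_smul, mul_smul, inv_smul_eq_iff.2 hgy.symm, hx0, hgy]
  rw [← heq] at h1
  have h2 : w • (g⁻¹ • (QuotientGroup.mk 1 : G ⧸ H)) = g⁻¹ • (QuotientGroup.mk 1 : G ⧸ H) := by
    have h3 := h1.2
    rw [mul_smul, mul_smul] at h3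
    rw [eq_inv_smul_iff]
    exact h3
  have h3 : g⁻¹ • (QuotientGroup.mk 1 : G ⧸ H) ≠ QuotientGroup.mk 1 := by
    intro hc
    rw [inv_smul_eq_iff] at hc
    exact hy (by rw [← hgy, ← hc])
  have h4 : g⁻¹ • (QuotientGroup.mk 1 : G ⧸ H) = y := by
    by_contra hne
    exact hw1 (h.fix_two hti (Ne.symm hy) (Ne.symm hne) (Ne.symm h3) hx0 hwy h2)
  have h5 : g • y = QuotientGroup.mk 1 := by rw [← h4, smul_inv_smul]
  obtain ⟨k, hk⟩ := odd_of_mem hW hg
  have h6 : ∀ j : ℕ, g ^ (2 * j) • (QuotientGroup.mk 1 : G ⧸ H) = QuotientGroup.mk 1 := by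
    intro j
    induction j with
    | zero => rw [mul_zero, pow_zero, one_smul]
    | succ j ih =>
      rw [mul_add, pow_add, mul_smul, mul_one, pow_two, mul_smul, hgy, h5, ih]
  have h7 : g ^ (2 * k + 1) • (QuotientGroup.mk 1 : G ⧸ H) = y := by
    rw [pow_succ', mul_smul, h6, hgy]
  rw [← hk, pow_orderOf_eq_one, one_smul] at h7
  exact hy h7.symm

end TI

end IA

end Cfsg.Agent.H4
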