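import Mathlib
import Cfsg.Agent.H4.IAe

set_option autoImplicit false
set_option linter.unusedSectionVars false

/-! Groups with abelian centralizers of involutions: `H` is a maximal subgroup. -/

namespace Cfsg.Agent.H4

open Cfsg

namespace IA

variable {G : Type*} [Group G] [Finite G] {H A : Subgroup G}

/-- number of involutions after restriction to an overgroup -/
theorem card_inv_sub (L : Subgroup G) (hL : H ≤ L) :
    Nat.card {t : L // orderOf t = 2 ∧ t ∈ H.subgroupOf L} = Nat.card {t : G // orderOf t = 2 ∧ t ∈ H} := by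
  apply Nat.card_congr
  refine
    { toFun := fun t => ⟨t.1, by rw [Subgroup.orderOf_coe]; exact t.2.1, t.2.2⟩
      invFun := fun t => ⟨⟨t.1, hL t.2.2⟩, by rw [Subgroup.orderOf_mk]; exact t.2.1, t.2.2⟩
      left_inv := fun t => rfl
      right_inv := fun t => rfl }

theorem index_min (h : IA H A) (hmax : ∀ X : Subgroup G, H ≤ X → X = H ∨ X = ⊤) :
    H.index = Nat.card {t : G // orderOf t = 2 ∧ t ∈ H} + 2 := by
  have hZH : Subgroup.center G ≤ H := h.center_le.trans h.le
  have h1 := h.quot.card_pts (h.quot_ti hmax)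
  rw [(h.quot.ident (h.quot_ti hmax)).1, h.card_inv_quot] at h1
  have h2 : (H.map (QuotientGroup.mk' (Subgroup.center G))).index = H.index := by
    apply Subgroup.index_map_eq _ (QuotientGroup.mk'_surjective _)
    rw [QuotientGroup.ker_mk']; exact hZH
  rw [← h2]
  exact h1

theorem nobig_min (h : IA H A) (hmax : ∀ X : Subgroup G, H ≤ X → X = H ∨ X = ⊤) {W : Subgroup G}
    (hW : Odd (Nat.card W)) {K : Set G} (hK : K ⊆ W)
    (hinj : ∀ k ∈ K, ∀ l ∈ K, k⁻¹ * l ∈ Subgroup.center G → k = l) :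
    K.ncard < (Nat.card {t : G // orderOf t = 2 ∧ t ∈ H} + 2) * Nat.card {t : G // orderOf t = 2 ∧ t ∈ H} := by
  have hWodd : Odd (Nat.card (W.map (QuotientGroup.mk' (Subgroup.center G)))) :=
    hW.of_dvd_nat (Subgroup.card_map_dvd _ _)
  have h1 := h.quot.nobig (h.quot_ti hmax) hWodd
  rw [h.card_inv_quot] at h1
  refine lt_of_le_of_lt ?_ h1
  rw [← Nat.card_coe_set_eq]
  refine Nat.card_le_card_of_injective (fun k => (⟨(QuotientGroup.mk' (Subgroup.center G)) k.1, k.1, hK k.2, rfl⟩ :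
    W.map (QuotientGroup.mk' (Subgroup.center G)))) ?_
  intro k l hkl
  have h2 : (QuotientGroup.mk' (Subgroup.center G)) k.1 = (QuotientGroup.mk' (Subgroup.center G)) l.1 :=
    congrArg Subtype.val hkl
  exact Subtype.ext (hinj _ k.2 _ l.2 (QuotientGroup.eq.1 h2))

/-- the involutions of `L` have odd intersections with conjugates -/
theorem odd_inter (h : IA H A) {L : Subgroup G} (hL : H ≤ L) (hne : L ≠ H) {u : G} (hu : u ∉ L) :
    Odd (Nat.card (L ⊓ L.map (MulAut.conj u).toMonoidHom : Subgroup G)) := by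
  by_contra hodd
  obtain ⟨t, ht, ho⟩ := exists_involution hodd
  rw [Subgroup.mem_inf, mem_map_conj] at ht
  obtain ⟨htL, hutL⟩ := ht
  have hsub := h.sub hL hne
  have ho' : orderOf (⟨u⁻¹ * t * u, hutL⟩ : L) = 2 := by
    rw [Subgroup.orderOf_mk]
    have := orderOf_conj t u⁻¹
    rw [inv_inv] at this
    rw [this, ho]
  obtain ⟨x, hx⟩ := semb_exists_fix hsub.semb ho'
  obtain ⟨l, rfl⟩ := QuotientGroup.mk_surjective x
  rw [smul_mk_eq_iff, Subgroup.mem_subgroupOf] at hx
  have hx' : (l : G)⁻¹ * (u⁻¹ * t * u) * l ∈ H := hx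
  have h1 : (u * l) * ((l : G)⁻¹ * (u⁻¹ * t * u) * l) * (u * l)⁻¹ = t := by group
  have h2 : orderOf ((l : G)⁻¹ * (u⁻¹ * t * u) * l) = 2 := by
    have e := orderOf_conj (u⁻¹ * t * u) (l : G)⁻¹
    rw [inv_inv] at e
    rw [e]
    have e2 := orderOf_conj t u⁻¹
    rw [inv_inv] at e2
    rw [e2, ho]
  have h3 := h.mem_of_conj hL hx' h2 (by rw [h1]; exact htL)
  apply hu
  have h4 : u = (u * l) * (l : G)⁻¹ := by group
  rw [h4]; exact L.mul_mem h3 (L.inv_mem l.2)

theorem maximal (h : IA H A) : ∀ X : Subgroup G, H ≤ X → X = H ∨ X = ⊤ := by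
  classical
  by_contra hcon
  push Not at hcon
  obtain ⟨X, hHX, hXH, hXT⟩ := hcon
  obtain ⟨L, ⟨hHL, hLne⟩, hLmin⟩ := Set.exists_min_image {Y : Subgroup G | H ≤ Y ∧ Y ≠ H}
    (fun Y => Nat.card Y) (Set.toFinite _) ⟨X, hHX, hXH⟩
  have hLT : L ≠ ⊤ := by
    intro hc
    have h1 := hLmin X ⟨hHX, hXH⟩
    rw [hc, Subgroup.card_top] at h1
    exact hXT (Subgroup.eq_top_of_le_card _ h1)
  have hL := h.sub hHL hLne
  have hmax : ∀ Y : Subgroup L, H.subgroupOf L ≤ Y → Y = H.subgroupOf L ∨ Y = ⊤ := by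
    intro Y hY
    by_cases hYH : Y = H.subgroupOf L
    · left; exact hYH
    · right
      have h1 : H ≤ Y.map L.subtype := by
        intro g hg
        exact ⟨⟨g, hHL hg⟩, hY (Subgroup.mem_subgroupOf.2 hg), rfl⟩
      have h2 : Y.map L.subtype ≠ H := by
        intro hc
        apply hYH
        ext y
        rw [Subgroup.mem_subgroupOf, ← hc]
        constructor
        · intro hy; exact ⟨y, hy, rfl⟩
        · rintro ⟨y', hy', hyy⟩
          have : y' = y := Subtype.ext hyy
          rw [← this]; exact hy'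
      have h3 := hLmin _ ⟨h1, h2⟩
      rw [Subgroup.card_map_of_injective L.subtype_injective] at h3
      exact Subgroup.eq_top_of_le_card _ h3
  -- index
  have hidx := hL.index_min hmax
  rw [card_inv_sub L hHL] at hidx
  set m := Nat.card {t : G // orderOf t = 2 ∧ t ∈ H} with hm
  -- an involution outside `L`
  obtain ⟨g, hg⟩ : ∃ g : G, g ∉ L := by
    by_contra hc
    push Not at hc
    exact hLT (eq_top_iff.2 fun x _ => hc x)
  obtain ⟨u, hu, hug⟩ := h.exists_swap (QuotientGroup.mk 1) (QuotientGroup.mk g)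
  have huL : u ∉ L := by
    intro hc
    rw [smul_pt, QuotientGroup.eq] at hug
    apply hg
    have : g = u * (u⁻¹ * g) := by group
    rw [this]; exact L.mul_mem hc (hHL hug)
  have huinv : u⁻¹ = u := inv_eq_self_of_mul_self (mul_self_of_orderOf_two hu)
  -- the set of elements of `L` inverted by `u`
  set K : Set L := {k : L | u * (k : G) * u⁻¹ = (k : G)⁻¹} with hK
  have hcardK : (m + 2) * m ≤ K.ncard := by
    rw [← Nat.card_coe_set_eq]
    have hsw : ∀ c : L ⧸ H.subgroupOf L, Nat.card {i : G // orderOf i = 2 ∧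
        i • (QuotientGroup.mk 1 : G ⧸ H) = (QuotientGroup.mk (u * (c.out : L)) : G ⧸ H)} = m := by
      intro c
      exact semb_card_swap h.semb _ _
    have hsig : Nat.card (Σ c : L ⧸ H.subgroupOf L, {i : G // orderOf i = 2 ∧
        i • (QuotientGroup.mk 1 : G ⧸ H) = (QuotientGroup.mk (u * (c.out : L)) : G ⧸ H)}) = (m + 2) * m := by
      let _ : Fintype (L ⧸ H.subgroupOf L) := Fintype.ofFinite _
      rw [Nat.card_sigma]
      rw [Finset.sum_congr rfl (fun c _ => hsw c), Finset.sum_const, smul_eq_mul,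
        Finset.card_univ, ← Nat.card_eq_fintype_card, ← hidx]
      rfl
    rw [← hsig]
    have hmem : ∀ (c : L ⧸ H.subgroupOf L) (i : {i : G // orderOf i = 2 ∧
        i • (QuotientGroup.mk 1 : G ⧸ H) = (QuotientGroup.mk (u * (c.out : L)) : G ⧸ H)}),
        (c.out : G)⁻¹ * (u * i.1) ∈ H := by
      intro c i
      have h1 := i.2.2
      rw [smul_pt, QuotientGroup.eq] at h1
      have h2 := H.inv_mem h1
      have h3 : (i.1⁻¹ * (u * (c.out : G)))⁻¹ = (c.out : G)⁻¹ * (u⁻¹ * i.1) := by group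
      rw [h3, huinv] at h2
      exact h2
    have hmemL : ∀ (c : L ⧸ H.subgroupOf L) (i : {i : G // orderOf i = 2 ∧
        i • (QuotientGroup.mk 1 : G ⧸ H) = (QuotientGroup.mk (u * (c.out : L)) : G ⧸ H)}), u * i.1 ∈ L := by
      intro c i
      have h1 : u * i.1 = (c.out : G) * ((c.out : G)⁻¹ * (u * i.1)) := by group
      rw [h1]
      exact L.mul_mem (c.out).2 (hHL (hmem c i))
    refine Nat.card_le_card_of_injective (fun p => (⟨⟨u * p.2.1, hmemL p.1 p.2⟩, ?_⟩ : K)) ?_
    · change u * (u * p.2.1) * u⁻¹ = (u * p.2.1)⁻¹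
      rw [mul_inv_rev, inv_eq_self_of_mul_self (mul_self_of_orderOf_two p.2.2.1), ← mul_assoc,
        mul_self_of_orderOf_two hu, one_mul]
    · rintro ⟨c, i⟩ ⟨d, j⟩ hcd
      have h1 : u * i.1 = u * j.1 := congrArg (fun z : K => ((z : L) : G)) hcd
      have h2 : i.1 = j.1 := mul_left_cancel h1
      have h3 := hmem c i
      have h4 := hmem d j
      rw [← h1] at h4
      have h5 : (c.out)⁻¹ * d.out ∈ H.subgroupOf L := by
        rw [Subgroup.mem_subgroupOf]
        have h6 := H.mul_mem h3 (H.inv_mem h4)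
        have h7 : (c.out : G)⁻¹ * (u * i.1) * ((d.out : G)⁻¹ * (u * i.1))⁻¹ = (c.out : G)⁻¹ * (d.out : G) := by group
        rw [h7] at h6
        exact h6
      have h6 : c = d := by
        have h7 := QuotientGroup.eq.2 h5
        rw [QuotientGroup.out_eq', QuotientGroup.out_eq'] at h7
        exact h7
      subst h6
      have : i = j := Subtype.ext h2
      rw [this]
  have hW := h.odd_inter hHL hLne huL
  have hW' : Odd (Nat.card ((L ⊓ L.map (MulAut.conj u).toMonoidHom : Subgroup G).subgroupOf L)) := by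
    have e := Nat.card_congr (Subgroup.subgroupOfEquivOfLe
      (inf_le_left : L ⊓ L.map (MulAut.conj u).toMonoidHom ≤ L)).toEquiv
    rw [e]; exact hW
  have hlt := hL.nobig_min hmax hW' (K := K) (by
    intro k hk
    rw [SetLike.mem_coe, Subgroup.mem_subgroupOf, Subgroup.mem_inf, mem_map_conj]
    refine ⟨k.2, ?_⟩
    have hk' : u * (k : G) * u⁻¹ = (k : G)⁻¹ := hk
    rw [huinv] at hk' ⊢
    rw [hk']; exact L.inv_mem k.2) (by
    intro k hk l hl hkl
    have hk' : u * (k : G) * u⁻¹ = (k : G)⁻¹ := hk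
    have hl' : u * (l : G) * u⁻¹ = (l : G)⁻¹ := hl
    set z : L := k⁻¹ * l with hz
    have hlz : (l : G) = k * z := by
      rw [hz]; simp
    have hzc : ∀ y ∈ L, y * (z : G) = z * y := by
      intro y hy
      exact congrArg Subtype.val (Subgroup.mem_center_iff.1 hkl ⟨y, hy⟩)
    have huz : u * (z : G) * u⁻¹ = (z : G)⁻¹ := by
      have e1 : u * (z : G) * u⁻¹ = (k : G) * (z : G)⁻¹ * (k : G)⁻¹ := by
        calc u * (z : G) * u⁻¹ = (u * (k : G) * u⁻¹)⁻¹ * (u * (l : G) * u⁻¹) := by rw [hlz]; group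
          _ = (k : G) * (l : G)⁻¹ := by rw [hk', hl', inv_inv]
          _ = (k : G) * (z : G)⁻¹ * (k : G)⁻¹ := by rw [hlz]; group
      have e2 : (k : G) * (z : G)⁻¹ = (z : G)⁻¹ * k :=
        (show Commute (k : G) (z : G) from hzc _ k.2).inv_right.eq
      rw [e1, e2, mul_inv_cancel_right]
    obtain ⟨t, htH, ht⟩ := h.exists_inv
    have hHz : H ≤ Subgroup.centralizer {(z : G)} := by
      intro y hy
      exact Subgroup.mem_centralizer_singleton_iff.2 (hzc y (hHL hy))
    have hta : (u * t * u⁻¹) * (z : G) = z * (u * t * u⁻¹) := by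
      have h1 : t * (z : G)⁻¹ = (z : G)⁻¹ * t :=
        (show Commute t (z : G) from hzc _ (hHL htH)).inv_right.eq
      have h2 : (z : G) = u * (z : G)⁻¹ * u⁻¹ := by
        have := congrArg (fun y => y⁻¹) huz
        simp only [mul_inv_rev, inv_inv] at this
        rw [← mul_assoc] at this
        exact this.symm
      calc (u * t * u⁻¹) * (z : G) = (u * t * u⁻¹) * (u * (z : G)⁻¹ * u⁻¹) := by rw [← h2]
        _ = u * (t * (z : G)⁻¹) * u⁻¹ := by group
        _ = u * ((z : G)⁻¹ * t) * u⁻¹ := by rw [h1]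
        _ = (u * (z : G)⁻¹ * u⁻¹) * (u * t * u⁻¹) := by group
        _ = z * (u * t * u⁻¹) := by rw [← h2]
    have huC := h.mem_of_conj hHz htH ht (Subgroup.mem_centralizer_singleton_iff.2 hta)
    have huc : u * (z : G) = z * u := Subgroup.mem_centralizer_singleton_iff.1 huC
    have hzz : (z : G) * z = 1 := by
      rw [huc, mul_inv_cancel_right] at huz
      nth_rewrite 2 [huz]
      exact mul_inv_cancel _
    have hz1 := hL.eq_one_of_center hkl (Subtype.ext hzz)
    exact inv_mul_eq_one.1 hz1)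
  rw [card_inv_sub L hHL] at hlt
  exact absurd hcardK (not_le.2 hlt)

end IA

end Cfsg.Agent.H4
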