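import Mathlib
import Cfsg.Agent.H4.ZStar2
set_option autoImplicit false

/-! A nonabelian simple group (not of odd order) has a Klein four-subgroup. -/

namespace Cfsg.Agent.H4

open Cfsg Subgroup

theorem cyclic_of_center_ne_bot {G : Type*} [Group G] [Finite G] [IsSimpleGroup G]
    (h : center G ≠ ⊥) : IsCyclic G := by
  have h1 : center G = ⊤ := by
    rcases (inferInstance : (center G).Normal).eq_bot_or_eq_top with h2 | h2
    · exact absurd h2 h
    · exact h2
  letI : CommGroup G := { (inferInstance : Group G) with
    mul_comm := fun a b => ((mem_center_iff.1 (h1 ▸ mem_top a : a ∈ center G)) b).symm }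
  exact IsSimpleGroup.isCyclic

theorem simple_has_klein {G : Type*} [Group G] [Finite G] [IsSimpleGroup G]
    (hFT : Odd (Nat.card G) → Group.IsSolvable G) (hG : ¬ IsCyclic G) : ∃ E : Subgroup G, IsKleinFour E := by
  classical
  haveI : Fact (Nat.Prime 2) := ⟨Nat.prime_two⟩
  by_cases hodd : Odd (Nat.card G)
  · exfalso
    apply hG
    have h1 := hFT hodd
    have h2 : ∀ a b : G, a * b = b * a := IsSimpleGroup.comm_iff_isSolvable.2 h1
    letI : CommGroup G := { (inferInstance : Group G) with mul_comm := h2 }
    exact IsSimpleGroup.isCyclic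
  by_contra hcon
  push Not at hcon
  have hO : oddCore G = ⊥ := by
    haveI : (oddCore G).Normal := H1.pPrimeCore_normal 2 G
    rcases (inferInstance : (oddCore G).Normal).eq_bot_or_eq_top with h2 | h2
    · exact h2
    · exfalso
      apply hodd
      have := oddCore_odd G
      rwa [h2, card_top] at this
  have P : Sylow 2 G := default
  have heven : 2 ∣ Nat.card G := by
    rw [← even_iff_two_dvd]
    exact Nat.not_odd_iff_even.1 hodd
  have hPc : 2 ∣ Nat.card (P : Subgroup G) := P.dvd_card_of_dvd_card heven
  -- a central involution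
  obtain ⟨t, ht⟩ := exists_prime_orderOf_dvd_card' 2 (G := (center (P : Subgroup G))) (by
    haveI : Nontrivial (P : Subgroup G) := by
      rw [← Finite.one_lt_card_iff_nontrivial]
      exact lt_of_lt_of_le one_lt_two (Nat.le_of_dvd Nat.card_pos hPc)
    haveI := P.2.center_nontrivial
    obtain ⟨n, hn⟩ := (P.2.to_subgroup (center (P : Subgroup G))).exists_card_eq
    rw [hn]
    have h1 : 1 < Nat.card (center (P : Subgroup G)) := Finite.one_lt_card
    rw [hn] at h1
    have h2 : n ≠ 0 := by
      rintro rfl
      simp at h1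
    exact dvd_pow_self 2 h2)
  set t' : G := ((t : (P : Subgroup G)) : G) with ht'
  have hto : orderOf t' = 2 := by
    rw [ht', orderOf_coe, orderOf_coe, ht]
  have hiso : IsIsolatedInvolution t' := by
    apply isolated_of_unique P hto
    intro y hy hyo
    by_contra hne
    have hc : (⟨y, hy⟩ : (P : Subgroup G)) * t = t * ⟨y, hy⟩ := (mem_center_iff.1 t.2) ⟨y, hy⟩
    have hc' : y * t' = t' * y := congrArg Subtype.val hc
    obtain ⟨E, hE, -⟩ := exists_klein_of_commute hyo hto hne hc'
    exact hcon E hE
  have h1 := zstar_central hO hiso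
  apply hG
  apply cyclic_of_center_ne_bot
  intro h2
  rw [h2, mem_bot] at h1
  rw [h1, orderOf_one] at hto
  norm_num at hto

end Cfsg.Agent.H4
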