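import Mathlib
import Cfsg.Agent.H14.Conj
import Cfsg.Agent.H4.SimpleKlein
set_option autoImplicit false

/-! Sylow 2-subgroups with a generalized quaternion direct factor. -/

namespace Cfsg.Agent.H4.QF

open Cfsg Subgroup
open Cfsg.Agent.H14 (cj mem_cj conj_mem_cj mem_normalizer_cj)

variable {G : Type*} [Group G]

theorem dp_mem {Q R S : Subgroup G} (h : IsInternalDirectProduct Q R S) {x : G} (hx : x ∈ S) :
    ∃ q ∈ Q, ∃ r ∈ R, x = q * r := by
  obtain ⟨h1, h2, h3, h4, h5⟩ := h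
  let K : Subgroup G :=
    { carrier := {x | ∃ a ∈ Q, ∃ b ∈ R, x = a * b}
      one_mem' := ⟨1, Q.one_mem, 1, R.one_mem, (mul_one 1).symm⟩
      mul_mem' := by
        rintro _ _ ⟨a, ha, b, hb, rfl⟩ ⟨c, hc, e, he, rfl⟩
        refine ⟨a * c, mul_mem ha hc, b * e, mul_mem hb he, ?_⟩
        rw [mul_assoc, ← mul_assoc b c e, ← h3 c hc b hb]; group
      inv_mem' := by
        rintro _ ⟨a, ha, b, hb, rfl⟩
        exact ⟨a⁻¹, inv_mem ha, b⁻¹, inv_mem hb, by rw [h3 _ (inv_mem ha) _ (inv_mem hb), mul_inv_rev]⟩ }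
  have h6 : Q ⊔ R ≤ K := sup_le (fun a ha => ⟨a, ha, 1, R.one_mem, (mul_one a).symm⟩)
    (fun b hb => ⟨1, Q.one_mem, b, hb, (one_mul b).symm⟩)
  rw [h5] at h6
  exact h6 hx

theorem dp_uniq {Q R S : Subgroup G} (h : IsInternalDirectProduct Q R S) {q q' r r' : G} (hq : q ∈ Q)
    (hq' : q' ∈ Q) (hr : r ∈ R) (hr' : r' ∈ R) (he : q * r = q' * r') : q = q' ∧ r = r' := by
  have h1 : q'⁻¹ * q = r' * r⁻¹ := by
    calc q'⁻¹ * q = q'⁻¹ * (q * r) * r⁻¹ := by group
      _ = r' * r⁻¹ := by rw [he]; group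
  have h2 : q'⁻¹ * q ∈ Q ⊓ R := mem_inf.2 ⟨mul_mem (inv_mem hq') hq, by rw [h1]; exact mul_mem hr' (inv_mem hr)⟩
  rw [h.2.2.2.1, mem_bot] at h2
  have h3 : q = q' := (inv_mul_eq_one.1 h2).symm
  subst h3
  exact ⟨rfl, mul_left_cancel he⟩

theorem dp_cj {Q R S : Subgroup G} (h : IsInternalDirectProduct Q R S) (g : G) :
    IsInternalDirectProduct (cj g Q) (cj g R) (cj g S) := by
  obtain ⟨h1, h2, h3, h4, h5⟩ := h
  refine ⟨H14.cj_mono h1, H14.cj_mono h2, ?_, ?_, ?_⟩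
  · rintro _ ⟨a, ha, rfl⟩ _ ⟨b, hb, rfl⟩
    rw [← map_mul, h3 a ha b hb, map_mul]
  · rw [← H14.cj_inf, h4, H14.cj_bot]
  · rw [← H14.cj_sup, h5]

variable [Finite G] {n : ℕ}

/-- facts on quaternion subgroups -/
theorem quat_pow {Q : Subgroup G} (e : Q ≃* QuaternionGroup (2 ^ n)) {z : G} (hz : z ∈ Q) (hz2 : orderOf z = 2)
    {x : G} (hx : x ∈ Q) (hx1 : x ≠ 1) : ∃ k : ℕ, x ^ k = z := by
  haveI : Fact (Nat.Prime 2) := ⟨Nat.prime_two⟩
  have hQ : IsPGroup 2 Q := by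
    haveI : NeZero (2 ^ n) := ⟨by positivity⟩
    apply IsPGroup.of_card (n := n + 2)
    rw [Nat.card_congr e.toEquiv, Nat.card_eq_fintype_card, QuaternionGroup.card]
    ring
  obtain ⟨k, hk⟩ := (IsPGroup.iff_orderOf.1 hQ) ⟨x, hx⟩
  rw [Subgroup.orderOf_mk] at hk
  have hk0 : k ≠ 0 := by
    rintro rfl
    rw [pow_zero, orderOf_eq_one_iff] at hk
    exact hx1 hk
  obtain ⟨m, rfl⟩ := Nat.exists_eq_succ_of_ne_zero hk0
  refine ⟨2 ^ m, ?_⟩
  have h1 : orderOf (x ^ 2 ^ m) = 2 := by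
    rw [orderOf_pow_of_dvd (by positivity) (by rw [hk, pow_succ]; exact dvd_mul_right _ _), hk, pow_succ,
      Nat.mul_div_cancel_left _ (by positivity)]
  exact quaternion_sylow_unique e (pow_mem hx _) hz h1 hz2

theorem quat_nonab (hn : 1 ≤ n) {Q : Subgroup G} (e : Q ≃* QuaternionGroup (2 ^ n))
    (h : ∀ x ∈ Q, ∀ y ∈ Q, x * y = y * x) : False := by
  have hn2 : 2 ≤ 2 ^ n := by
    calc 2 = 2 ^ 1 := by norm_num
      _ ≤ 2 ^ n := Nat.pow_le_pow_right (by norm_num) hn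
  have h1 : ∀ u v : QuaternionGroup (2 ^ n), u * v = v * u := by
    intro u v
    have h2 := h _ (e.symm u).2 _ (e.symm v).2
    have h3 : e.symm u * e.symm v = e.symm v * e.symm u := Subtype.ext h2
    rw [← map_mul, ← map_mul] at h3
    exact e.symm.injective h3
  have hc := h1 (QuaternionGroup.a 1) (QuaternionGroup.xa 0)
  rw [QuaternionGroup.a_mul_xa, QuaternionGroup.xa_mul_a] at hc
  have h2 : (0 : ZMod (2 * 2 ^ n)) - 1 = 0 + 1 := by injection hc
  have h3 : ((2 : ℕ) : ZMod (2 * 2 ^ n)) = 0 := by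
    push_cast
    linear_combination (-1 : ZMod (2 * 2 ^ n)) * h2
  rw [ZMod.natCast_eq_zero_iff] at h3
  have := Nat.le_of_dvd (by norm_num) h3
  omega

/-- the Krull–Schmidt step -/
theorem ks (hn : 1 ≤ n) {S Q R Q₁ R₁ : Subgroup G} (h : IsInternalDirectProduct Q R S)
    (h₁ : IsInternalDirectProduct Q₁ R₁ S) (e : Q ≃* QuaternionGroup (2 ^ n)) (e₁ : Q₁ ≃* QuaternionGroup (2 ^ n))
    {z₁ : G} (hz₁ : z₁ ∈ Q₁) (hz2 : orderOf z₁ = 2) {q r : G} (hq : q ∈ Q) (hr : r ∈ R) (hqr : z₁ = q * r)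
    (hq1 : q ≠ 1) : r = 1 := by
  by_contra hr1
  have hc := h.2.2.1
  have powform : ∀ a ∈ Q, ∀ b ∈ R, ∀ k : ℕ, (a * b) ^ k = a ^ k * b ^ k := fun a ha b hb k =>
    (show Commute a b from hc a ha b hb).mul_pow k
  -- injectivity of the two projections
  have injR : ∀ x ∈ Q₁, ∀ a ∈ Q, ∀ b ∈ R, x = a * b → b = 1 → x = 1 := by
    intro x hx a ha b hb hab hb1
    by_contra hx1
    obtain ⟨k, hk⟩ := quat_pow e₁ hz₁ hz2 hx hx1
    rw [hab, powform a ha b hb, hb1, one_pow, hqr] at hk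
    exact hr1 (dp_uniq h (pow_mem ha k) hq R.one_mem hr hk).2.symm
  have injQ : ∀ x ∈ Q₁, ∀ a ∈ Q, ∀ b ∈ R, x = a * b → a = 1 → x = 1 := by
    intro x hx a ha b hb hab ha1
    by_contra hx1
    obtain ⟨k, hk⟩ := quat_pow e₁ hz₁ hz2 hx hx1
    rw [hab, powform a ha b hb, ha1, one_pow, hqr] at hk
    exact hq1 (dp_uniq h Q.one_mem hq (pow_mem hb k) hr hk).1.symm
  -- surjectivity on `Q`
  have hex : ∀ x : Q₁, ∃ a : Q, ∃ b ∈ R, (x : G) = a * b := by
    intro x
    obtain ⟨a, ha, b, hb, hab⟩ := dp_mem h (h₁.1 x.2)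
    exact ⟨⟨a, ha⟩, b, hb, hab⟩
  choose f hf using hex
  have hfinj : Function.Injective f := by
    intro x y hxy
    obtain ⟨b, hb, hxb⟩ := hf x
    obtain ⟨c, hc', hyc⟩ := hf y
    rw [hxy] at hxb
    have h2 : (x : G)⁻¹ * y = 1 * (b⁻¹ * c) := by rw [hxb, hyc]; group
    have h3 := injQ _ (mul_mem (inv_mem x.2) y.2) 1 Q.one_mem _ (mul_mem (inv_mem hb) hc') h2 rfl
    exact Subtype.ext (inv_mul_eq_one.1 h3)
  have hcard : Nat.card Q₁ = Nat.card Q := by rw [Nat.card_congr e₁.toEquiv, Nat.card_congr e.toEquiv]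
  have hfsurj : Function.Surjective f := by
    have h2 : Function.Bijective f := by
      rw [Nat.bijective_iff_injective_and_card]
      exact ⟨hfinj, hcard⟩
    exact h2.2
  have surj : ∀ a ∈ Q, ∃ b ∈ R, a * b ∈ Q₁ := by
    intro a ha
    obtain ⟨x, hx⟩ := hfsurj ⟨a, ha⟩
    obtain ⟨b, hb, hxb⟩ := hf x
    refine ⟨b, hb, ?_⟩
    have h2 : ((f x : Q) : G) = a := by rw [hx]
    rw [← h2, ← hxb]; exact x.2
  -- all elements of `Q` are central
  have hcen : ∀ q₁ ∈ Q, ∀ c ∈ Q, q₁ * c = c * q₁ := by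
    intro q₁ hq₁ c hcQ
    obtain ⟨x, hx, r₁, hr₁, hxr⟩ := dp_mem h₁ (h.1 hq₁)
    obtain ⟨a, ha, b, hb, hab⟩ := dp_mem h (h₁.1 hx)
    obtain ⟨a', ha', b', hb', hab'⟩ := dp_mem h (h₁.2.1 hr₁)
    have h2 : q₁ * 1 = (a * a') * (b * b') := by
      rw [mul_one, hxr, hab, hab']
      have := hc a' ha' b hb
      calc a * b * (a' * b') = a * (b * a') * b' := by group
        _ = a * (a' * b) * b' := by rw [this]
        _ = a * a' * (b * b') := by group
    obtain ⟨h3, h4⟩ := dp_uniq h hq₁ (mul_mem ha ha') R.one_mem (mul_mem hb hb') h2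
    obtain ⟨d, hd, hcd⟩ := surj c hcQ
    -- `r₁` commutes with `c d`
    have h5 := h₁.2.2.1 _ hcd r₁ hr₁
    rw [hab'] at h5
    have h6 : (c * a') * (d * b') = (a' * c) * (b' * d) := by
      have e1 := hc a' ha' d hd
      have e2 := hc c hcQ b' hb'
      calc (c * a') * (d * b') = c * (a' * d) * b' := by group
        _ = c * (d * a') * b' := by rw [e1]
        _ = c * d * (a' * b') := by group
        _ = a' * b' * (c * d) := h5
        _ = a' * (b' * c) * d := by group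
        _ = a' * (c * b') * d := by rw [e2]
        _ = (a' * c) * (b' * d) := by group
    obtain ⟨h7, h8⟩ := dp_uniq h (mul_mem hcQ ha') (mul_mem ha' hcQ) (mul_mem hd hb') (mul_mem hb' hd) h6
    -- `b` commutes with `d`
    have h9 : b * d = d * b := by
      have e1 : b = b'⁻¹ := eq_inv_of_mul_eq_one_left h4.symm
      have e2 : Commute d b' := h8
      rw [e1]
      exact (e2.symm.inv_left).eq
    -- the commutator of `x` and `c d` lies in `Q`
    have h10 : x * (c * d) * x⁻¹ * (c * d)⁻¹ = (a * c * a⁻¹ * c⁻¹) * 1 := by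
      have e1 : Commute a b := hc a ha b hb
      have e2 : Commute a d := hc a ha d hd
      have e3 : Commute c b := hc c hcQ b hb
      have e4 : Commute c d := hc c hcQ d hd
      have e5 : Commute b d := h9
      have e6 : x * (c * d) = (a * c) * (b * d) := by
        rw [hab]
        calc a * b * (c * d) = a * (b * c) * d := by group
          _ = a * (c * b) * d := by rw [e3.eq]
          _ = a * c * (b * d) := by group
      have e7 : (c * d) * x = (c * a) * (b * d) := by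
        rw [hab]
        calc c * d * (a * b) = c * (d * a) * b := by group
          _ = c * (a * d) * b := by rw [e2.eq]
          _ = c * a * (d * b) := by group
          _ = c * a * (b * d) := by rw [e5.eq]
      calc x * (c * d) * x⁻¹ * (c * d)⁻¹ = (x * (c * d)) * ((c * d) * x)⁻¹ := by group
        _ = (a * c) * (b * d) * ((c * a) * (b * d))⁻¹ := by rw [e6, e7]
        _ = (a * c * a⁻¹ * c⁻¹) * 1 := by group
    have h11 := injR _ (mul_mem (mul_mem (mul_mem hx hcd) (inv_mem hx)) (inv_mem hcd)) _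
      (mul_mem (mul_mem (mul_mem ha hcQ) (inv_mem ha)) (inv_mem hcQ)) 1 R.one_mem h10 rfl
    rw [h10, mul_one] at h11
    have h12 : Commute a c := by
      show a * c = c * a
      calc a * c = (a * c * a⁻¹ * c⁻¹) * (c * a) := by group
        _ = c * a := by rw [h11, one_mul]
    have h13 : Commute a' c := h7.symm
    rw [h3]
    exact (h12.mul_left h13).eq
  exact quat_nonab hn e hcen

/-- the involutions of the quaternion factors -/
def ZZ (n : ℕ) (S : Subgroup G) : Set G :=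
  {z | ∃ Q₁ R₁ : Subgroup G, IsInternalDirectProduct Q₁ R₁ S ∧ Nonempty (Q₁ ≃* QuaternionGroup (2 ^ n)) ∧
    z ∈ Q₁ ∧ orderOf z = 2}

theorem ZZ_comm {S : Subgroup G} {z : G} (hz : z ∈ ZZ n S) : z ∈ S ⊓ centralizer (S : Set G) := by
  obtain ⟨Q₁, R₁, h, ⟨e⟩, hz, hz2⟩ := hz
  refine mem_inf.2 ⟨h.1 hz, ?_⟩
  rw [mem_centralizer_iff]
  intro x hx
  obtain ⟨q, hq, r, hr, rfl⟩ := dp_mem h hx
  have h1 : Commute r z := (h.2.2.1 z hz r hr).symm
  have h2 : Commute q z := by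
    have h3 : orderOf (q * z * q⁻¹) = 2 := by rw [orderOf_conj, hz2]
    have h4 := quaternion_sylow_unique e (mul_mem (mul_mem hq hz) (inv_mem hq)) hz h3 hz2
    exact mul_inv_eq_iff_eq_mul.1 h4
  exact (h2.mul_left h1).eq

theorem ZZ_cj {S : Subgroup G} {g : G} (hg : cj g S = S) {z : G} (hz : z ∈ ZZ n S) : g * z * g⁻¹ ∈ ZZ n S := by
  obtain ⟨Q₁, R₁, h, ⟨e⟩, hz, hz2⟩ := hz
  refine ⟨cj g Q₁, cj g R₁, ?_, ?_, ?_, ?_⟩
  · have := dp_cj h g
    rwa [hg] at this
  · exact ⟨(Q₁.equivMapOfInjective _ (MulAut.conj g).injective).symm.trans e⟩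
  · exact conj_mem_cj.2 hz
  · rw [orderOf_conj, hz2]

/-- the invariant involution -/
theorem exists_invariant (hn : 1 ≤ n) {S Q R : Subgroup G} (h : IsInternalDirectProduct Q R S)
    (e : Q ≃* QuaternionGroup (2 ^ n)) :
    ∃ w : G, w ∈ S ⊓ centralizer (S : Set G) ∧ orderOf w = 2 ∧
      ∀ g ∈ normalizer (S : Set G), g * w * g⁻¹ = w := by
  classical
  haveI : NeZero (2 ^ n) := ⟨by positivity⟩
  obtain ⟨K, hK⟩ : ∃ K : Subgroup G, K = S ⊓ centralizer (S : Set G) := ⟨_, rfl⟩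
  letI : CommGroup K := { (inferInstance : Group K) with
    mul_comm := fun a b => Subtype.ext (by
      have ha : (a : G) ∈ S ⊓ centralizer (S : Set G) := hK ▸ a.2
      have hb : (b : G) ∈ S ⊓ centralizer (S : Set G) := hK ▸ b.2
      exact (mem_centralizer_iff.1 hb.2 a ha.1)) }
  haveI : Fintype K := Fintype.ofFinite K
  let F : Finset K := Finset.univ.filter (fun k => (k : G) ∈ ZZ n S)
  obtain ⟨w, hw⟩ : ∃ w : K, w = ∏ k ∈ F, k := ⟨_, rfl⟩
  -- the involution of `Q`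
  obtain ⟨z, hzQ, hz2⟩ : ∃ z ∈ Q, orderOf z = 2 := by
    refine ⟨(e.symm (QuaternionGroup.a ((2 ^ n : ℕ) : ZMod (2 * 2 ^ n))) : Q), (e.symm _).2, ?_⟩
    rw [Subgroup.orderOf_coe, MulEquiv.orderOf_eq]
    apply orderOf_two_of
    · rw [QuaternionGroup.a_mul_a, ← Nat.cast_add, ← two_mul]
      rw [ZMod.natCast_self]; rfl
    · intro h1
      have h2 : ((2 ^ n : ℕ) : ZMod (2 * 2 ^ n)) = 0 := by
        have h3 : QuaternionGroup.a ((2 ^ n : ℕ) : ZMod (2 * 2 ^ n)) = QuaternionGroup.a 0 := h1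
        injection h3
      rw [ZMod.natCast_eq_zero_iff] at h2
      have hpos : 0 < 2 ^ n := by positivity
      have := Nat.le_of_dvd hpos h2
      omega
  have hzZ : z ∈ ZZ n S := ⟨Q, R, h, ⟨e⟩, hzQ, hz2⟩
  have hzK : z ∈ K := by rw [hK]; exact ZZ_comm hzZ
  have hzF : (⟨z, hzK⟩ : K) ∈ F := Finset.mem_filter.2 ⟨Finset.mem_univ _, hzZ⟩
  have hz1 : z ≠ 1 := ne_one_of_orderOf_two hz2
  have hw1 : (w : G) ≠ 1 := by
    have h1 : w = ⟨z, hzK⟩ * ∏ k ∈ F.erase ⟨z, hzK⟩, k := by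
      rw [hw, Finset.mul_prod_erase F (fun k => k) hzF]
    have h2 : ∏ k ∈ F.erase ⟨z, hzK⟩, k ∈ R.subgroupOf K := by
      apply prod_mem
      intro k hk
      rw [Finset.mem_erase] at hk
      obtain ⟨hk1, hk2⟩ := hk
      obtain ⟨Q₁, R₁, h₁, ⟨e₁⟩, hkQ, hk2'⟩ := (Finset.mem_filter.1 hk2).2
      rw [mem_subgroupOf]
      obtain ⟨q, hq, r, hr, hqr⟩ := dp_mem h (h₁.1 hkQ)
      by_cases hq1 : q = 1
      · rw [hqr, hq1, one_mul]; exact hr
      · exfalso
        have hr1 := ks hn h h₁ e e₁ hkQ hk2' hq hr hqr hq1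
        rw [hr1, mul_one] at hqr
        apply hk1
        apply Subtype.ext
        have h3 : orderOf q = 2 := by rw [← hqr, hk2']
        show (k : G) = z
        rw [hqr]
        exact quaternion_sylow_unique e hq hzQ h3 hz2
    intro h3
    have h4 : (w : G) = z * ((∏ k ∈ F.erase ⟨z, hzK⟩, k : K) : G) := by rw [h1]; rfl
    rw [h3] at h4
    have h5 : (1 : G) * 1 = z * ((∏ k ∈ F.erase ⟨z, hzK⟩, k : K) : G) := by rw [mul_one, ← h4]
    exact hz1 (dp_uniq h Q.one_mem hzQ R.one_mem (mem_subgroupOf.1 h2) h5).1.symm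
  have hww : (w : G) * w = 1 := by
    have h1 : w * w = 1 := by
      rw [hw, ← Finset.prod_mul_distrib]
      apply Finset.prod_eq_one
      intro k hk
      obtain ⟨Q₁, R₁, h₁, ⟨e₁⟩, hkQ, hk2'⟩ := (Finset.mem_filter.1 hk).2
      exact Subtype.ext (mul_self_of_orderOf_two hk2')
    exact congrArg Subtype.val h1
  refine ⟨w, by rw [← hK]; exact w.2, orderOf_two_of hww hw1, ?_⟩
  intro g hg
  have hgS : cj g S = S := mem_normalizer_cj.1 hg
  have hgS' : cj g⁻¹ S = S := mem_normalizer_cj.1 (inv_mem hg)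
  have hKc : ∀ g : G, cj g S = S → ∀ k ∈ K, g * k * g⁻¹ ∈ K := by
    intro g hgS k hk
    rw [hK] at hk ⊢
    refine mem_inf.2 ⟨?_, ?_⟩
    · have : g * k * g⁻¹ ∈ cj g S := conj_mem_cj.2 hk.1
      rwa [hgS] at this
    · rw [mem_centralizer_iff]
      intro x hx
      have hx' : x ∈ S := hx
      rw [← hgS, mem_cj] at hx'
      have h1 := mem_centralizer_iff.1 hk.2 _ hx'
      calc x * (g * k * g⁻¹) = g * (g⁻¹ * x * g * k) * g⁻¹ := by group
        _ = g * (k * (g⁻¹ * x * g)) * g⁻¹ := by rw [h1]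
        _ = g * k * g⁻¹ * x := by group
  let c : K →* K :=
    { toFun := fun k => ⟨g * k * g⁻¹, hKc g hgS k k.2⟩
      map_one' := Subtype.ext (by simp)
      map_mul' := fun a b => Subtype.ext (by simp [mul_assoc]) }
  have hcw : c w = w := by
    rw [hw, map_prod]
    refine Finset.prod_bij (fun k _ => c k) ?_ ?_ ?_ ?_
    · intro k hk
      exact Finset.mem_filter.2 ⟨Finset.mem_univ _, ZZ_cj hgS (Finset.mem_filter.1 hk).2⟩
    · intro k _ k' _ hkk
      have h1 : g * (k : G) * g⁻¹ = g * k' * g⁻¹ := congrArg Subtype.val hkk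
      exact Subtype.ext (mul_left_cancel (mul_right_cancel h1))
    · intro k hk
      refine ⟨⟨g⁻¹ * k * g⁻¹⁻¹, hKc g⁻¹ hgS' k k.2⟩, Finset.mem_filter.2 ⟨Finset.mem_univ _,
        ZZ_cj hgS' (Finset.mem_filter.1 hk).2⟩, ?_⟩
      apply Subtype.ext
      show g * (g⁻¹ * (k : G) * g⁻¹⁻¹) * g⁻¹ = k
      group
    · intro k _; rfl
  exact congrArg Subtype.val hcw

/-- the main result -/
theorem not_simple (hn : 1 ≤ n) (S : Sylow 2 G) {Q R : Subgroup G} (h : IsInternalDirectProduct Q R (S : Subgroup G))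
    (e : Q ≃* QuaternionGroup (2 ^ n)) (hR : ∀ r ∈ R, orderOf r = 2 → ∀ s ∈ R, r * s = s * r) :
    ¬ IsSimpleGroup G := by
  intro hsimple
  haveI : Fact (Nat.Prime 2) := ⟨Nat.prime_two⟩
  haveI : NeZero (2 ^ n) := ⟨by positivity⟩
  obtain ⟨w, hwK, hw2, hwinv⟩ := exists_invariant hn h e
  -- involutions of `S` are central in `S`
  have hinv : ∀ x ∈ (S : Subgroup G), orderOf x = 2 → x ∈ centralizer ((S : Subgroup G) : Set G) := by
    intro x hx hx2
    obtain ⟨q, hq, r, hr, rfl⟩ := dp_mem h hx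
    have hc : Commute q r := h.2.2.1 q hq r hr
    have h1 : (q * r) * (q * r) = 1 := mul_self_of_orderOf_two hx2
    have h2 : (q * q) * (r * r) = 1 * 1 := by
      rw [mul_one, ← h1]
      calc q * q * (r * r) = q * (q * r) * r := by group
        _ = q * (r * q) * r := by rw [hc.eq]
        _ = q * r * (q * r) := by group
    obtain ⟨h3, h4⟩ := dp_uniq h (mul_mem hq hq) Q.one_mem (mul_mem hr hr) R.one_mem h2
    rw [mem_centralizer_iff]
    intro y hy
    obtain ⟨a, ha, b, hb, rfl⟩ := dp_mem h hy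
    have e1 : Commute a r := h.2.2.1 a ha r hr
    have e2 : Commute q b := h.2.2.1 q hq b hb
    have e3 : Commute a q := by
      by_cases hq1 : q = 1
      · rw [hq1]; exact Commute.one_right a
      · have hq2 := orderOf_two_of h3 hq1
        have h5 : orderOf (a * q * a⁻¹) = 2 := by rw [orderOf_conj, hq2]
        exact mul_inv_eq_iff_eq_mul.1 (quaternion_sylow_unique e (mul_mem (mul_mem ha hq) (inv_mem ha)) hq h5 hq2)
    have e4 : Commute b r := by
      by_cases hr1 : r = 1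
      · rw [hr1]; exact Commute.one_right b
      · exact (hR r hr (orderOf_two_of h4 hr1) b hb).symm
    exact ((e3.mul_right e1).mul_left (e2.symm.mul_right e4)).eq
  have hiso : IsIsolatedInvolution w := by
    apply isolated_of_sylow S hw2
    intro g hg
    have h1 : orderOf (g * w * g⁻¹) = 2 := by rw [orderOf_conj, hw2]
    have h2 := hinv _ hg h1
    obtain ⟨m, hm, hm2⟩ := S.conj_eq_normalizer_conj_of_mem_centralizer w g⁻¹ hwK.2 (by rw [inv_inv]; exact h2)
    rw [inv_inv] at hm2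
    rw [hm2]
    have := hwinv m⁻¹ (inv_mem hm)
    rwa [inv_inv] at this
  have hO : oddCore G = ⊥ := by
    haveI : (oddCore G).Normal := H1.pPrimeCore_normal 2 G
    rcases (inferInstance : (oddCore G).Normal).eq_bot_or_eq_top with h2 | h2
    · exact h2
    · exfalso
      have h3 := oddCore_odd G
      rw [h2, card_top] at h3
      have h4 : 2 ∣ Nat.card G := by rw [← hw2]; exact orderOf_dvd_natCard w
      exact (Nat.not_even_iff_odd.2 h3) (even_iff_two_dvd.2 h4)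
  have h1 := zstar_central hO hiso
  have h2 : center G = ⊤ := by
    rcases (inferInstance : (center G).Normal).eq_bot_or_eq_top with h2 | h2
    · exfalso
      rw [h2, mem_bot] at h1
      exact ne_one_of_orderOf_two hw2 h1
    · exact h2
  apply quat_nonab hn e
  intro x _ y _
  have h3 : y ∈ center G := by rw [h2]; exact mem_top y
  exact (mem_center_iff.1 h3 x)

end Cfsg.Agent.H4.QF
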