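import Mathlib
import Cfsg.Agent.H4.IAf
import Cfsg.Agent.H4.QuatFactor
import Cfsg.Agent.H5.SylSL2
import Cfsg.Agent.H5.PSLSimple
import Cfsg.Agent.S0089

set_option autoImplicit false
set_option linter.unusedSectionVars false

/-! Groups with abelian centralizers of involutions: the configuration arises, and the splitting. -/

namespace Cfsg.Agent.H4

open Cfsg

section setup
variable {G : Type*} [Group G] [Finite G]

theorem inv_comm_of (h : ∀ t : G, orderOf t = 2 → IsMulCommutative ↥(Subgroup.centralizer ({t} : Set G)))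
    {t : G} (ht : orderOf t = 2) {a b : G} (ha : a * t = t * a) (hb : b * t = t * b) : a * b = b * a := by
  have := (h t ht).is_comm.comm ⟨a, Subgroup.mem_centralizer_singleton_iff.2 ha⟩
    ⟨b, Subgroup.mem_centralizer_singleton_iff.2 hb⟩
  exact congrArg Subtype.val this

theorem sylow_comm_of (h : ∀ t : G, orderOf t = 2 → IsMulCommutative ↥(Subgroup.centralizer ({t} : Set G)))
    (S : Sylow 2 G) {a b : G} (ha : a ∈ (S : Subgroup G)) (hb : b ∈ (S : Subgroup G)) : a * b = b * a := by
  by_cases hS : Nontrivial (S : Subgroup G)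
  · haveI := S.isPGroup'.center_nontrivial
    obtain ⟨z, hz⟩ := exists_prime_orderOf_dvd_card' (G := Subgroup.center (S : Subgroup G)) 2 (by
      rcases (S.isPGroup'.to_subgroup (Subgroup.center (S : Subgroup G))).card_eq_or_dvd with h1 | h1
      · exact absurd h1 (Finite.one_lt_card_iff_nontrivial.2 this).ne'
      · exact h1)
    have hz' : orderOf ((z : (S : Subgroup G)) : G) = 2 := by rw [Subgroup.orderOf_coe, Subgroup.orderOf_coe, hz]
    have hc : ∀ x ∈ (S : Subgroup G), x * ((z : (S : Subgroup G)) : G) = ((z : (S : Subgroup G)) : G) * x := by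
      intro x hx
      exact congrArg Subtype.val (Subgroup.mem_center_iff.1 z.2 ⟨x, hx⟩)
    exact inv_comm_of h hz' (hc a ha) (hc b hb)
  · rw [not_nontrivial_iff_subsingleton] at hS
    have h1 : (⟨a, ha⟩ : (S : Subgroup G)) = ⟨b, hb⟩ := Subsingleton.elim _ _
    have h2 : a = b := congrArg Subtype.val h1
    rw [h2]

theorem IA_of (h : ∀ t : G, orderOf t = 2 → IsMulCommutative ↥(Subgroup.centralizer ({t} : Set G)))
    (S : Sylow 2 G) (hnc : ¬ IsCyclic S) (hnn : ¬ (S : Subgroup G).Normal) :
    IA (Subgroup.normalizer ((S : Subgroup G) : Set G)) (Subgroup.centralizer ((S : Subgroup G) : Set G)) := by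
  classical
  have hcomm : ∀ a ∈ (S : Subgroup G), ∀ b ∈ (S : Subgroup G), a * b = b * a :=
    fun a ha b hb => sylow_comm_of h S ha hb
  set H := Subgroup.normalizer ((S : Subgroup G) : Set G) with hH
  set A := Subgroup.centralizer ((S : Subgroup G) : Set G) with hA
  have hSH : (S : Subgroup G) ≤ H := Subgroup.le_normalizer
  -- elements of order two of `H` lie in `S`
  have hinvS : ∀ t ∈ H, orderOf t = 2 → t ∈ (S : Subgroup G) := by
    intro t ht ho
    have hp : IsPGroup 2 (Subgroup.zpowers t) := by
      apply IsPGroup.of_card (n := 1)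
      rw [Nat.card_zpowers, ho, pow_one]
    have h1 : Subgroup.zpowers t ⊓ Subgroup.normalizer ((S : Subgroup G) : Set G) = Subgroup.zpowers t ⊓ S :=
      hp.inf_normalizer_sylow S
    have h2 : t ∈ Subgroup.zpowers t ⊓ Subgroup.normalizer ((S : Subgroup G) : Set G) :=
      Subgroup.mem_inf.2 ⟨Subgroup.mem_zpowers t, ht⟩
    rw [h1] at h2
    exact (Subgroup.mem_inf.1 h2).2
  have hcent : ∀ t ∈ H, orderOf t = 2 → ∀ g : G, g * t = t * g → g ∈ A := by
    intro t ht ho g hg
    rw [hA, Subgroup.mem_centralizer_iff]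
    intro s hs
    exact inv_comm_of h ho (hcomm s hs t (hinvS t ht ho)) hg
  -- two distinct involutions
  obtain ⟨x, y, hx, hy, hxo, hyo, hxy⟩ : ∃ x y : G, x ∈ (S : Subgroup G) ∧ y ∈ (S : Subgroup G) ∧ orderOf x = 2 ∧
      orderOf y = 2 ∧ x ≠ y := by
    by_contra hcon
    push Not at hcon
    rcases cyclic_or_quaternion (P := (S : Subgroup G)) S.isPGroup'
      (fun x hx y hy hxo hyo => hcon x y hx hy hxo hyo) with h1 | ⟨m, hm, ⟨e⟩⟩
    · exact hnc h1
    · exact QF.quat_nonab hm e hcomm
  have hxx := mul_self_of_orderOf_two hxo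
  have hyy := mul_self_of_orderOf_two hyo
  have hxyc := hcomm x hx y hy
  have hx1 : x ≠ 1 := by rintro rfl; rw [orderOf_one] at hxo; exact absurd hxo (by norm_num)
  have hy1 : y ≠ 1 := by rintro rfl; rw [orderOf_one] at hyo; exact absurd hyo (by norm_num)
  have hxyo : orderOf (x * y) = 2 := by
    apply orderOf_two_of
    · calc x * y * (x * y) = x * (y * x) * y := by group
        _ = x * (x * y) * y := by rw [hxyc]
        _ = (x * x) * (y * y) := by group
        _ = 1 := by rw [hxx, hyy, one_mul]
    · intro hc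
      apply hxy
      rw [eq_inv_of_mul_eq_one_left hc, inv_eq_self_of_mul_self hyy]
  refine ⟨⟨?_, ?_, ?_⟩, ?_, ?_, ?_, hcent, ?_⟩
  · intro hc
    exact hnn (Subgroup.normalizer_eq_top_iff.1 hc)
  · rw [← Nat.not_odd_iff_even]
    exact not_odd_card_of_mem (hSH hx) hxo
  · intro g hg
    by_contra hodd
    obtain ⟨t, ht, ho⟩ := exists_involution hodd
    rw [Subgroup.mem_inf, mem_map_conj] at ht
    have h1 := hinvS t ht.1 ho
    have ho' : orderOf (g⁻¹ * t * g) = 2 := by
      have := orderOf_conj t g⁻¹
      rw [inv_inv] at this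
      rw [this, ho]
    have h2 := hinvS _ ht.2 ho'
    apply hg
    -- the elements of `S` and `S^g` commute
    have hcg : ∀ a ∈ (S : Subgroup G), ∀ b ∈ (S : Subgroup G), a * (g * b * g⁻¹) = (g * b * g⁻¹) * a := by
      intro a ha b hb
      apply inv_comm_of h ho (hcomm a ha t h1)
      have h3 := hcomm b hb _ h2
      calc g * b * g⁻¹ * t = g * (b * (g⁻¹ * t * g)) * g⁻¹ := by group
        _ = g * ((g⁻¹ * t * g) * b) * g⁻¹ := by rw [h3]
        _ = t * (g * b * g⁻¹) := by group
    have h4 : ∀ b ∈ (S : Subgroup G), g * b * g⁻¹ ∈ H := by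
      intro b hb
      rw [hH, Subgroup.mem_normalizer_iff]
      intro a
      constructor
      · intro ha
        have : g * b * g⁻¹ * a * (g * b * g⁻¹)⁻¹ = a := by
          rw [← hcg a ha b hb]; group
        rw [this]; exact ha
      · intro ha
        have h5 := hcg _ ha b hb
        have h6 : a = g * b * g⁻¹ * a * (g * b * g⁻¹)⁻¹ := by
          set c := g * b * g⁻¹ with hcdef
          have h7 : c * a * c⁻¹ * c = c * (c * a * c⁻¹) := h5
          rw [inv_mul_cancel_right] at h7
          exact mul_left_cancel h7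
        rw [h6]; exact ha
    have h5 : (S : Subgroup G).map (MulAut.conj g).toMonoidHom ≤ (S : Subgroup G) := by
      have hp : IsPGroup 2 ((S : Subgroup G).map (MulAut.conj g).toMonoidHom) := S.isPGroup'.map _
      have h6 : (S : Subgroup G).map (MulAut.conj g).toMonoidHom ⊓ Subgroup.normalizer ((S : Subgroup G) : Set G) =
          (S : Subgroup G).map (MulAut.conj g).toMonoidHom ⊓ S := hp.inf_normalizer_sylow S
      rintro _ ⟨b, hb, rfl⟩
      have h7 : (MulAut.conj g).toMonoidHom b ∈ (S : Subgroup G).map (MulAut.conj g).toMonoidHom ⊓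
          Subgroup.normalizer ((S : Subgroup G) : Set G) :=
        Subgroup.mem_inf.2 ⟨⟨b, hb, rfl⟩, h4 b hb⟩
      rw [h6] at h7
      exact (Subgroup.mem_inf.1 h7).2
    have h6 : (S : Subgroup G).map (MulAut.conj g).toMonoidHom = (S : Subgroup G) := by
      apply Subgroup.eq_of_le_of_card_ge h5
      rw [Subgroup.card_map_of_injective (MulAut.conj g).injective]
    rw [hH, Subgroup.mem_normalizer_iff]
    intro a
    constructor
    · intro ha
      have : g * a * g⁻¹ ∈ (S : Subgroup G).map (MulAut.conj g).toMonoidHom := ⟨a, ha, rfl⟩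
      rwa [h6] at this
    · intro ha
      rw [← h6] at ha
      obtain ⟨b, hb, hbg⟩ := ha
      have h8 : g * b * g⁻¹ = g * a * g⁻¹ := hbg
      have h9 : b = a := mul_left_cancel (mul_right_cancel h8)
      rw [← h9]; exact hb
  · -- A ≤ H
    intro a ha
    rw [hA, Subgroup.mem_centralizer_iff] at ha
    rw [hH, Subgroup.mem_normalizer_iff]
    intro s
    constructor
    · intro hs
      rw [← ha s hs, mul_inv_cancel_right]; exact hs
    · intro hs
      have h1 := ha _ hs
      have h2 : s = a * s * a⁻¹ := by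
        rw [inv_mul_cancel_right] at h1
        exact mul_left_cancel h1
      rw [h2]; exact hs
  · -- normal
    intro k hk a ha
    rw [hA, Subgroup.mem_centralizer_iff] at ha ⊢
    intro s hs
    rw [hH, Subgroup.mem_normalizer_iff] at hk
    have h1 : k⁻¹ * s * k ∈ (S : Subgroup G) := by
      have := (hk (k⁻¹ * s * k)).2 (by
        have e : k * (k⁻¹ * s * k) * k⁻¹ = s := by group
        rw [e]; exact hs)
      exact this
    have h2 := ha _ h1
    calc s * (k * a * k⁻¹) = k * ((k⁻¹ * s * k) * a) * k⁻¹ := by group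
      _ = k * (a * (k⁻¹ * s * k)) * k⁻¹ := by rw [h2]
      _ = (k * a * k⁻¹) * s := by group
  · -- commutative
    intro a ha b hb
    rw [hA, Subgroup.mem_centralizer_iff] at ha hb
    exact inv_comm_of h hxo (ha x hx).symm (hb x hx).symm
  · -- three involutions
    have h1 : ({x, y, x * y} : Set G).ncard = 3 := by
      rw [Set.ncard_eq_three]
      exact ⟨x, y, x * y, hxy, fun hc => hy1 (by
        have : x * 1 = x * y := by rw [mul_one]; exact hc
        exact (mul_left_cancel this).symm), fun hc => hx1 (by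
        have : 1 * y = x * y := by rw [one_mul]; exact hc
        exact (mul_right_cancel this).symm), rfl⟩
    have h2 : ({x, y, x * y} : Set G) ⊆ {t : G | orderOf t = 2 ∧ t ∈ H} := by
      intro z hz
      rcases hz with rfl | rfl | hz
      · exact ⟨hxo, hSH hx⟩
      · exact ⟨hyo, hSH hy⟩
      · rw [Set.mem_singleton_iff] at hz
        rw [hz]; exact ⟨hxyo, hSH ((S : Subgroup G).mul_mem hx hy)⟩
    have h3 := Set.ncard_le_ncard h2 (Set.toFinite _)
    rw [h1, ← Nat.card_coe_set_eq] at h3
    exact h3

end setup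

end Cfsg.Agent.H4
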