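import Mathlib
import Cfsg.Agent.H4.IAg

set_option autoImplicit false
set_option linter.unusedSectionVars false

/-! Groups with abelian centralizers of involutions: splitting off the centre. -/

namespace Cfsg.Agent.H4

open Cfsg
open scoped commutatorElement

theorem sl2_center_char_two {F : Type*} [Field F] [CharP F 2] :
    Subgroup.center (Matrix.SpecialLinearGroup (Fin 2) F) = ⊥ := by
  rw [eq_bot_iff]
  intro A hA
  obtain ⟨r, hr, hrA⟩ := Matrix.SpecialLinearGroup.mem_center_iff.1 hA
  rw [Fintype.card_fin] at hr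
  have hr1 : r = 1 := by
    have h1 : (r - 1) ^ 2 = 0 := by
      have h2 : (2 : F) = 0 := CharTwo.two_eq_zero
      linear_combination hr + (1 - r) * h2
    exact sub_eq_zero.1 (pow_eq_zero_iff (two_ne_zero)|>.1 h1)
  rw [Subgroup.mem_bot]
  apply Subtype.ext
  rw [← hrA, hr1]
  simp

noncomputable def psl2EquivSl2 {F : Type*} [Field F] [CharP F 2] :
    Matrix.ProjectiveSpecialLinearGroup (Fin 2) F ≃* Matrix.SpecialLinearGroup (Fin 2) F :=
  (QuotientGroup.quotientMulEquivOfEq (sl2_center_char_two (F := F))).trans QuotientGroup.quotientBot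

theorem comm_of_sl2 {P : Type*} [Group P] [Finite P] {F : Type*} [Field F] [CharP F 2] {p : ℕ} [hp : Fact p.Prime]
    (hp2 : p ≠ 2) (hP : IsPGroup p P) (f : P →* Matrix.SpecialLinearGroup (Fin 2) F)
    (hf : f.ker ≤ Subgroup.center P) : IsMulCommutative P := by
  have hQ : IsPGroup p f.range := hP.of_surjective f.rangeRestrict f.rangeRestrict_surjective
  have : Finite f.range := Set.finite_range f
  haveI : Fact (Nat.Prime 2) := ⟨Nat.prime_two⟩
  have hc := H5.cyclic_or_quat_of_key hQ (by
    intro x z hxz hx hz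
    have h1 := H5.sl2_key 2 p hp2 hp2 (x : Matrix.SpecialLinearGroup (Fin 2) F) z
      (congrArg Subtype.val hxz.eq) (by rw [Subgroup.orderOf_coe, hx]) (by rw [Subgroup.orderOf_coe, hz])
    obtain ⟨k, hk⟩ := h1
    refine ⟨k, Subtype.ext ?_⟩
    exact hk)
  rcases hc with hc | ⟨hc, -⟩
  · exact f.rangeRestrict.isMulCommutative_of_isCyclic_of_ker_le_center (by
      rw [MonoidHom.ker_rangeRestrict]; exact hf)
  · exact absurd hc hp2

theorem prod_of_split {G : Type*} [Group G] {K : Subgroup G} [K.Normal] (h1 : K ⊓ commutator G = ⊥)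
    (h2 : K ⊔ commutator G = ⊤) : Nonempty (G ≃* (G ⧸ K) × (G ⧸ commutator G)) := by
  let φ : G →* (G ⧸ K) × (G ⧸ commutator G) := (QuotientGroup.mk' K).prod (QuotientGroup.mk' (commutator G))
  refine ⟨MulEquiv.ofBijective φ ⟨?_, ?_⟩⟩
  · rw [injective_iff_map_eq_one]
    intro g hg
    have h3 : (QuotientGroup.mk' K) g = 1 := congrArg Prod.fst hg
    have h4 : (QuotientGroup.mk' (commutator G)) g = 1 := congrArg Prod.snd hg
    have h5 : g ∈ K ⊓ commutator G :=
      Subgroup.mem_inf.2 ⟨(QuotientGroup.eq_one_iff _).1 h3, (QuotientGroup.eq_one_iff _).1 h4⟩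
    rwa [h1, Subgroup.mem_bot] at h5
  · rintro ⟨x, y⟩
    obtain ⟨x, rfl⟩ := QuotientGroup.mk'_surjective _ x
    obtain ⟨y, rfl⟩ := QuotientGroup.mk'_surjective _ y
    obtain ⟨a, ha, b, hb, hab⟩ := Subgroup.mem_sup_of_normal_left.1 (show x ∈ K ⊔ commutator G by rw [h2]; exact Subgroup.mem_top _)
    obtain ⟨c, hc, d, hd, hcd⟩ := Subgroup.mem_sup_of_normal_left.1 (show y ∈ K ⊔ commutator G by rw [h2]; exact Subgroup.mem_top _)
    have ea : (QuotientGroup.mk' K) a = 1 := (QuotientGroup.eq_one_iff _).2 ha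
    have ec : (QuotientGroup.mk' K) c = 1 := (QuotientGroup.eq_one_iff _).2 hc
    have eb : (QuotientGroup.mk' (commutator G)) b = 1 := (QuotientGroup.eq_one_iff _).2 hb
    have ed : (QuotientGroup.mk' (commutator G)) d = 1 := (QuotientGroup.eq_one_iff _).2 hd
    refine ⟨b * c, ?_⟩
    apply Prod.ext
    · change (QuotientGroup.mk' K) (b * c) = (QuotientGroup.mk' K) x
      rw [← hab, map_mul, map_mul, ea, ec, mul_one, one_mul]
    · change (QuotientGroup.mk' (commutator G)) (b * c) = (QuotientGroup.mk' (commutator G)) y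
      rw [← hcd, map_mul, map_mul, eb, ed, mul_one, one_mul]

theorem exists_type_zero (α : Type*) [CommGroup α] [Finite α] :
    ∃ (A : Type) (_ : CommGroup A) (_ : Finite A), Nonempty (α ≃* A) := by
  have hf : Finite (Shrink.{0} α) := Finite.of_equiv α (equivShrink.{0} α)
  exact ⟨Shrink.{0} α, inferInstance, hf, ⟨(Shrink.mulEquiv.{0} (α := α)).symm⟩⟩

theorem IA.split {G : Type*} [Group G] [Finite G] {H A : Subgroup G} (h : IA H A)
    (hS : ∀ S : Sylow 2 G, IsMulCommutative S) :
    ∃ (F : Type) (_ : Field F) (_ : Fintype F) (A : Type) (_ : CommGroup A) (_ : Finite A), CharP F 2 ∧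
      Odd (Nat.card A) ∧ Nonempty (G ≃* Matrix.SpecialLinearGroup (Fin 2) F × A) := by
  classical
  obtain ⟨hA, F, i1, i2, hF, hFc, ⟨e⟩⟩ := h.quot.ident (h.quot_ti h.maximal)
  haveI : CharP F 2 := ringChar.of_eq hF
  have h4 := h.quot.four_le (h.quot_ti h.maximal)
  rw [← hFc, ← Nat.card_eq_fintype_card] at h4
  set Z := Subgroup.center G with hZ
  let e' : (G ⧸ Z) ≃* Matrix.SpecialLinearGroup (Fin 2) F := e.trans psl2EquivSl2
  -- all Sylow subgroups are abelian
  have hab : ∀ p : ℕ, p.Prime → ∀ P : Sylow p G, IsMulCommutative P := by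
    intro p hp P
    haveI : Fact p.Prime := ⟨hp⟩
    by_cases hp2 : p = 2
    · subst hp2; exact hS P
    · let f : P →* Matrix.SpecialLinearGroup (Fin 2) F :=
        (e'.toMonoidHom.comp (QuotientGroup.mk' Z)).comp (P : Subgroup G).subtype
      apply comm_of_sl2 hp2 P.isPGroup' f
      intro x hx
      have h1 : e' ((QuotientGroup.mk' Z) (x : G)) = 1 := hx
      have h2 : (QuotientGroup.mk' Z) (x : G) = 1 := e'.injective (by rw [h1, map_one])
      have h3 : (x : G) ∈ Z := (QuotientGroup.eq_one_iff _).1 h2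
      rw [Subgroup.mem_center_iff]
      intro y
      exact Subtype.ext (Subgroup.mem_center_iff.1 h3 y)
  have hinf : Z ⊓ commutator G = ⊥ := by rw [inf_comm]; exact S0089.result hab
  -- perfect quotient
  have hperf : commutator (G ⧸ Z) = ⊤ := by
    have hs : IsSimpleGroup (Matrix.ProjectiveSpecialLinearGroup (Fin 2) F) := H5.PSL2_isSimple h4
    have hnt : Nontrivial (G ⧸ Z) := e.toEquiv.nontrivial
    have hs' : IsSimpleGroup (G ⧸ Z) := IsSimpleGroup.isSimpleGroup_of_surjective (f := e.symm.toMonoidHom) e.symm.surjective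
    rcases (inferInstance : (commutator (G ⧸ Z)).Normal).eq_bot_or_eq_top with h1 | h1
    · exfalso
      -- the quotient would be abelian
      obtain ⟨t, ht, hto⟩ := h.quot.exists_inv
      have hcomm : ∀ a b : G ⧸ Z, a * b = b * a := by
        intro a b
        have h2 : ⁅a, b⁆ ∈ commutator (G ⧸ Z) := Subgroup.commutator_mem_commutator (Subgroup.mem_top _) (Subgroup.mem_top _)
        rw [h1, Subgroup.mem_bot] at h2
        exact commutatorElement_eq_one_iff_mul_comm.1 h2
      apply h.quot.center_no_inv (z := t) _ hto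
      rw [Subgroup.mem_center_iff]
      intro g; exact hcomm g t
    · exact h1
  have hsup : Z ⊔ commutator G = ⊤ := by
    have h1 : (commutator G).map (QuotientGroup.mk' Z) = ⊤ := by
      rw [commutator_def, Subgroup.map_commutator, Subgroup.map_top_of_surjective _ (QuotientGroup.mk'_surjective _),
        ← commutator_def, hperf]
    rw [eq_top_iff]
    intro g _
    have h2 : (QuotientGroup.mk' Z) g ∈ (commutator G).map (QuotientGroup.mk' Z) := by rw [h1]; exact Subgroup.mem_top _
    obtain ⟨c, hc, hcg⟩ := h2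
    have h3 : c⁻¹ * g ∈ Z := QuotientGroup.eq.1 hcg
    have h4 : g = c * (c⁻¹ * g) := by group
    rw [h4]
    exact Subgroup.mul_mem _ (Subgroup.mem_sup_right hc) (Subgroup.mem_sup_left h3)
  obtain ⟨ψ⟩ := prod_of_split hinf hsup
  obtain ⟨B, iB, iBf, ⟨eB⟩⟩ := exists_type_zero (Abelianization G)
  refine ⟨F, i1, i2, B, iB, iBf, inferInstance, ?_, ⟨ψ.trans (e'.prodCongr eB)⟩⟩
  -- odd order
  rw [← Nat.card_congr eB.toEquiv]
  have hZodd : Odd (Nat.card Z) := by
    by_contra hodd
    obtain ⟨z, hz, ho⟩ := exists_involution hodd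
    exact h.center_no_inv hz ho
  let f : Z →* Abelianization G := Abelianization.of.comp Z.subtype
  have hf : Function.Surjective f := by
    intro x
    obtain ⟨g, rfl⟩ := QuotientGroup.mk'_surjective _ x
    obtain ⟨a, ha, b, hb, hab⟩ := Subgroup.mem_sup_of_normal_left.1 (show g ∈ Z ⊔ commutator G by rw [hsup]; exact Subgroup.mem_top _)
    refine ⟨⟨a, ha⟩, ?_⟩
    have eb : (QuotientGroup.mk' (commutator G)) b = 1 := (QuotientGroup.eq_one_iff _).2 hb
    change (QuotientGroup.mk' (commutator G)) a = (QuotientGroup.mk' (commutator G)) g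
    rw [← hab, map_mul, eb, mul_one]
  exact hZodd.of_dvd_nat (Subgroup.card_dvd_of_surjective f hf)

end Cfsg.Agent.H4
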