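import Mathlib
import Cfsg.Agent.S2202
import Cfsg.Agent.S3996
import Cfsg.Agent.FT
import Cfsg.Agent.H10.Basic
import Cfsg.Agent.H4.ZStar2

set_option autoImplicit false
set_option linter.unusedSectionVars false

/-! Groups in which the nontrivial subgroups of a cyclic subgroup of even order have the same
normalizer: basic facts. -/

namespace Cfsg.Agent.H4.RA

open Cfsg Subgroup
open scoped commutatorElement

universe u

/-- normalizer condition -/
def NC (G : Type*) [Group G] : Prop :=
  ∀ X : Subgroup G, IsCyclic ↥X → Even (Nat.card ↥X) → ∀ Y : Subgroup G, Y ≤ X → Y ≠ ⊥ →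
      Subgroup.normalizer (X : Set G) = Subgroup.normalizer (Y : Set G)

/-- no solvable normal subgroup -/
def NS (G : Type*) [Group G] : Prop := ∀ N : Subgroup G, N.Normal → Group.IsSolvable ↥N → N = ⊥

variable {G : Type*} [Group G] [Finite G]

theorem mem_norm_zpowers {g x : G} :
    g ∈ normalizer ((zpowers x : Subgroup G) : Set G) ↔ g * x * g⁻¹ ∈ zpowers x := by
  constructor
  · intro h
    exact (mem_normalizer_iff.1 h x).1 (mem_zpowers x)
  · intro h
    have h1 : (zpowers x).map (MulAut.conj g).toMonoidHom ≤ zpowers x := by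
      rw [MonoidHom.map_zpowers, zpowers_le]
      exact h
    have h2 : (zpowers x).map (MulAut.conj g).toMonoidHom = zpowers x := by
      apply Subgroup.eq_of_le_of_card_ge h1
      rw [Subgroup.card_map_of_injective (MulAut.conj g).injective]
    rw [mem_normalizer_iff]
    intro y
    constructor
    · intro hy
      rw [← h2]
      exact ⟨y, hy, rfl⟩
    · intro hy
      rw [← h2] at hy
      obtain ⟨z, hz, hzy⟩ := hy
      have h3 : g * z * g⁻¹ = g * y * g⁻¹ := hzy
      have h4 : z = y := by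
        have := congrArg (fun w => g⁻¹ * w * g) h3
        simpa [mul_assoc] using this
      rw [← h4]; exact hz

theorem inv_ne {t : G} (ht : orderOf t = 2) : t ≠ 1 := by
  rintro rfl; rw [orderOf_one] at ht; omega

theorem inv_sq {t : G} (ht : orderOf t = 2) : t * t = 1 := by
  rw [← pow_two, ← ht]; exact pow_orderOf_eq_one t

theorem inv_inv' {t : G} (ht : orderOf t = 2) : t⁻¹ = t := inv_eq_of_mul_eq_one_right (inv_sq ht)

theorem inv_of {t : G} (h1 : t ≠ 1) (h2 : t * t = 1) : orderOf t = 2 :=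
  orderOf_eq_prime (by rw [pow_two]; exact h2) h1

theorem mem_zpowers_inv {t y : G} (ht : orderOf t = 2) (hy : y ∈ zpowers t) : y = 1 ∨ y = t := by
  obtain ⟨k, rfl⟩ := mem_zpowers_iff.1 hy
  rcases Int.even_or_odd' k with ⟨m, rfl | rfl⟩
  · left; rw [zpow_mul, zpow_two, inv_sq ht, one_zpow]
  · right; rw [zpow_add, zpow_mul, zpow_two, inv_sq ht, one_zpow, one_mul, zpow_one]

theorem norm_inv {t : G} (ht : orderOf t = 2) :
    normalizer ((zpowers t : Subgroup G) : Set G) = centralizer {t} := by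
  ext g
  rw [mem_norm_zpowers, mem_centralizer_singleton_iff]
  constructor
  · intro h
    rcases mem_zpowers_inv ht h with h | h
    · exact absurd h (fun h => inv_ne ht (conj_eq_one_iff.1 h))
    · rw [← mul_inv_eq_iff_eq_mul]; exact h
  · intro h
    rw [h, mul_inv_cancel_right]; exact mem_zpowers t

theorem nz (h : NC G) {t x g : G} (ht : orderOf t = 2) (htg : t ∈ zpowers g) (hxg : x ∈ zpowers g) (hx : x ≠ 1) :
    normalizer ((zpowers x : Subgroup G) : Set G) = centralizer {t} := by
  have h1 : Even (Nat.card (zpowers g)) := by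
    have : orderOf t ∣ Nat.card (zpowers g) := by
      rw [← Nat.card_zpowers]; exact Subgroup.card_dvd_of_le (zpowers_le.2 htg)
    rw [ht] at this
    exact even_iff_two_dvd.2 this
  have h2 := h (zpowers g) inferInstance h1 (zpowers x) (zpowers_le.2 hxg) (by rwa [Ne, zpowers_eq_bot])
  have h3 := h (zpowers g) inferInstance h1 (zpowers t) (zpowers_le.2 htg) (by
    rw [Ne, zpowers_eq_bot]; exact inv_ne ht)
  rw [← h2, h3, norm_inv ht]

theorem nz_pow (h : NC G) {t x : G} (ht : orderOf t = 2) (htx : t ∈ zpowers x) :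
    normalizer ((zpowers x : Subgroup G) : Set G) = centralizer {t} := by
  apply nz h ht htx (mem_zpowers x)
  rintro rfl
  rw [zpowers_one_eq_bot, mem_bot] at htx
  exact inv_ne ht htx

theorem nz_odd (h : NC G) {t x : G} (ht : orderOf t = 2) (hc : x * t = t * x) (ho : Odd (orderOf x)) (hx : x ≠ 1) :
    normalizer ((zpowers x : Subgroup G) : Set G) = centralizer {t} := by
  have hcc : Commute t x := hc.symm
  obtain ⟨m, hm⟩ := ho
  have hxo : x ^ (2 * m + 1) = 1 := by rw [← hm]; exact pow_orderOf_eq_one x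
  have ht2 : t ^ 2 = 1 := by rw [pow_two]; exact inv_sq ht
  apply nz h (g := t * x) ht ?_ ?_ hx
  · refine mem_zpowers_iff.2 ⟨(2 * m + 1 : ℕ), ?_⟩
    rw [zpow_natCast, hcc.mul_pow, hxo, mul_one, pow_add, pow_mul, ht2, one_pow, one_mul, pow_one]
  · refine mem_zpowers_iff.2 ⟨(2 * m + 1 + 1 : ℕ), ?_⟩
    rw [zpow_natCast, hcc.mul_pow, pow_succ x, hxo, one_mul, show 2 * m + 1 + 1 = 2 * (m + 1) by ring, pow_mul,
      ht2, one_pow, one_mul]

/-! ### no solvable normal subgroups in normal subgroups -/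

theorem NS.sub {M : Subgroup G} [hM : M.Normal] (h : NS G) : NS M := by
  intro K hK hs
  have := H10.solvRad_characteristic M
  have h1 : ((H10.solvRad M).map M.subtype).Normal := inferInstance
  have h2 : Group.IsSolvable ((H10.solvRad M).map M.subtype) :=
    H10.isSolvable_map_subtype (H10.solvRad_isSolvable M)
  have h3 := h _ h1 h2
  rw [Subgroup.map_eq_bot_iff_of_injective _ M.subtype_injective] at h3
  exact le_bot_iff.1 (h3 ▸ H10.le_solvRad hK hs)

theorem NS.not_solvable [Nontrivial G] (h : NS G) : ¬ Group.IsSolvable G := by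
  intro hs
  have := h ⊤ inferInstance inferInstance
  exact top_ne_bot this

theorem NS.even [Nontrivial G] (h : NS G) : Even (Nat.card G) := by
  by_contra hodd
  exact h.not_solvable (FT.odd_order (Nat.not_even_iff_odd.1 hodd))

theorem NS.not_cyclic [Nontrivial G] (h : NS G) (S : Sylow 2 G) : ¬ IsCyclic S := by
  intro hc
  exact h.not_solvable (S3996.solv_cyc S hc)

theorem NS.not_normal [Nontrivial G] (h : NS G) (S : Sylow 2 G) : ¬ (S : Subgroup G).Normal := by
  intro hn
  have : Fact (Nat.Prime 2) := ⟨Nat.prime_two⟩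
  have hsol : Group.IsSolvable (S : Subgroup G) := by
    have := S.isPGroup'.isNilpotent
    infer_instance
  have h1 := h _ hn hsol
  have h2 : IsCyclic (S : Subgroup G) := by rw [h1]; infer_instance
  exact h.not_cyclic S h2

theorem abelian_case [Nontrivial G] (h : NS G)
    (hab : ∀ t : G, orderOf t = 2 → IsMulCommutative ↥(Subgroup.centralizer ({t} : Set G))) :
    ∃ (F : Type) (_ : Field F) (_ : Fintype F), CharP F 2 ∧ Nonempty (G ≃* Matrix.SpecialLinearGroup (Fin 2) F) := by
  classical
  have : Fact (Nat.Prime 2) := ⟨Nat.prime_two⟩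
  obtain ⟨S⟩ : Nonempty (Sylow 2 G) := inferInstance
  rcases S2202.result h.even hab with h1 | h1 | ⟨F, i1, i2, A, i3, i4, hF, hA, ⟨e⟩⟩
  · exact absurd (h1 S) (h.not_cyclic S)
  · exact absurd (h1 S) (h.not_normal S)
  · refine ⟨F, i1, i2, hF, ?_⟩
    let π : G →* Matrix.SpecialLinearGroup (Fin 2) F := (MonoidHom.fst _ A).comp e.toMonoidHom
    have hker : π.ker = ⊥ := by
      apply h _ inferInstance
      have hc : ∀ x y : π.ker, x * y = y * x := by
        rintro ⟨x, hx⟩ ⟨y, hy⟩
        apply Subtype.ext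
        change x * y = y * x
        apply e.injective
        rw [map_mul, map_mul]
        have hx' : (e x).1 = 1 := hx
        have hy' : (e y).1 = 1 := hy
        apply Prod.ext
        · rw [Prod.fst_mul, Prod.fst_mul, hx', hy']
        · rw [Prod.snd_mul, Prod.snd_mul, mul_comm]
      exact Group.isSolvable_of_comm hc
    have hsurj : Function.Surjective π := Prod.fst_surjective.comp e.surjective
    exact ⟨MulEquiv.ofBijective π ⟨(MonoidHom.ker_eq_bot_iff π).1 hker, hsurj⟩⟩

theorem sl2_sq {F : Type*} [Field F] [CharP F 2] {t x : Matrix.SpecialLinearGroup (Fin 2) F} (ht : t ≠ 1)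
    (ht2 : t * t = 1) (hc : x * t = t * x) : x * x = 1 := by
  have h2 : (2 : F) = 0 := CharTwo.two_eq_zero
  have hneg : ∀ y : F, -y = y := fun y => CharTwo.neg_eq y
  have hti : t⁻¹ = t := inv_eq_of_mul_eq_one_right ht2
  have e1 : (t : Matrix (Fin 2) (Fin 2) F) 1 1 = (t : Matrix (Fin 2) (Fin 2) F) 0 0 := by
    have := congrArg (fun y : Matrix.SpecialLinearGroup (Fin 2) F => (y : Matrix (Fin 2) (Fin 2) F) 0 0) hti
    simpa [Matrix.SpecialLinearGroup.coe_inv, Matrix.adjugate_fin_two] using this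
  have dt := t.det_coe
  have dx := x.det_coe
  rw [Matrix.det_fin_two] at dt dx
  have c := congrArg (fun y : Matrix.SpecialLinearGroup (Fin 2) F => (y : Matrix (Fin 2) (Fin 2) F)) hc
  simp only [Matrix.SpecialLinearGroup.coe_mul] at c
  have c01 := congrFun (congrFun c 0) 1
  have c10 := congrFun (congrFun c 1) 0
  simp only [Matrix.mul_apply, Fin.sum_univ_two] at c01 c10
  set a := (t : Matrix (Fin 2) (Fin 2) F) 0 0
  set b := (t : Matrix (Fin 2) (Fin 2) F) 0 1
  set b' := (t : Matrix (Fin 2) (Fin 2) F) 1 0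
  set p := (x : Matrix (Fin 2) (Fin 2) F) 0 0
  set q := (x : Matrix (Fin 2) (Fin 2) F) 0 1
  set r := (x : Matrix (Fin 2) (Fin 2) F) 1 0
  set s := (x : Matrix (Fin 2) (Fin 2) F) 1 1
  rw [e1] at dt c01 c10
  have hne : b ≠ 0 ∨ b' ≠ 0 := by
    by_contra hb
    push Not at hb
    apply ht
    have ha : a = 1 := by
      have : (a - 1) ^ 2 = 0 := by
        rw [hb.1] at dt
        linear_combination dt + (1 - a) * h2
      exact sub_eq_zero.1 ((pow_eq_zero_iff two_ne_zero).1 this)
    apply Subtype.ext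
    ext i j
    fin_cases i <;> fin_cases j
    · simpa using ha
    · simpa using hb.1
    · simpa using hb.2
    · simpa using e1.trans ha
  have hps : p = s := by
    rcases hne with hb | hb
    · have : b * (p - s) = 0 := by linear_combination c01
      exact sub_eq_zero.1 ((mul_eq_zero.1 this).resolve_left hb)
    · have : b' * (p - s) = 0 := by linear_combination -c10
      exact sub_eq_zero.1 ((mul_eq_zero.1 this).resolve_left hb)
  apply Subtype.ext
  ext i j
  rw [Matrix.SpecialLinearGroup.coe_mul, Matrix.mul_apply, Fin.sum_univ_two]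
  fin_cases i <;> fin_cases j
  · change p * p + q * r = 1
    rw [← hps] at dx
    linear_combination dx + q * r * h2
  · change p * q + q * s = 0
    rw [← hps]; linear_combination p * q * h2
  · change r * p + s * r = 0
    rw [← hps]; linear_combination p * r * h2
  · change r * q + s * s = 1
    rw [← hps] at dx ⊢
    linear_combination dx + q * r * h2

/-- no normal subgroup with abelian centralizers of involutions containing an involution commuting with an
element not of exponent two -/
theorem no_abelian_normal (h : NS G) (M : Subgroup G) [M.Normal]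
    (hab : ∀ t ∈ M, orderOf t = 2 → ∀ x ∈ M, ∀ y ∈ M, x * t = t * x → y * t = t * y → x * y = y * x)
    {t x : G} (htM : t ∈ M) (ht : orderOf t = 2) (hxM : x ∈ M) (hc : x * t = t * x) (hx : x * x ≠ 1) : False := by
  have hnt : Nontrivial M := ⟨⟨⟨t, htM⟩, 1, fun h => inv_ne ht (congrArg Subtype.val h)⟩⟩
  have hM : NS M := NS.sub h
  obtain ⟨F, i1, i2, hF, ⟨e⟩⟩ := abelian_case hM (by
    rintro ⟨s, hs⟩ hso
    rw [Subgroup.orderOf_mk] at hso
    refine ⟨⟨?_⟩⟩
    rintro ⟨⟨p, hp⟩, hp'⟩ ⟨⟨q, hq⟩, hq'⟩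
    rw [mem_centralizer_singleton_iff] at hp' hq'
    apply Subtype.ext
    apply Subtype.ext
    exact hab s hs hso p hp q hq (congrArg Subtype.val hp') (congrArg Subtype.val hq'))
  have h1 : e ⟨x, hxM⟩ * e ⟨x, hxM⟩ = 1 := by
    apply sl2_sq (t := e ⟨t, htM⟩)
    · intro h0
      rw [map_eq_one_iff e e.injective] at h0
      exact inv_ne ht (congrArg Subtype.val h0)
    · rw [← map_mul]
      have : (⟨t, htM⟩ * ⟨t, htM⟩ : M) = 1 := Subtype.ext (inv_sq ht)
      rw [this, map_one]
    · rw [← map_mul, ← map_mul]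
      have : (⟨x, hxM⟩ * ⟨t, htM⟩ : M) = ⟨t, htM⟩ * ⟨x, hxM⟩ := Subtype.ext hc
      rw [this]
  rw [← map_mul, map_eq_one_iff e e.injective] at h1
  exact hx (congrArg Subtype.val h1)

/-- the focal subgroup theorem for a subgroup of index two without fusion -/
theorem exists_normal (S : Sylow 2 G) (D : Subgroup G) (hD : D ≤ (S : Subgroup G))
    (hidx : ∀ x ∈ (S : Subgroup G), ∀ y ∈ (S : Subgroup G), x ∉ D → y ∉ D → x * y ∈ D)
    (hfus : ∀ x ∈ D, ∀ g : G, g * x * g⁻¹ ∈ (S : Subgroup G) → g * x * g⁻¹ ∈ D) :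
    ∃ M : Subgroup G, M.Normal ∧ (∀ s ∈ (S : Subgroup G), s ∈ M ↔ s ∈ D) ∧ commutator G ≤ M := by
  have : Fact (Nat.Prime 2) := ⟨Nat.prime_two⟩
  have hfoc : (S : Subgroup G).focalSubgroup ≤ D := by
    rw [focalSubgroup_def, closure_le]
    rintro g ⟨hg, x, hx, u, rfl⟩
    have h1 : ⁅x, u⁆ = x * (u * x⁻¹ * u⁻¹) := by rw [commutatorElement_def]; group
    have h2 : u * x⁻¹ * u⁻¹ ∈ (S : Subgroup G) := by
      have : u * x⁻¹ * u⁻¹ = x⁻¹ * ⁅x, u⁆ := by rw [h1]; group
      rw [this]; exact mul_mem (inv_mem hx) hg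
    rw [SetLike.mem_coe, h1]
    by_cases hxD : x ∈ D
    · exact mul_mem hxD (hfus _ (inv_mem hxD) u h2)
    · apply hidx _ hx _ h2 hxD
      intro h3
      apply hxD
      have h4 : u⁻¹ * (u * x⁻¹ * u⁻¹) * u⁻¹⁻¹ = x⁻¹ := by group
      have h5 := hfus _ h3 u⁻¹ (by rw [h4]; exact inv_mem hx)
      rw [h4] at h5
      exact inv_mem_iff.1 h5
  refine ⟨commutator G ⊔ D, ?_, ?_, le_sup_left⟩
  · refine ⟨fun n hn g => ?_⟩
    have h1 : g * n * g⁻¹ = ⁅g, n⁆ * n := by rw [commutatorElement_def]; group
    rw [h1]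
    exact mul_mem (mem_sup_left (commutator_mem_commutator (mem_top _) (mem_top _))) hn
  · intro s hs
    constructor
    · intro hsM
      obtain ⟨a, ha, d, hd, rfl⟩ := Subgroup.mem_sup_of_normal_left.1 hsM
      have h1 : a ∈ commutator G ⊓ (S : Subgroup G) := by
        refine mem_inf.2 ⟨ha, ?_⟩
        have : a = (a * d) * d⁻¹ := by group
        rw [this]; exact mul_mem hs (inv_mem (hD hd))
      rw [Subgroup.commutator_inf_eq_focalSubgroup] at h1
      exact mul_mem (hfoc h1) hd
    · intro hd; exact mem_sup_right hd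

end Cfsg.Agent.H4.RA
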