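import Mathlib
import Cfsg.Agent.H4.RA

set_option autoImplicit false
set_option linter.unusedSectionVars false

/-! Groups all of whose cyclic subgroups are normal: fusion-theoretic and odd order forms. -/

namespace Cfsg.Agent.H4.RA

open Cfsg Subgroup
open scoped commutatorElement

variable {G : Type*} [Group G] [Finite G]

theorem exists_inv_zpowers {x : G} (he : Even (orderOf x)) : ∃ v ∈ zpowers x, orderOf v = 2 := by
  obtain ⟨m, hm⟩ := he
  have h0 : 0 < orderOf x := orderOf_pos x
  refine ⟨x ^ m, pow_mem (mem_zpowers x) m, ?_⟩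
  rw [orderOf_pow_of_dvd (by omega) ⟨2, by omega⟩, hm]
  have : 0 < m := by omega
  rw [← two_mul, Nat.mul_div_cancel _ this]

theorem exists_inv_of_two {P : Subgroup G} (hP : IsPGroup 2 P) {x : G} (hx : x ∈ P) (hx1 : x ≠ 1) :
    ∃ v ∈ zpowers x, orderOf v = 2 := by
  apply exists_inv_zpowers
  obtain ⟨k, hk⟩ := (IsPGroup.iff_orderOf.1 hP) ⟨x, hx⟩
  rw [Subgroup.orderOf_mk] at hk
  rcases k with _ | k
  · rw [pow_zero, orderOf_eq_one_iff] at hk; exact absurd hk hx1
  · rw [hk, pow_succ]; exact ⟨2 ^ k, by ring⟩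

theorem uniq_inv {x u v : G} (hu : u ∈ zpowers x) (hv : v ∈ zpowers x) (hu2 : orderOf u = 2) (hv2 : orderOf v = 2) :
    u = v := by
  obtain ⟨i, rfl⟩ := mem_powers_iff_mem_zpowers.2 hu
  obtain ⟨j, rfl⟩ := mem_powers_iff_mem_zpowers.2 hv
  simp only at hu2 hv2 ⊢
  have key : ∀ i : ℕ, orderOf (x ^ i) = 2 → ∃ k : ℕ, 2 * i = orderOf x * (2 * k + 1) := by
    intro i hi
    have h1 : orderOf x ∣ i * 2 := orderOf_dvd_of_pow_eq_one (by rw [pow_mul, ← hi]; exact pow_orderOf_eq_one _)
    obtain ⟨c, hc⟩ := h1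
    rcases Nat.even_or_odd' c with ⟨m, rfl | rfl⟩
    · exfalso
      have h2 : i = orderOf x * m := by
        have : i * 2 = (orderOf x * m) * 2 := by rw [hc]; ring
        omega
      rw [h2, pow_mul, pow_orderOf_eq_one, one_pow, orderOf_one] at hi
      omega
    · exact ⟨m, by rw [← hc]; ring⟩
  obtain ⟨a, ha⟩ := key i hu2
  obtain ⟨b, hb⟩ := key j hv2
  rw [pow_eq_pow_iff_modEq]
  have h3 : (i : ℤ) - j = orderOf x * (a - b) := by
    have h4 : (2 : ℤ) * i = orderOf x * (2 * a + 1) := by exact_mod_cast ha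
    have h5 : (2 : ℤ) * j = orderOf x * (2 * b + 1) := by exact_mod_cast hb
    have h6 : (2 : ℤ) * (i - j) = 2 * (orderOf x * (a - b)) := by linear_combination h4 - h5
    exact mul_left_cancel₀ two_ne_zero h6
  have h7 : (i : ℤ) ≡ j [ZMOD orderOf x] := (Int.modEq_iff_dvd.2 ⟨a - b, h3⟩).symm
  exact Int.natCast_modEq_iff.1 h7

theorem comm_or {D : Subgroup G} (hD : IsPGroup 2 D) (hN : ∀ k ∈ D, ∀ d ∈ D, d * k * d⁻¹ ∈ zpowers k)
    {p r : G} (hp : p ∈ D) (hr : r ∈ D) :
    p * r = r * p ∨ ∃ v, orderOf v = 2 ∧ v ∈ zpowers p ∧ v ∈ zpowers r := by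
  by_cases hc : ⁅p, r⁆ = 1
  · left; exact commutatorElement_eq_one_iff_mul_comm.1 hc
  · right
    have h1 : ⁅p, r⁆ ∈ zpowers r := by
      rw [commutatorElement_def]; exact mul_mem (hN r hr p hp) (inv_mem (mem_zpowers r))
    have h2 : ⁅p, r⁆ ∈ zpowers p := by
      have : ⁅p, r⁆ = p * (r * p * r⁻¹)⁻¹ := by rw [commutatorElement_def]; group
      rw [this]; exact mul_mem (mem_zpowers p) (inv_mem (hN p hp r hr))
    have h3 : ⁅p, r⁆ ∈ D := (zpowers_le.2 hp) h2
    obtain ⟨v, hv, hv2⟩ := exists_inv_of_two hD h3 hc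
    exact ⟨v, hv2, (zpowers_le.2 h2) hv, (zpowers_le.2 h1) hv⟩

theorem conj_mem_zpowers {v q : G} (n : G) (h : v ∈ zpowers q) : n * v * n⁻¹ ∈ zpowers (n * q * n⁻¹) := by
  obtain ⟨k, rfl⟩ := mem_zpowers_iff.1 h
  exact mem_zpowers_iff.2 ⟨k, by rw [conj_zpow]⟩

theorem orderOf_conj' (n v : G) : orderOf (n * v * n⁻¹) = orderOf v :=
  orderOf_injective (MulAut.conj n).toMonoidHom (MulAut.conj n).injective v

/-- a 2-group with all cyclic subgroups normal, no involution fixed by all of its automorphisms -/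
theorem comm_of_moved {D : Subgroup G} (hD : IsPGroup 2 D) (hN : ∀ k ∈ D, ∀ d ∈ D, d * k * d⁻¹ ∈ zpowers k)
    (hM : ∀ v ∈ D, orderOf v = 2 → ∃ n : G, (∀ d ∈ D, n * d * n⁻¹ ∈ D) ∧ n * v * n⁻¹ ≠ v)
    {p q : G} (hp : p ∈ D) (hq : q ∈ D) : p * q = q * p := by
  by_contra hpq
  obtain ⟨v, hv2, hvp, hvq⟩ := (comm_or hD hN hp hq).resolve_left hpq
  obtain ⟨n, hn, hnv⟩ := hM v ((zpowers_le.2 hp) hvp) hv2
  have hq1 : n * q * n⁻¹ ∈ D := hn q hq
  have hv1 : n * v * n⁻¹ ∈ zpowers (n * q * n⁻¹) := conj_mem_zpowers n hvq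
  have hv12 : orderOf (n * v * n⁻¹) = 2 := by rw [orderOf_conj', hv2]
  have key : ∀ r : G, r ∈ D → v ∈ zpowers r → r * (n * q * n⁻¹) = (n * q * n⁻¹) * r := by
    intro r hr hvr
    by_contra h
    obtain ⟨u, hu2, hur, hu1⟩ := (comm_or hD hN hr hq1).resolve_left h
    exact hnv ((uniq_inv hv1 hu1 hv12 hu2).trans (uniq_inv hur hvr hu2 hv2))
  have hpq1 := key p hp hvp
  have hqq1 := key q hq hvq
  have h3 : p * (q * (n * q * n⁻¹)) = (q * (n * q * n⁻¹)) * p := by
    by_contra h
    obtain ⟨u, hu2, hup, hu1⟩ := (comm_or hD hN hp (mul_mem hq hq1)).resolve_left h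
    obtain rfl := uniq_inv hup hvp hu2 hv2
    obtain ⟨k, hk⟩ := mem_zpowers_iff.1 hu1
    have hcc : Commute q (n * q * n⁻¹) := hqq1
    rw [hcc.mul_zpow] at hk
    by_cases h1 : (n * q * n⁻¹) ^ k = 1
    · rw [h1, mul_one] at hk
      rw [conj_zpow] at h1
      have h2 : q ^ k = 1 := conj_eq_one_iff.1 h1
      rw [h2] at hk
      exact inv_ne hu2 hk.symm
    · obtain ⟨w, hw, hw2⟩ := exists_inv_of_two hD (zpow_mem hq1 k) h1
      have hw1 : w ∈ zpowers (n * q * n⁻¹) := (zpowers_le.2 (zpow_mem (mem_zpowers _) k)) hw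
      have hwq : w ∈ zpowers q := by
        have h2 : (n * q * n⁻¹) ^ k = (q ^ k)⁻¹ * u := by rw [← hk]; group
        have h3 : (n * q * n⁻¹) ^ k ∈ zpowers q := by
          rw [h2]; exact mul_mem (inv_mem (zpow_mem (mem_zpowers q) k)) hvq
        exact (zpowers_le.2 h3) hw
      exact hnv ((uniq_inv hv1 hw1 hv12 hw2).trans (uniq_inv hwq hvq hw2 hu2))
  apply hpq
  have h4 : p * q * (n * q * n⁻¹) = q * p * (n * q * n⁻¹) := by
    calc p * q * (n * q * n⁻¹) = p * (q * (n * q * n⁻¹)) := by group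
      _ = q * ((n * q * n⁻¹) * p) := by rw [h3]; group
      _ = q * (p * (n * q * n⁻¹)) := by rw [hpq1]
      _ = _ := by group
  exact mul_right_cancel h4

/-! ### no isolated involutions -/

theorem moved [Nontrivial G] (hss : NS G) (S : Sylow 2 G) {v : G} (hv : v ∈ (S : Subgroup G)) (ho : orderOf v = 2) :
    ∃ g : G, g * v * g⁻¹ ∈ (S : Subgroup G) ∧ g * v * g⁻¹ ≠ v := by
  by_contra h
  push Not at h
  have h1 := zstar_elt S hv h
  have h2 : oddCore G = ⊥ := by
    have hn : (oddCore G).Normal := Cfsg.Agent.H1.pPrimeCore_normal 2 G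
    apply hss _ hn
    apply FT.odd_order
    exact oddCore_odd G
  have hc : ∀ g : G, g * v * g⁻¹ = v := by
    intro g
    have h3 := h1 g
    rw [h2, mem_bot] at h3
    have h4 : v * g = g * v := by
      calc v * g = (v * g * v⁻¹ * g⁻¹) * (g * v) := by group
        _ = g * v := by rw [h3, one_mul]
    rw [← h4, mul_inv_cancel_right]
  have h3 : (zpowers v).Normal := by
    refine ⟨fun x hx g => ?_⟩
    obtain ⟨k, rfl⟩ := mem_zpowers_iff.1 hx
    rw [← conj_zpow, hc g]; exact zpow_mem (mem_zpowers v) k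
  have h4 := hss _ h3 inferInstance
  rw [zpowers_eq_bot] at h4
  exact inv_ne ho h4

theorem burnside (S : Sylow 2 G) {u : G} (hu : ∀ s ∈ (S : Subgroup G), s * u = u * s) {g : G}
    (hg : ∀ s ∈ (S : Subgroup G), s * (g * u * g⁻¹) = (g * u * g⁻¹) * s) :
    ∃ n : G, (∀ d ∈ (S : Subgroup G), n * d * n⁻¹ ∈ (S : Subgroup G)) ∧ n * u * n⁻¹ = g * u * g⁻¹ := by
  have : Fact (Nat.Prime 2) := ⟨Nat.prime_two⟩
  obtain ⟨n, hn, hnu⟩ := S.conj_eq_normalizer_conj_of_mem_centralizer u g⁻¹
    (mem_centralizer_iff.2 (fun s hs => hu s hs))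
    (mem_centralizer_iff.2 (fun s hs => by rw [inv_inv]; exact hg s hs))
  refine ⟨n⁻¹, ?_, ?_⟩
  · intro d hd
    exact (mem_normalizer_iff.1 (inv_mem hn) d).1 hd
  · rw [inv_inv, ← hnu, inv_inv]

theorem sylow_comm [Nontrivial G] (hss : NS G) (S : Sylow 2 G)
    (hN : ∀ k ∈ (S : Subgroup G), ∀ d ∈ (S : Subgroup G), d * k * d⁻¹ ∈ zpowers k) {p q : G}
    (hp : p ∈ (S : Subgroup G)) (hq : q ∈ (S : Subgroup G)) : p * q = q * p := by
  have hcen : ∀ v ∈ (S : Subgroup G), orderOf v = 2 → ∀ s ∈ (S : Subgroup G), s * v = v * s := by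
    intro v hv hv2 s hs
    rcases mem_zpowers_inv hv2 (hN v hv s hs) with h | h
    · exact absurd (conj_eq_one_iff.1 h) (inv_ne hv2)
    · rw [← mul_inv_eq_iff_eq_mul]; exact h
  apply comm_of_moved S.isPGroup' hN ?_ hp hq
  intro v hv hv2
  obtain ⟨g, hg1, hg2⟩ := moved hss S hv hv2
  obtain ⟨n, hn1, hn2⟩ := burnside S (hcen v hv hv2) (g := g) (hcen _ hg1 (by rw [orderOf_conj', hv2]))
  exact ⟨n, hn1, by rw [hn2]; exact hg2⟩

/-! ### odd order -/

theorem mul_pow_class_two {y u z : G} (hz : u * y = y * u * z) (hzy : z * y = y * z) (hzu : z * u = u * z) (n : ℕ) :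
    (y * u) ^ n = y ^ n * u ^ n * z ^ (n.choose 2) := by
  have h1 : ∀ m : ℕ, u ^ m * y = y * u ^ m * z ^ m := by
    intro m
    induction m with
    | zero => simp
    | succ m ih =>
      have hc : Commute (z ^ m) u := (show Commute z u from hzu).pow_left m
      calc u ^ (m + 1) * y = u * (u ^ m * y) := by rw [pow_succ']; group
        _ = (u * y) * u ^ m * z ^ m := by rw [ih]; group
        _ = y * u * (z * u ^ m) * z ^ m := by rw [hz]; group
        _ = y * u * (u ^ m * z) * z ^ m := by rw [((show Commute z u from hzu).pow_right m).eq]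
        _ = y * u ^ (m + 1) * z ^ (m + 1) := by rw [pow_succ' u, pow_succ' z]; group
  induction n with
  | zero => simp
  | succ n ih =>
    have hcy : Commute (z ^ (n.choose 2)) y := (show Commute z y from hzy).pow_left _
    have hcu : Commute (z ^ (n.choose 2)) u := (show Commute z u from hzu).pow_left _
    have hcu' : Commute (z ^ n) u := (show Commute z u from hzu).pow_left _
    calc (y * u) ^ (n + 1) = y ^ n * u ^ n * (z ^ (n.choose 2) * y) * u := by rw [pow_succ, ih]; group
      _ = y ^ n * (u ^ n * y) * (z ^ (n.choose 2) * u) := by rw [hcy.eq]; group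
      _ = y ^ n * (y * u ^ n * z ^ n) * (u * z ^ (n.choose 2)) := by rw [h1, hcu.eq]
      _ = y ^ n * y * u ^ n * (z ^ n * u) * z ^ (n.choose 2) := by group
      _ = y ^ n * y * u ^ n * (u * z ^ n) * z ^ (n.choose 2) := by rw [hcu'.eq]
      _ = (y ^ n * y) * (u ^ n * u) * (z ^ n * z ^ (n.choose 2)) := by group
      _ = _ := by
        rw [← pow_succ, ← pow_succ, ← pow_add, Nat.choose_succ_succ n 1, Nat.choose_one_right]

theorem orderOf_pow_lt {x : G} {p : ℕ} (hp : p.Prime) (hd : p ∣ orderOf x) : orderOf (x ^ p) < orderOf x := by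
  have h0 : 0 < orderOf x := orderOf_pos x
  rw [orderOf_pow_of_dvd hp.ne_zero hd]
  exact Nat.div_lt_self h0 hp.one_lt

theorem mem_zpowers_pow_of_coprime {y : G} {l n : ℕ} (hn : y ^ n = 1) (h : l.Coprime n) : y ∈ zpowers (y ^ l) := by
  have h1 : (Nat.gcd l n : ℤ) = l * Nat.gcdA l n + n * Nat.gcdB l n := Nat.gcd_eq_gcd_ab l n
  rw [Nat.coprime_iff_gcd_eq_one.1 h, Nat.cast_one] at h1
  refine mem_zpowers_iff.2 ⟨Nat.gcdA l n, ?_⟩
  have h2 : y ^ (1 : ℤ) = y ^ ((l : ℤ) * Nat.gcdA l n) * y ^ ((n : ℤ) * Nat.gcdB l n) := by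
    rw [← zpow_add, ← h1]
  rw [zpow_one, zpow_mul, zpow_mul, zpow_natCast, zpow_natCast, hn, one_zpow, mul_one] at h2
  exact h2.symm

theorem odd_dedekind {K : Subgroup G} (hodd : Odd (Nat.card K)) (hN : ∀ k ∈ K, ∀ d ∈ K, d * k * d⁻¹ ∈ zpowers k) :
    ∀ n : ℕ, ∀ x ∈ K, ∀ y ∈ K, orderOf x + orderOf y = n → x * y = y * x := by
  intro n
  induction n using Nat.strong_induction_on with
  | _ n ih =>
    have ih' : ∀ x ∈ K, ∀ y ∈ K, orderOf x + orderOf y < n → Commute x y := fun x hx y hy h => ih _ h x hx y hy rfl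
    have main : ∀ x ∈ K, ∀ y ∈ K, orderOf x + orderOf y = n → orderOf y ≤ orderOf x → x * y = y * x := by
      intro x hx y hy hn hle
      by_contra hxy
      have hx1 : x ≠ 1 := by rintro rfl; exact hxy (by rw [one_mul, mul_one])
      have hy1 : y ≠ 1 := by rintro rfl; exact hxy (by rw [one_mul, mul_one])
      set c := x * y * x⁻¹ * y⁻¹ with hc
      have hcy : c ∈ zpowers y := mul_mem (hN y hy x hx) (inv_mem (mem_zpowers y))
      have hcx : c ∈ zpowers x := by
        have : c = x * (y * x * y⁻¹)⁻¹ := by rw [hc]; group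
        rw [this]; exact mul_mem (mem_zpowers x) (inv_mem (hN x hx y hy))
      have hc1 : c ≠ 1 := by
        intro h; apply hxy
        rw [hc, mul_inv_eq_one, mul_inv_eq_iff_eq_mul] at h; exact h
      have ccx : Commute c x := by
        obtain ⟨i, hi⟩ := mem_zpowers_iff.1 hcx
        rw [← hi]; exact (Commute.refl x).zpow_left i
      have ccy : Commute c y := by
        obtain ⟨i, hi⟩ := mem_zpowers_iff.1 hcy
        rw [← hi]; exact (Commute.refl y).zpow_left i
      -- prime power orders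
      have split : ∀ w ∈ K, ∀ v ∈ K, orderOf w + orderOf v = n → ¬ Commute w v → ∀ p : ℕ, p.Prime → p ∣ orderOf w →
          ∃ a : ℕ, orderOf w = p ^ (a + 1) := by
        intro w hw v hv hwv hncomm p hp hpd
        obtain ⟨e, m, hm, hem⟩ := Nat.exists_eq_pow_mul_and_not_dvd (orderOf_pos w).ne' p hp.ne_one
        have he : e ≠ 0 := by
          rintro rfl; rw [pow_zero, one_mul] at hem; exact hm (hem ▸ hpd)
        have hm0 : 0 < m := Nat.pos_of_ne_zero (by rintro rfl; exact hm (dvd_zero p))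
        by_cases hm1 : m = 1
        · obtain ⟨a, rfl⟩ := Nat.exists_eq_succ_of_ne_zero he
          exact ⟨a, by rw [hem, hm1, mul_one]⟩
        · exfalso
          apply hncomm
          have hcop : Nat.Coprime (p ^ e) m := Nat.Coprime.pow_left e ((Nat.Prime.coprime_iff_not_dvd hp).2 hm)
          have hpe : 1 < p ^ e := Nat.one_lt_pow he hp.one_lt
          have l1 : orderOf (w ^ (p ^ e)) < orderOf w := by
            rw [orderOf_pow_of_dvd (by positivity) ⟨m, hem⟩]
            exact Nat.div_lt_self (orderOf_pos w) hpe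
          have l2 : orderOf (w ^ m) < orderOf w := by
            rw [orderOf_pow_of_dvd (by omega) ⟨p ^ e, by rw [hem, mul_comm]⟩]
            exact Nat.div_lt_self (orderOf_pos w) (by omega)
          have c1 := ih' _ (pow_mem hw (p ^ e)) v hv (by omega)
          have c2 := ih' _ (pow_mem hw m) v hv (by omega)
          have h1 : ((p ^ e : ℕ) : ℤ) * Nat.gcdA (p ^ e) m + m * Nat.gcdB (p ^ e) m = 1 := by
            rw [← Nat.gcd_eq_gcd_ab, Nat.coprime_iff_gcd_eq_one.1 hcop, Nat.cast_one]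
          have h2 : w = (w ^ (p ^ e)) ^ (Nat.gcdA (p ^ e) m) * (w ^ m) ^ (Nat.gcdB (p ^ e) m) := by
            rw [← zpow_natCast, ← zpow_natCast, ← zpow_mul, ← zpow_mul, ← zpow_add, h1, zpow_one]
          rw [h2]
          exact (c1.zpow_left _).mul_left (c2.zpow_left _)
      obtain ⟨p, hp, hpd⟩ := Nat.exists_prime_and_dvd (fun h => hc1 (orderOf_eq_one_iff.1 h) : orderOf c ≠ 1)
      have hdx : orderOf c ∣ orderOf x := orderOf_dvd_of_mem_zpowers hcx
      have hdy : orderOf c ∣ orderOf y := orderOf_dvd_of_mem_zpowers hcy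
      obtain ⟨a, ha⟩ := split x hx y hy hn hxy p hp (hpd.trans hdx)
      obtain ⟨b, hb⟩ := split y hy x hx (by omega) (fun h => hxy h.eq.symm) p hp (hpd.trans hdy)
      -- c has order p
      have h2 : ∀ m : ℕ, x ^ m * y * (x ^ m)⁻¹ = c ^ m * y := by
        intro m
        induction m with
        | zero => simp
        | succ m ihm =>
          calc x ^ (m + 1) * y * (x ^ (m + 1))⁻¹ = x * (x ^ m * y * (x ^ m)⁻¹) * x⁻¹ := by rw [pow_succ']; group
            _ = (x * c ^ m) * y * x⁻¹ := by rw [ihm]; group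
            _ = c ^ m * (x * y * x⁻¹ * y⁻¹) * y := by rw [← (ccx.pow_left m).eq]; group
            _ = c ^ (m + 1) * y := by rw [← hc, pow_succ]
      have hcp : c ^ p = 1 := by
        have h1 : Commute (x ^ p) y := ih' _ (pow_mem hx p) y hy (by
          have := orderOf_pow_lt (x := x) hp (hpd.trans hdx); omega)
        have h3 := h2 p
        rw [h1.eq, mul_inv_cancel_right] at h3
        exact (mul_right_cancel (b := y) (by rw [one_mul]; exact h3)).symm
      have hpo : Odd p := by
        have h1 : p ∣ Nat.card K := by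
          have h2 : orderOf x ∣ Nat.card K := by
            rw [← Nat.card_zpowers]; exact Subgroup.card_dvd_of_le (zpowers_le.2 hx)
          exact (hpd.trans hdx).trans h2
        exact hodd.of_dvd_nat h1
      -- c as powers
      have powform : ∀ w : G, ∀ e : ℕ, orderOf w = p ^ (e + 1) → c ∈ zpowers w → ∃ l : ℕ, c = w ^ (p ^ e * l) := by
        intro w e he hcw
        obtain ⟨i, hi⟩ := mem_powers_iff_mem_zpowers.2 hcw
        simp only at hi
        have h1 : w ^ (i * p) = 1 := by rw [pow_mul, hi, hcp]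
        have h2 : p ^ (e + 1) ∣ i * p := he ▸ orderOf_dvd_of_pow_eq_one h1
        rw [pow_succ] at h2
        obtain ⟨l, hl⟩ := Nat.dvd_of_mul_dvd_mul_right hp.pos h2
        exact ⟨l, by rw [← hl, hi]⟩
      obtain ⟨i, hi⟩ := powform x a ha hcx
      obtain ⟨l, hl⟩ := powform y b hb hcy
      have hpl : ¬ p ∣ l := by
        rintro ⟨m, rfl⟩
        apply hc1
        rw [hl, show p ^ b * (p * m) = p ^ (b + 1) * m by ring, ← hb, pow_mul, pow_orderOf_eq_one, one_pow]
      have hlc : l.Coprime (orderOf y) := by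
        rw [hb]; exact Nat.Coprime.pow_right _ ((Nat.Prime.coprime_iff_not_dvd hp).2 hpl).symm
      have hyl : y ∈ zpowers (y ^ l) := mem_zpowers_pow_of_coprime (pow_orderOf_eq_one y) hlc
      have hab : b ≤ a := by
        rw [ha, hb] at hle
        have := (Nat.pow_le_pow_iff_right hp.one_lt).1 hle
        omega
      have hfin : ∀ w : G, Commute x w → y ^ l = w → False := by
        intro w hw hyw
        apply hxy
        obtain ⟨j, hj⟩ := mem_zpowers_iff.1 hyl
        rw [← hj, hyw]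
        exact (hw.zpow_right j).eq
      by_cases hb0 : b = 0
      · subst hb0
        rw [pow_zero, one_mul] at hl
        exact hfin c ccx.symm hl.symm
      · -- the element y ^ l * u
        set u := (x ^ (p ^ (a - b) * i))⁻¹ with hu
        have huK : u ∈ K := inv_mem (pow_mem hx _)
        have hxu : Commute x u := ((Commute.refl x).pow_right _).inv_right
        have hu2 : u ^ (p ^ b) = c⁻¹ := by
          rw [hu, inv_pow, ← pow_mul, show p ^ (a - b) * i * p ^ b = p ^ (a - b) * p ^ b * i by ring, ← pow_add,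
            Nat.sub_add_cancel hab, hi]
        have hy2 : (y ^ l) ^ (p ^ b) = c := by rw [← pow_mul, mul_comm, hl]
        -- commutator of u and y ^ l
        set m := p ^ (a - b) * i with hm
        have h3 : u⁻¹ * y ^ l * u = (c ^ m) ^ l * y ^ l := by
          have h4 : u⁻¹ * y * u = c ^ m * y := by rw [← h2 m, hu, inv_inv]
          have h5 : (u⁻¹ * y * u) ^ l = u⁻¹ * y ^ l * u := by
            have h50 : ∀ v : G, (v⁻¹ * y * v) ^ l = v⁻¹ * y ^ l * v := by
              intro v
              have := conj_pow (a := v⁻¹) (b := y) (i := l)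
              rwa [inv_inv] at this
            exact h50 u
          rw [← h5, h4, (ccy.pow_left m).mul_pow]
        set z := ((c ^ m) ^ l)⁻¹ with hz
        have zy : Commute z (y ^ l) := (((ccy.pow_left m).pow_left l).inv_left).pow_right l
        have zu : Commute z u := by
          rw [hu]; exact ((((ccx.pow_left m).pow_left l).inv_left).pow_right m).inv_right
        have hzu : u * y ^ l = y ^ l * u * z := by
          have h4 : y ^ l * u = u * z⁻¹ * y ^ l := by
            calc y ^ l * u = u * (u⁻¹ * y ^ l * u) := by group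
              _ = _ := by rw [h3, hz, inv_inv]; group
          calc u * y ^ l = z * (u * z⁻¹ * y ^ l) := by
                rw [← mul_assoc, ← mul_assoc, zu.eq]; group
            _ = z * (y ^ l * u) := by rw [h4]
            _ = _ := (zy.mul_right zu).eq
        have h6 := mul_pow_class_two hzu zy.eq zu.eq (p ^ b)
        have hzp : z ^ p = 1 := by
          rw [hz, inv_pow, ← pow_mul, ← pow_mul, show m * (l * p) = p * (m * l) by ring, pow_mul, hcp, one_pow, inv_one]
        have hch : p ∣ (p ^ b).choose 2 := by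
          rw [Nat.choose_two_right]
          obtain ⟨r, hr⟩ : ∃ r, p ^ b = 2 * r + 1 := hpo.pow
          have : p ^ b * (p ^ b - 1) / 2 = p ^ b * r := by
            rw [show p ^ b - 1 = 2 * r by omega, show p ^ b * (2 * r) = p ^ b * r * 2 by ring,
              Nat.mul_div_cancel _ two_pos]
          rw [this]
          exact (dvd_pow_self p hb0).mul_right r
        have hzc : z ^ ((p ^ b).choose 2) = 1 := by
          obtain ⟨r, hr⟩ := hch
          rw [hr, pow_mul, hzp, one_pow]
        rw [hy2, hu2, hzc, mul_one, mul_inv_cancel] at h6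
        have h7 : orderOf (y ^ l * u) < orderOf y := by
          have h8 := Nat.le_of_dvd (by have := hp.pos; positivity) (orderOf_dvd_of_pow_eq_one h6)
          rw [hb]
          exact lt_of_le_of_lt h8 (Nat.pow_lt_pow_right hp.one_lt (Nat.lt_succ_self b))
        have h8 : Commute x (y ^ l * u) := ih' x hx _ (mul_mem (pow_mem hy l) huK) (by omega)
        apply hfin (y ^ l) ?_ rfl
        have h9 : y ^ l = (y ^ l * u) * u⁻¹ := by group
        rw [h9]
        exact h8.mul_right hxu.inv_right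
    intro x hx y hy hn
    rcases le_total (orderOf y) (orderOf x) with h | h
    · exact main x hx y hy hn h
    · exact (main y hy x hx (by omega) h).symm

end Cfsg.Agent.H4.RA
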