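import Mathlib
import Cfsg.Agent.H4.RB
import Cfsg.Agent.H1.Hall
import Cfsg.Agent.H5.Small

set_option autoImplicit false
set_option linter.unusedSectionVars false

/-! Tools for the case analysis. -/

namespace Cfsg.Agent.H4.RA

open Cfsg Subgroup
open scoped commutatorElement

variable {G : Type*} [Group G] [Finite G]

/-- conclusion -/
def Concl (G : Type*) [Group G] : Prop :=
  ∃ (F : Type) (_ : Field F) (_ : Fintype F), 3 < Fintype.card F ∧
      (Nonempty (G ≃* Matrix.ProjectiveSpecialLinearGroup (Fin 2) F) ∨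
        Nonempty (G ≃* Matrix.ProjGenLinGroup (Fin 2) F))

/-- the dihedral configuration -/
def DStr (S : Sylow 2 G) : Prop :=
  ∃ (a w : G) (C : Subgroup G), orderOf a = 2 ∧ (∀ s ∈ (S : Subgroup G), s * a = a * s) ∧ a ∈ (S : Subgroup G) ∧ a ∈ C ∧
    orderOf w = 2 ∧ w ∈ (S : Subgroup G) ∧ w ∉ C ∧ (∀ c ∈ C, w * c * w⁻¹ = c⁻¹) ∧
    (∀ g : G, g * a = a * g ↔ g ∈ C ∨ w * g ∈ C) ∧ (∀ v ∈ C, v ∈ (S : Subgroup G) → orderOf v = 2 → v = a) ∧
    ∃ x ∈ C, x * x ≠ 1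

theorem decomp (g : G) : ∃ a b : G, g = a * b ∧ a * b = b * a ∧ a ∈ zpowers g ∧ b ∈ zpowers g ∧
    (∃ k, orderOf a = 2 ^ k) ∧ Odd (orderOf b) := by
  obtain ⟨e, m, hm, hem⟩ := Nat.exists_eq_pow_mul_and_not_dvd (orderOf_pos g).ne' 2 (by norm_num)
  have hm0 : 0 < m := Nat.pos_of_ne_zero (by rintro rfl; exact hm (dvd_zero 2))
  have hcop : Nat.Coprime (2 ^ e) m := Nat.Coprime.pow_left e ((Nat.Prime.coprime_iff_not_dvd Nat.prime_two).2 hm)
  have h1 : ((2 ^ e : ℕ) : ℤ) * Nat.gcdA (2 ^ e) m + m * Nat.gcdB (2 ^ e) m = 1 := by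
    rw [← Nat.gcd_eq_gcd_ab, Nat.coprime_iff_gcd_eq_one.1 hcop, Nat.cast_one]
  refine ⟨(g ^ m) ^ (Nat.gcdB (2 ^ e) m), (g ^ (2 ^ e)) ^ (Nat.gcdA (2 ^ e) m), ?_, ?_, ?_, ?_, ?_, ?_⟩
  · rw [← zpow_natCast, ← zpow_natCast, ← zpow_mul, ← zpow_mul, ← zpow_add, add_comm, h1, zpow_one]
  · exact ((((Commute.refl g).pow_left m).pow_right (2 ^ e)).zpow_left _).zpow_right _
  · exact zpow_mem (pow_mem (mem_zpowers g) m) _
  · exact zpow_mem (pow_mem (mem_zpowers g) _) _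
  · have h2 : orderOf ((g ^ m) ^ (Nat.gcdB (2 ^ e) m)) ∣ 2 ^ e := by
      apply orderOf_dvd_of_pow_eq_one
      rw [← zpow_natCast, ← zpow_natCast, ← zpow_mul, ← zpow_mul,
        show (m : ℤ) * (Nat.gcdB (2 ^ e) m * ((2 ^ e : ℕ) : ℤ)) = ((2 ^ e * m : ℕ) : ℤ) * Nat.gcdB (2 ^ e) m by push_cast; ring,
        ← hem, zpow_mul, zpow_natCast, pow_orderOf_eq_one, one_zpow]
    obtain ⟨k, -, hk⟩ := (Nat.dvd_prime_pow Nat.prime_two).1 h2
    exact ⟨k, hk⟩
  · have h2 : orderOf ((g ^ (2 ^ e)) ^ (Nat.gcdA (2 ^ e) m)) ∣ m := by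
      apply orderOf_dvd_of_pow_eq_one
      rw [← zpow_natCast g, ← zpow_natCast, ← zpow_mul, ← zpow_mul,
        show ((2 ^ e : ℕ) : ℤ) * (Nat.gcdA (2 ^ e) m * (m : ℤ)) = ((2 ^ e * m : ℕ) : ℤ) * Nat.gcdA (2 ^ e) m by push_cast; ring,
        ← hem, zpow_mul, zpow_natCast, pow_orderOf_eq_one, one_zpow]
    exact (Nat.not_even_iff_odd.1 (fun h => hm (even_iff_two_dvd.1 h))).of_dvd_nat h2

/-- 2-elements of an overgroup of the Sylow subgroup are conjugate into it -/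
theorem conj_into (S : Sylow 2 G) {H : Subgroup G} (hSH : (S : Subgroup G) ≤ H) {g : G} (hg : g ∈ H)
    (ho : ∃ k, orderOf g = 2 ^ k) : ∃ u ∈ H, u * g * u⁻¹ ∈ (S : Subgroup G) := by
  have : Fact (Nat.Prime 2) := ⟨Nat.prime_two⟩
  obtain ⟨k, hk⟩ := ho
  have hpg : IsPGroup 2 (zpowers (⟨g, hg⟩ : H)) := by
    apply IsPGroup.of_card (n := k)
    rw [Nat.card_zpowers, Subgroup.orderOf_mk, hk]
  obtain ⟨Q, hQ⟩ := hpg.exists_le_sylow
  obtain ⟨u, hu⟩ := MulAction.exists_smul_eq H Q (S.subtype hSH)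
  refine ⟨u, u.2, ?_⟩
  have h1 : (⟨g, hg⟩ : H) ∈ (Q : Subgroup H) := hQ (mem_zpowers _)
  have h2 : u * ⟨g, hg⟩ * u⁻¹ ∈ ((u • Q : Sylow 2 H) : Subgroup H) := by
    rw [Sylow.coe_subgroup_smul]
    exact Subgroup.smul_mem_pointwise_smul _ (MulAut.conj u) _ h1
  rw [hu] at h2
  exact h2

theorem conj_into_top (S : Sylow 2 G) {g : G} (ho : ∃ k, orderOf g = 2 ^ k) : ∃ u : G, u * g * u⁻¹ ∈ (S : Subgroup G) := by
  obtain ⟨u, -, hu⟩ := conj_into S (H := ⊤) le_top (mem_top g) ho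
  exact ⟨u, hu⟩

theorem disj_coprime {c x y : G} (hx : c ∈ zpowers x) (hy : c ∈ zpowers y) (h : (orderOf x).Coprime (orderOf y)) : c = 1 := by
  rw [← orderOf_eq_one_iff]
  exact Nat.eq_one_of_dvd_coprimes h (orderOf_dvd_of_mem_zpowers hx) (orderOf_dvd_of_mem_zpowers hy)

theorem two_pow_coprime {S : Sylow 2 G} {y x : G} (hy : y ∈ (S : Subgroup G)) (hx : Odd (orderOf x)) :
    (orderOf y).Coprime (orderOf x) := by
  have : Fact (Nat.Prime 2) := ⟨Nat.prime_two⟩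
  obtain ⟨k, hk⟩ := (IsPGroup.iff_orderOf.1 S.isPGroup') ⟨y, hy⟩
  rw [Subgroup.orderOf_mk] at hk
  rw [hk]
  exact Nat.Coprime.pow_left _ (Nat.coprime_two_left.2 hx)

theorem orderOf_two_pow {S : Sylow 2 G} {y : G} (hy : y ∈ (S : Subgroup G)) : ∃ k, orderOf y = 2 ^ k := by
  have : Fact (Nat.Prime 2) := ⟨Nat.prime_two⟩
  obtain ⟨k, hk⟩ := (IsPGroup.iff_orderOf.1 S.isPGroup') ⟨y, hy⟩
  rw [Subgroup.orderOf_mk] at hk
  exact ⟨k, hk⟩

/-- two elements normalizing each other's cyclic groups, coprime orders -/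
theorem comm_of_coprime {x y : G} (h1 : x * y * x⁻¹ ∈ zpowers y) (h2 : y * x * y⁻¹ ∈ zpowers x)
    (h : (orderOf x).Coprime (orderOf y)) : x * y = y * x := by
  have h3 : x * y * x⁻¹ * y⁻¹ = 1 := by
    apply disj_coprime (x := x) (y := y) ?_ ?_ h
    · have : x * y * x⁻¹ * y⁻¹ = x * (y * x * y⁻¹)⁻¹ := by group
      rw [this]; exact mul_mem (mem_zpowers x) (inv_mem h2)
    · exact mul_mem h1 (inv_mem (mem_zpowers y))
  rw [mul_inv_eq_one, mul_inv_eq_iff_eq_mul] at h3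
  exact h3

theorem comm_of_disj_inv {S : Sylow 2 G} {x y : G} (hx : x ∈ (S : Subgroup G)) (h1 : x * y * x⁻¹ ∈ zpowers y) (h2 : y * x * y⁻¹ ∈ zpowers x)
    (h : ∀ v, orderOf v = 2 → v ∈ zpowers x → v ∈ zpowers y → False) : x * y = y * x := by
  have h3 : x * y * x⁻¹ * y⁻¹ = 1 := by
    by_contra hne
    have hx' : x * y * x⁻¹ * y⁻¹ ∈ zpowers x := by
      have : x * y * x⁻¹ * y⁻¹ = x * (y * x * y⁻¹)⁻¹ := by group
      rw [this]; exact mul_mem (mem_zpowers x) (inv_mem h2)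
    have hy' : x * y * x⁻¹ * y⁻¹ ∈ zpowers y := mul_mem h1 (inv_mem (mem_zpowers y))
    obtain ⟨v, hv, hv2⟩ := exists_inv_of_two S.isPGroup' ((zpowers_le.2 hx) hx') hne
    exact h v hv2 ((zpowers_le.2 hx') hv) ((zpowers_le.2 hy') hv)
  rw [mul_inv_eq_one, mul_inv_eq_iff_eq_mul] at h3
  exact h3

theorem prime_gen {x p : G} (hx : (orderOf x).Prime) (hp : p ∈ zpowers x) (hp1 : p ≠ 1) : x ∈ zpowers p := by
  obtain ⟨i, rfl⟩ := mem_powers_iff_mem_zpowers.2 hp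
  simp only at hp1 ⊢
  apply mem_zpowers_pow_of_coprime (pow_orderOf_eq_one x)
  apply Nat.Coprime.symm
  rw [Nat.Prime.coprime_iff_not_dvd hx]
  intro h
  exact hp1 (orderOf_dvd_iff_pow_eq_one.1 h)

theorem commute_zpowers {x y t : G} (h : x * t = t * x) (hy : y ∈ zpowers x) : y * t = t * y := by
  obtain ⟨k, rfl⟩ := mem_zpowers_iff.1 hy
  exact (show Commute x t from h).zpow_left k

/-- an involution normalizing a cyclic group of prime order centralizes or inverts it -/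
theorem prime_inv {x t : G} (hx : (orderOf x).Prime) (ht : t * t = 1) (h : t * x * t⁻¹ ∈ zpowers x) :
    t * x = x * t ∨ t * x * t⁻¹ = x⁻¹ := by
  have hti : t⁻¹ = t := inv_eq_of_mul_eq_one_right ht
  by_cases hp : x * (t * x * t⁻¹) = 1
  · right
    exact (eq_inv_of_mul_eq_one_right hp)
  · left
    have hmem : x * (t * x * t⁻¹) ∈ zpowers x := mul_mem (mem_zpowers x) h
    have hcc : x * (t * x * t⁻¹) = (t * x * t⁻¹) * x := (commute_zpowers (x := x) (t := x) rfl h).symm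
    have h1 : (x * (t * x * t⁻¹)) * t = t * (x * (t * x * t⁻¹)) := by
      rw [hcc, hti]
      have : t * (t * x * t * x) = (t * t) * x * t * x := by group
      rw [this, ht, one_mul]
      have h2 : t * x * t * x * t = t * (x * (t * x * t⁻¹)) := by rw [hti]; group
      rw [h2, hcc, hti]
      have : t * (t * x * t * x) = (t * t) * x * t * x := by group
      rw [this, ht, one_mul]
    exact (commute_zpowers h1 (prime_gen hx hmem hp)).symm

theorem Concl.of_abelian [Nontrivial G] (h : NS G)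
    (hab : ∀ t : G, orderOf t = 2 → IsMulCommutative ↥(Subgroup.centralizer ({t} : Set G))) : Concl G := by
  classical
  have : Fact (Nat.Prime 2) := ⟨Nat.prime_two⟩
  obtain ⟨F, i1, i2, hF, ⟨e⟩⟩ := abelian_case h hab
  refine ⟨F, i1, i2, ?_, Or.inl ⟨e.trans psl2EquivSl2.symm⟩⟩
  obtain ⟨⟨n, hn⟩, -, hc⟩ := FiniteField.card F 2
  by_contra hlt
  have hc2 : Fintype.card F = 2 := by
    rw [hc] at hlt ⊢
    simp only [PNat.mk_coe] at hlt ⊢
    rcases n with _ | _ | n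
    · omega
    · rfl
    · exfalso
      have : 2 ^ (n + 1 + 1) = 4 * 2 ^ n := by ring
      have h2 := Nat.one_le_two_pow (n := n)
      omega
  have hG : Nat.card G = 6 := by
    rw [Nat.card_congr e.toEquiv, H5.card_SL2 (F := F) rfl, hc2]
    norm_num
  obtain ⟨S⟩ : Nonempty (Sylow 2 G) := inferInstance
  apply h.not_cyclic S
  have hS : Nat.card S = 2 ^ (Nat.card G).factorization 2 := S.card_eq_multiplicity
  rw [hG] at hS
  have h6 : (6 : ℕ).factorization 2 = 1 := by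
    rw [show (6 : ℕ) = 2 ^ 1 * 3 by norm_num, Nat.factorization_mul (by norm_num) (by norm_num)]
    simp [Nat.factorization_eq_zero_of_not_dvd (show ¬ 2 ∣ 3 by norm_num), Nat.Prime.factorization_self Nat.prime_two]
  rw [h6, pow_one] at hS
  exact isCyclic_of_prime_card hS

end Cfsg.Agent.H4.RA
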