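import Mathlib
import Cfsg.Agent.H4.RC

set_option autoImplicit false
set_option linter.unusedSectionVars false

/-! Case 1: the centralizer of a 2-central involution has odd order elements. First part. -/

namespace Cfsg.Agent.H4.RA

open Cfsg Subgroup
open scoped commutatorElement

variable {G : Type*} [Group G] [Finite G]

/-- hypotheses of case 1 -/
structure C1 (S : Sylow 2 G) (z h : G) : Prop where
  nc : NC G
  ns : NS G
  zS : z ∈ (S : Subgroup G)
  z2 : orderOf z = 2
  zc : ∀ s ∈ (S : Subgroup G), s * z = z * s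
  hz : h * z = z * h
  ho : Odd (orderOf h)
  h1 : h ≠ 1

namespace C1

variable {S : Sylow 2 G} {z h : G}

theorem F0 (c : C1 S z h) {v : G} (hv : orderOf v = 2) (hh : v * h = h * v) (g : G) : g * h * g⁻¹ ∈ zpowers h ↔ g * v = v * g := by
  rw [← mem_norm_zpowers, nz_odd c.nc hv hh.symm c.ho c.h1, mem_centralizer_singleton_iff]

theorem memH (c : C1 S z h) (g : G) : g * h * g⁻¹ ∈ zpowers h ↔ g * z = z * g := c.F0 c.z2 c.hz.symm g

theorem F1 (c : C1 S z h) {v : G} (hv : orderOf v = 2) (hh : v * h = h * v) (g : G) : g * v = v * g ↔ g * z = z * g := by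
  rw [← c.F0 hv hh, c.memH]

theorem F2 (c : C1 S z h) {k : G} (hk : k ∈ (S : Subgroup G)) (hk1 : k ≠ 1) (hh : k * h = h * k) (g : G) :
    g * k * g⁻¹ ∈ zpowers k ↔ g * z = z * g := by
  obtain ⟨v, hv, hv2⟩ := exists_inv_of_two S.isPGroup' hk hk1
  rw [← mem_norm_zpowers, nz_pow c.nc hv2 hv, mem_centralizer_singleton_iff, c.F1 hv2 (commute_zpowers hh hv)]

theorem F3 (c : C1 S z h) {y k : G} (hy : y ∈ (S : Subgroup G)) (hyh : ¬ y * h = h * y) (hk : k ∈ zpowers y)
    (hh : k * h = h * k) : k = 1 := by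
  by_contra hk1
  obtain ⟨v, hv, hv2⟩ := exists_inv_of_two S.isPGroup' ((zpowers_le.2 hy) hk) hk1
  have hvh := commute_zpowers hh hv
  have hvy : v ∈ zpowers y := (zpowers_le.2 hk) hv
  apply hyh
  apply comm_of_coprime
  · rw [c.memH]; exact c.zc y hy
  · rw [← mem_norm_zpowers, nz_pow c.nc hv2 hvy, mem_centralizer_singleton_iff]
    exact hvh.symm
  · exact two_pow_coprime hy c.ho

theorem G1 (c : C1 S z h) {x : G} (hx : x * z = z * x) (ho : Odd (orderOf x)) (g : G) (hg : g * z = z * g) :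
    g * x * g⁻¹ ∈ zpowers x := by
  by_cases hx1 : x = 1
  · subst hx1; simp
  · rw [← mem_norm_zpowers, nz_odd c.nc c.z2 hx ho hx1, mem_centralizer_singleton_iff]
    exact hg

theorem SH (c : C1 S z h) : (S : Subgroup G) ≤ centralizer {z} := by
  intro s hs
  rw [mem_centralizer_singleton_iff]; exact c.zc s hs

theorem conj_mem (g k : G) (hk : g * k * g⁻¹ ∈ zpowers k) : g⁻¹ * k * g⁻¹⁻¹ ∈ zpowers k := by
  rw [← mem_norm_zpowers] at hk ⊢
  exact inv_mem hk

/-! ### 1a -/

theorem case_a [Nontrivial G] (c : C1 S z h) (hQ : ∀ s ∈ (S : Subgroup G), s * h = h * s) : Concl G := by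
  have hN : ∀ k ∈ (S : Subgroup G), ∀ g : G, g * z = z * g → g * k * g⁻¹ ∈ zpowers k := by
    intro k hk g hg
    by_cases hk1 : k = 1
    · subst hk1; simp
    · exact (c.F2 hk hk1 (hQ k hk) g).2 hg
  have hSab : ∀ p ∈ (S : Subgroup G), ∀ q ∈ (S : Subgroup G), p * q = q * p :=
    fun p hp q hq => sylow_comm c.ns S (fun k hk d hd => hN k hk d (c.zc d hd)) hp hq
  have hSodd : ∀ s ∈ (S : Subgroup G), ∀ x : G, x * z = z * x → Odd (orderOf x) → s * x = x * s := by
    intro s hs x hx ho
    apply comm_of_coprime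
    · exact c.G1 hx ho s (c.zc s hs)
    · exact hN s hs x hx
    · exact two_pow_coprime hs ho
  have h2S : ∀ g : G, g * z = z * g → (∃ k, orderOf g = 2 ^ k) → g ∈ (S : Subgroup G) := by
    intro g hg ho
    obtain ⟨u, hu, hus⟩ := conj_into S c.SH (mem_centralizer_singleton_iff.2 hg) ho
    rw [mem_centralizer_singleton_iff] at hu
    have h1 := hN _ hus u⁻¹ (by
      have := (show Commute u z from hu).inv_left
      exact this)
    have h2 : u⁻¹ * (u * g * u⁻¹) * u⁻¹⁻¹ = g := by group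
    rw [h2] at h1
    exact (zpowers_le.2 hus) h1
  have hoo : ∀ x y : G, x * z = z * x → y * z = z * y → Odd (orderOf x) → Odd (orderOf y) → x * y = y * x := by
    intro x y hx hy hxo hyo
    have hKH : zpowers x ⊔ zpowers y ≤ centralizer {z} := by
      rw [sup_le_iff, zpowers_le, zpowers_le, mem_centralizer_singleton_iff, mem_centralizer_singleton_iff]
      exact ⟨hx, hy⟩
    have hodd : Odd (Nat.card (zpowers x ⊔ zpowers y : Subgroup G)) := by
      have h1 := H1.card_sup_mul_card_inf_of_le_normalizer (H := zpowers x) (K := zpowers y) (by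
        rw [zpowers_le, mem_norm_zpowers]; exact c.G1 hx hxo y hy)
      rw [Nat.card_zpowers, Nat.card_zpowers] at h1
      exact (Nat.odd_mul.1 (h1 ▸ hxo.mul hyo)).1
    refine odd_dedekind hodd ?_ _ x (mem_sup_left (mem_zpowers x)) y (mem_sup_right (mem_zpowers y)) rfl
    intro k hk d hd
    apply c.G1 (mem_centralizer_singleton_iff.1 (hKH hk)) ?_ d (mem_centralizer_singleton_iff.1 (hKH hd))
    apply hodd.of_dvd_nat
    rw [← Nat.card_zpowers]; exact Subgroup.card_dvd_of_le (zpowers_le.2 hk)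
  have hHab : ∀ x y : G, x * z = z * x → y * z = z * y → x * y = y * x := by
    intro x y hx hy
    obtain ⟨a, b, hab, -, ha, hb, ha2, hbo⟩ := decomp x
    obtain ⟨a', b', hab', -, ha', hb', ha2', hbo'⟩ := decomp y
    have az := commute_zpowers hx ha
    have bz := commute_zpowers hx hb
    have az' := commute_zpowers hy ha'
    have bz' := commute_zpowers hy hb'
    have haS := h2S a az ha2
    have haS' := h2S a' az' ha2'
    rw [hab, hab']
    have c1 : Commute a a' := hSab a haS a' haS'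
    have c2 : Commute a b' := hSodd a haS b' bz' hbo'
    have c3 : Commute b a' := (hSodd a' haS' b bz hbo).symm
    have c4 : Commute b b' := hoo b b' bz bz' hbo hbo'
    exact (c1.mul_right c2).mul_left (c3.mul_right c4)
  apply Concl.of_abelian c.ns
  intro t ht
  obtain ⟨g, hg⟩ := conj_into_top S (g := t) ⟨1, by rw [ht, pow_one]⟩
  have ht' : orderOf (g * t * g⁻¹) = 2 := by rw [orderOf_conj', ht]
  have h1 := c.F1 ht' (hQ _ hg)
  refine ⟨⟨?_⟩⟩
  rintro ⟨x, hx⟩ ⟨y, hy⟩
  rw [mem_centralizer_singleton_iff] at hx hy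
  apply Subtype.ext
  change x * y = y * x
  have hc : ∀ x : G, x * t = t * x → (g * x * g⁻¹) * z = z * (g * x * g⁻¹) := by
    intro x hx
    rw [← h1]
    calc g * x * g⁻¹ * (g * t * g⁻¹) = g * (x * t) * g⁻¹ := by group
      _ = g * (t * x) * g⁻¹ := by rw [hx]
      _ = _ := by group
  have h2 := hHab _ _ (hc x hx) (hc y hy)
  have h3 : g * (x * y) * g⁻¹ = g * (y * x) * g⁻¹ := by
    calc g * (x * y) * g⁻¹ = g * x * g⁻¹ * (g * y * g⁻¹) := by group
      _ = g * y * g⁻¹ * (g * x * g⁻¹) := h2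
      _ = _ := by group
  exact mul_left_cancel (mul_right_cancel h3)

end C1

end Cfsg.Agent.H4.RA
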