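import Mathlib
import Cfsg.Agent.H4.RD

set_option autoImplicit false
set_option linter.unusedSectionVars false

/-! Case 1b. -/

namespace Cfsg.Agent.H4.RA

open Cfsg Subgroup
open scoped commutatorElement

variable {G : Type*} [Group G] [Finite G]

namespace C1

variable {S : Sylow 2 G} {z h : G}

/-- a generator of the Sylow subgroup modulo the centralizer of `h` -/
theorem exists_gen (c : C1 S z h) (hp : (orderOf h).Prime) :
    ∃ y ∈ (S : Subgroup G), ∀ s ∈ (S : Subgroup G), ∃ i : ℤ, (s * y ^ i) * h = h * (s * y ^ i) := by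
  have hSN : (S : Subgroup G) ≤ normalizer ((zpowers h : Subgroup G) : Set G) := by
    intro s hs
    rw [mem_norm_zpowers, c.memH]; exact c.zc s hs
  let φ : (S : Subgroup G) →* MulAut (zpowers h) := (zpowers h).normalizerMonoidHom.comp (inclusion hSN)
  have : Fact (orderOf h).Prime := ⟨hp⟩
  have hcyc : IsCyclic (MulAut (zpowers h)) := by
    have e := IsCyclic.mulAutMulEquiv (zpowers h)
    rw [Nat.card_zpowers] at e
    exact isCyclic_of_surjective e.symm e.symm.surjective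
  obtain ⟨g0, hg0⟩ := (inferInstance : IsCyclic φ.range).exists_generator
  obtain ⟨y, hy⟩ := g0.2
  refine ⟨y, y.2, fun s hs => ?_⟩
  obtain ⟨i, hi⟩ := mem_zpowers_iff.1 (hg0 ⟨φ ⟨s, hs⟩, ⟨⟨s, hs⟩, rfl⟩⟩)
  have h1 : (φ y) ^ i = φ ⟨s, hs⟩ := by
    have := congrArg Subtype.val hi
    rw [SubgroupClass.coe_zpow, ← hy] at this
    exact this
  refine ⟨-i, ?_⟩
  have h2 : φ (⟨s, hs⟩ * y ^ (-i)) = 1 := by
    rw [map_mul, map_zpow, zpow_neg, h1, mul_inv_cancel]
  have h3 : (inclusion hSN (⟨s, hs⟩ * y ^ (-i)) : normalizer ((zpowers h : Subgroup G) : Set G)) ∈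
      (zpowers h).normalizerMonoidHom.ker := h2
  rw [normalizerMonoidHom_ker, mem_subgroupOf] at h3
  have h4 := mem_centralizer_iff.1 h3 h (mem_zpowers h)
  exact h4.symm

/-- data: an involution outside of the centralizer of `h` -/
structure W (S : Sylow 2 G) (z h w : G) : Prop extends C1 S z h where
  w2 : orderOf w = 2
  wS : w ∈ (S : Subgroup G)
  wh : ¬ w * h = h * w

theorem inv_odd {w : G} (c : W S z h w) {x : G} (hx : x * z = z * x) (ho : Odd (orderOf x)) : w * x * w⁻¹ = x⁻¹ := by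
  have hwz : w * z = z * w := c.zc w c.wS
  have hmem : w * x * w⁻¹ ∈ zpowers x := c.G1 hx ho w hwz
  by_contra hne
  have hp1 : x * (w * x * w⁻¹) ≠ 1 := fun h0 => hne (eq_inv_of_mul_eq_one_right h0)
  have hpm : x * (w * x * w⁻¹) ∈ zpowers x := mul_mem (mem_zpowers x) hmem
  have hcc : x * (w * x * w⁻¹) = (w * x * w⁻¹) * x := (commute_zpowers (x := x) (t := x) rfl hmem).symm
  have hwi := inv_inv' c.w2
  have hww := inv_sq c.w2
  have h1 : (x * (w * x * w⁻¹)) * w = w * (x * (w * x * w⁻¹)) := by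
    rw [hcc, hwi]
    have e1 : w * (w * x * w * x) = (w * w) * x * w * x := by group
    rw [e1, hww, one_mul]
    have h2 : w * x * w * x * w = w * (x * (w * x * w⁻¹)) := by rw [hwi]; group
    rw [h2, hcc, hwi]
    rw [e1, hww, one_mul]
  have hpo : Odd (orderOf (x * (w * x * w⁻¹))) := ho.of_dvd_nat (orderOf_dvd_of_mem_zpowers hpm)
  have h2 := nz_odd c.nc c.w2 h1 hpo hp1
  have h3 := nz_odd c.nc c.z2 (commute_zpowers hx hpm) hpo hp1
  apply c.wh
  have h4 : h ∈ centralizer {z} := mem_centralizer_singleton_iff.2 c.hz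
  rw [← h3, h2, mem_centralizer_singleton_iff] at h4
  exact h4.symm

theorem inv_h {w : G} (c : W S z h w) : w * h * w⁻¹ = h⁻¹ := inv_odd c c.hz c.ho

theorem commute_conj_h {w : G} (c : W S z h w) {k : G} (hk : k * h = h * k) : (w * k * w⁻¹) * h = h * (w * k * w⁻¹) := by
  have h1 : h = (w * h * w⁻¹)⁻¹ := by rw [inv_h c, inv_inv]
  have h2 : Commute k h⁻¹ := (show Commute k h from hk).inv_right
  rw [h1]
  calc w * k * w⁻¹ * (w * h * w⁻¹)⁻¹ = w * (k * h⁻¹) * w⁻¹ := by group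
    _ = w * (h⁻¹ * k) * w⁻¹ := by rw [h2.eq]
    _ = _ := by group

theorem inv_Q {w : G} (c : W S z h w) {k : G} (hkS : k ∈ (S : Subgroup G)) (hk : k * h = h * k) : w * k * w⁻¹ = k⁻¹ := by
  have hww := inv_sq c.w2
  have hwi := inv_inv' c.w2
  have h1 : (w * k) * (w * k) = (w * k * w⁻¹) * k := by rw [hwi]; group
  have h2 : ¬ (w * k) * h = h * (w * k) := by
    intro h3
    apply c.wh
    have h4 : Commute w h := by
      have : w = (w * k) * k⁻¹ := by group
      rw [this]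
      exact Commute.mul_left h3 ((show Commute k h from hk).inv_left)
    exact h4
  have h3 : (w * k) * (w * k) = 1 := by
    apply c.F3 (mul_mem c.wS hkS) h2
    · exact mul_mem (mem_zpowers _) (mem_zpowers _)
    · rw [h1]
      exact Commute.mul_left (commute_conj_h c hk) hk
  rw [h1] at h3
  exact eq_inv_of_mul_eq_one_left h3

theorem two_mem (c : C1 S z h) {k : G} (hk : k * h = h * k) (ho : ∃ n, orderOf k = 2 ^ n) : k ∈ (S : Subgroup G) := by
  have hkz : k * z = z * k := by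
    rw [← c.memH, hk, mul_inv_cancel_right]; exact mem_zpowers h
  obtain ⟨u, hu, hus⟩ := conj_into S c.SH (mem_centralizer_singleton_iff.2 hkz) ho
  rw [mem_centralizer_singleton_iff] at hu
  have hu' : u⁻¹ * z = z * u⁻¹ := (show Commute u z from hu).inv_left
  -- u k u⁻¹ commutes with h
  have h1 : u⁻¹ * h * u⁻¹⁻¹ ∈ zpowers h := (c.memH u⁻¹).2 hu'
  have h2 : (u⁻¹ * h * u⁻¹⁻¹) * k = k * (u⁻¹ * h * u⁻¹⁻¹) := commute_zpowers hk.symm h1
  have h3 : (u * k * u⁻¹) * h = h * (u * k * u⁻¹) := by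
    calc (u * k * u⁻¹) * h = u * (k * (u⁻¹ * h * u⁻¹⁻¹)) * u⁻¹ := by group
      _ = u * ((u⁻¹ * h * u⁻¹⁻¹) * k) * u⁻¹ := by rw [h2]
      _ = _ := by group
  by_cases hk1 : u * k * u⁻¹ = 1
  · rw [conj_eq_one_iff.1 hk1]; exact one_mem _
  · have h4 := (c.F2 hus hk1 h3 u⁻¹).2 hu'
    have h5 : u⁻¹ * (u * k * u⁻¹) * u⁻¹⁻¹ = k := by group
    rw [h5] at h4
    exact (zpowers_le.2 hus) h4

theorem inv_C {w : G} (c : W S z h w) {k : G} (hk : k * h = h * k) : w * k * w⁻¹ = k⁻¹ := by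
  have hkz : k * z = z * k := by
    rw [← c.memH, hk, mul_inv_cancel_right]; exact mem_zpowers h
  obtain ⟨a, b, hab, hcomm, ha, hb, ha2, hbo⟩ := decomp k
  have h1 := inv_Q c (two_mem c.toC1 (commute_zpowers hk ha) ha2) (commute_zpowers hk ha)
  have h2 := inv_odd c (commute_zpowers hkz hb) hbo
  calc w * k * w⁻¹ = (w * a * w⁻¹) * (w * b * w⁻¹) := by rw [hab]; group
    _ = a⁻¹ * b⁻¹ := by rw [h1, h2]
    _ = (b * a)⁻¹ := by group
    _ = k⁻¹ := by rw [← hcomm, ← hab]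

theorem comm_C {w : G} (c : W S z h w) {k l : G} (hk : k * h = h * k) (hl : l * h = h * l) : k * l = l * k := by
  have h1 := inv_C c hk
  have h2 := inv_C c hl
  have h3 := inv_C c (k := k * l) (Commute.mul_left hk hl)
  have h4 : w * (k * l) * w⁻¹ = (w * k * w⁻¹) * (w * l * w⁻¹) := by group
  rw [h4, h1, h2, ← mul_inv_rev, inv_inj] at h3
  exact h3.symm

/-- the case of a cyclic quotient of order at least four -/
theorem case_b4 [Nontrivial G] {w : G} (c : W S z h w) {y τ : G} (hy : y ∈ (S : Subgroup G))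
    (hgen : ∀ s ∈ (S : Subgroup G), ∃ i : ℤ, (s * y ^ i) * h = h * (s * y ^ i)) (hτ : τ ∈ zpowers y) (hτw : τ * τ = w) : False := by
  have hτS : τ ∈ (S : Subgroup G) := (zpowers_le.2 hy) hτ
  have hwy : w ∈ zpowers y := by rw [← hτw]; exact mul_mem hτ hτ
  have hsq : ∀ k ∈ (S : Subgroup G), k * h = h * k → k * k = 1 := by
    intro k hkS hk
    by_cases hk1 : k = 1
    · rw [hk1, one_mul]
    have h1 := (c.F2 hkS hk1 hk τ).2 (c.zc τ hτS)
    obtain ⟨j, hj⟩ := mem_powers_iff_mem_zpowers.2 h1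
    simp only at hj
    have h2 : τ * (τ * k * τ⁻¹) * τ⁻¹ = k⁻¹ := by
      rw [← inv_Q c hkS hk, ← hτw]; group
    have h3 : τ * (τ * k * τ⁻¹) * τ⁻¹ = k ^ (j * j) := by
      rw [← hj, ← conj_pow, ← hj, ← pow_mul]
    have h4 : k ^ (j * j + 1) = 1 := by
      rw [pow_succ, ← h3, h2, inv_mul_cancel]
    have h5 := orderOf_dvd_of_pow_eq_one h4
    obtain ⟨n, hn⟩ := orderOf_two_pow hkS
    rw [hn] at h5
    have hn1 : n ≤ 1 := by
      by_contra hlt
      have h6 : 2 ^ 2 ∣ j * j + 1 := (pow_dvd_pow 2 (by omega)).trans h5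
      have h7 : (j * j + 1) % 4 = 0 := Nat.mod_eq_zero_of_dvd h6
      have h8 : j % 4 = 0 ∨ j % 4 = 1 ∨ j % 4 = 2 ∨ j % 4 = 3 := by omega
      rcases h8 with h8 | h8 | h8 | h8 <;> simp [Nat.add_mod, Nat.mul_mod, h8] at h7
    have h9 : orderOf k ∣ 2 := by
      rw [hn]; exact (pow_dvd_pow 2 hn1).trans (by norm_num)
    rw [← pow_two]; exact orderOf_dvd_iff_pow_eq_one.1 h9
  have hcen : ∀ k ∈ (S : Subgroup G), k * h = h * k → ∀ s ∈ (S : Subgroup G), s * k = k * s := by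
    intro k hkS hk s hs
    by_cases hk1 : k = 1
    · rw [hk1, one_mul, mul_one]
    have h1 := (c.F2 hkS hk1 hk s).2 (c.zc s hs)
    have hk2 : orderOf k = 2 := inv_of hk1 (hsq k hkS hk)
    rcases mem_zpowers_inv hk2 h1 with h2 | h2
    · exact absurd (conj_eq_one_iff.1 h2) hk1
    · rw [← mul_inv_eq_iff_eq_mul]; exact h2
  have hform : ∀ s ∈ (S : Subgroup G), ∃ k ∈ (S : Subgroup G), k * h = h * k ∧ ∃ i : ℤ, s = k * y ^ i := by
    intro s hs
    obtain ⟨i, hi⟩ := hgen s hs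
    exact ⟨s * y ^ i, mul_mem hs (zpow_mem hy i), hi, -i, by group⟩
  have hab : ∀ s ∈ (S : Subgroup G), ∀ t ∈ (S : Subgroup G), s * t = t * s := by
    intro s hs t ht
    obtain ⟨k, hkS, hk, i, rfl⟩ := hform s hs
    obtain ⟨l, hlS, hl, j, rfl⟩ := hform t ht
    have c1 : Commute k l := hcen l hlS hl k hkS
    have c2 : Commute k (y ^ j) := (hcen k hkS hk _ (zpow_mem hy j)).symm
    have c3 : Commute (y ^ i) l := hcen l hlS hl _ (zpow_mem hy i)
    have c4 : Commute (y ^ i) (y ^ j) := ((Commute.refl y).zpow_left i).zpow_right j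
    exact (c1.mul_right c2).mul_left (c3.mul_right c4)
  obtain ⟨g, hg1, hg2⟩ := moved c.ns S c.wS c.w2
  obtain ⟨n, hn, hnw⟩ := burnside S (fun s hs => hab s hs w c.wS) (g := g) (fun s hs => hab s hs _ hg1)
  obtain ⟨k, hkS, hk, i, hki⟩ := hform _ (hn τ hτS)
  have h1 : n * w * n⁻¹ ∈ zpowers y := by
    have h2 : n * w * n⁻¹ = (n * τ * n⁻¹) * (n * τ * n⁻¹) := by rw [← hτw]; group
    have c2 : Commute k (y ^ i) := (hcen k hkS hk _ (zpow_mem hy i)).symm
    rw [h2, hki]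
    have h3 : k * y ^ i * (k * y ^ i) = (k * k) * (y ^ i * y ^ i) := by
      calc k * y ^ i * (k * y ^ i) = k * (y ^ i * k) * y ^ i := by group
        _ = k * (k * y ^ i) * y ^ i := by rw [c2.eq]
        _ = _ := by group
    rw [h3, hsq k hkS hk, one_mul]
    exact mul_mem (zpow_mem (mem_zpowers y) i) (zpow_mem (mem_zpowers y) i)
  apply hg2
  rw [← hnw]
  exact uniq_inv h1 hwy (by rw [orderOf_conj', c.w2]) c.w2

end C1

end Cfsg.Agent.H4.RA
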