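import Mathlib
import Cfsg.Agent.H4.RE

set_option autoImplicit false
set_option linter.unusedSectionVars false

/-! Case 1b: index two. -/

namespace Cfsg.Agent.H4.RA

open Cfsg Subgroup
open scoped commutatorElement

variable {G : Type*} [Group G] [Finite G]

namespace C1

variable {S : Sylow 2 G} {z h : G}

/-- commutators of elements of the centralizer of `z` commute with `h` -/
theorem comm_mem (c : C1 S z h) {a b : G} (ha : a * z = z * a) (hb : b * z = z * b) :
    (a⁻¹ * b⁻¹ * a * b) * h = h * (a⁻¹ * b⁻¹ * a * b) := by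
  obtain ⟨i, hi⟩ := mem_zpowers_iff.1 ((c.memH a).2 ha)
  obtain ⟨j, hj⟩ := mem_zpowers_iff.1 ((c.memH b).2 hb)
  have h1 : (a * b) * h * (a * b)⁻¹ = (b * a) * h * (b * a)⁻¹ := by
    calc (a * b) * h * (a * b)⁻¹ = a * (b * h * b⁻¹) * a⁻¹ := by group
      _ = (a * h * a⁻¹) ^ j := by rw [← hj, conj_zpow]
      _ = (h ^ j) ^ i := by rw [← hi, ← zpow_mul, ← zpow_mul, mul_comm]
      _ = (b * h * b⁻¹) ^ i := by rw [← hj]
      _ = b * (h ^ i) * b⁻¹ := by rw [conj_zpow]
      _ = b * (a * h * a⁻¹) * b⁻¹ := by rw [hi]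
      _ = _ := by group
  have h2 : (a⁻¹ * b⁻¹ * a * b) = (b * a)⁻¹ * (a * b) := by group
  rw [h2]
  calc (b * a)⁻¹ * (a * b) * h = (b * a)⁻¹ * ((a * b) * h * (a * b)⁻¹) * (a * b) := by group
    _ = (b * a)⁻¹ * ((b * a) * h * (b * a)⁻¹) * (a * b) := by rw [h1]
    _ = _ := by group

/-- data: index two -/
structure V (S : Sylow 2 G) (z h w : G) : Prop extends W S z h w where
  cov : ∀ s ∈ (S : Subgroup G), s * h = h * s ∨ (w * s) * h = h * (w * s)

theorem hz_of (c : C1 S z h) {k : G} (hk : k * h = h * k) : k * z = z * k := by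
  rw [← c.memH, hk, mul_inv_cancel_right]; exact mem_zpowers h

theorem covH {w : G} (c : V S z h w) (g : G) : g * z = z * g ↔ g * h = h * g ∨ (w * g) * h = h * (w * g) := by
  have hwz : w * z = z * w := c.zc w c.wS
  constructor
  · intro hg
    obtain ⟨a, b, hab, hcomm, ha, hb, ha2, hbo⟩ := decomp g
    have haz := commute_zpowers hg ha
    have hbz := commute_zpowers hg hb
    -- odd part
    have hbh : Commute b h := by
      have h1 := comm_mem c.toC1 hbz (b := w⁻¹) (show Commute w⁻¹ z from (show Commute w z from hwz).inv_left)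
      have h2 : b⁻¹ * w⁻¹⁻¹ * b * w⁻¹ = b⁻¹ * (w * b * w⁻¹) := by group
      rw [h2, inv_odd c.toW hbz hbo] at h1
      have h3 : Commute (b⁻¹ * b⁻¹) h := h1
      have h4 : Commute (b * b) h := by
        have := h3.inv_left
        rwa [mul_inv_rev, inv_inv] at this
      obtain ⟨m, hm⟩ := hbo
      have h5 : b = (b * b) ^ (m + 1) := by
        rw [← pow_two, ← pow_mul, show 2 * (m + 1) = (2 * m + 1) + 1 by ring, ← hm, pow_succ, pow_orderOf_eq_one, one_mul]
      rw [h5]; exact h4.pow_left _
    obtain ⟨u, hu, hus⟩ := conj_into S c.SH (mem_centralizer_singleton_iff.2 haz) ha2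
    rw [mem_centralizer_singleton_iff] at hu
    have haz' : a⁻¹ * z = z * a⁻¹ := (show Commute a z from haz).inv_left
    have h1 : Commute (a⁻¹ * (u * a * u⁻¹)) h := by
      have := comm_mem c.toC1 haz (b := u⁻¹) (show Commute u⁻¹ z from (show Commute u z from hu).inv_left)
      rw [inv_inv] at this
      have h2 : a⁻¹ * u * a * u⁻¹ = a⁻¹ * (u * a * u⁻¹) := by group
      rw [h2] at this
      exact this
    rcases c.cov _ hus with h3 | h3
    · left
      have h4 : a = (u * a * u⁻¹) * (a⁻¹ * (u * a * u⁻¹))⁻¹ := by group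
      have h5 : Commute a h := by
        rw [h4]; exact Commute.mul_left h3 h1.inv_left
      rw [hab]
      exact h5.mul_left hbh
    · right
      have h4 : w * a = (w * (u * a * u⁻¹)) * (a⁻¹ * (u * a * u⁻¹))⁻¹ := by group
      have h5 : Commute (w * a) h := by
        rw [h4]; exact Commute.mul_left h3 h1.inv_left
      rw [hab, ← mul_assoc]
      exact h5.mul_left hbh
  · rintro (hg | hg)
    · exact hz_of c.toC1 hg
    · have h1 : Commute (w * g) z := hz_of c.toC1 hg
      have h2 : g = w⁻¹ * (w * g) := by group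
      rw [h2]
      exact ((show Commute w z from hwz).inv_left).mul_left h1

theorem sq_of_not {w : G} (c : V S z h w) {g : G} (hg : (w * g) * h = h * (w * g)) : g * g = 1 := by
  have h1 := inv_C c.toW hg
  have hww := inv_sq c.w2
  have h2 : w * (w * g) * w⁻¹ = g * w := by
    rw [← mul_assoc, hww, one_mul, inv_inv' c.w2]
  rw [h2, mul_inv_rev, inv_inv' c.w2] at h1
  have h3 : g = g⁻¹ := mul_right_cancel h1
  exact mul_eq_one_iff_eq_inv.2 h3

theorem orderOf_conj_prime {g : G} (hp : (orderOf h).Prime) : (orderOf (g * h * g⁻¹)).Prime := by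
  rw [orderOf_conj']; exact hp

theorem case_b2 {w : G} (c : V S z h w) (hp : (orderOf h).Prime) :
    DStr S ∨ False := by
  have hww := inv_sq c.w2
  have hwi := inv_inv' c.w2
  by_cases huni : ∀ v ∈ (S : Subgroup G), orderOf v = 2 → v * h = h * v → v = z
  · left
    refine ⟨z, w, centralizer {h}, c.z2, c.zc, c.zS, mem_centralizer_singleton_iff.2 c.hz.symm, c.w2, c.wS,
      fun h0 => c.wh (mem_centralizer_singleton_iff.1 h0), fun k hk => inv_C c.toW (mem_centralizer_singleton_iff.1 hk),
      ?_, ?_, h, mem_centralizer_singleton_iff.2 rfl, ?_⟩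
    · intro g
      rw [mem_centralizer_singleton_iff, mem_centralizer_singleton_iff]
      exact covH c g
    · intro v hv hvS hv2
      exact huni v hvS hv2 (mem_centralizer_singleton_iff.1 hv)
    · intro h0
      have h1 : orderOf h ∣ 2 := orderOf_dvd_of_pow_eq_one (by rw [pow_two]; exact h0)
      have h2 := (Nat.dvd_prime Nat.prime_two).1 h1
      rcases h2 with h2 | h2
      · exact c.h1 (orderOf_eq_one_iff.1 h2)
      · have := c.ho; rw [h2] at this; exact absurd this (by decide)
  · right
    push Not at huni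
    obtain ⟨v, hvS, hv2, hvh, hvz⟩ := huni
    -- the centralizer of h in S
    set D : Subgroup G := (S : Subgroup G) ⊓ centralizer {h} with hD
    have memD : ∀ x, x ∈ D ↔ x ∈ (S : Subgroup G) ∧ x * h = h * x := by
      intro x; rw [hD, mem_inf, mem_centralizer_singleton_iff]
    obtain ⟨M, hM, hMD, hMc⟩ := exists_normal S D inf_le_left (by
      intro x hx y hy hxD hyD
      rw [memD] at hxD hyD ⊢
      refine ⟨mul_mem hx hy, ?_⟩
      have h1 := (c.cov x hx).resolve_left (fun h0 => hxD ⟨hx, h0⟩)
      have h2 := (c.cov y hy).resolve_left (fun h0 => hyD ⟨hy, h0⟩)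
      have h3 : x * y = (w * (w * x) * w⁻¹) * (w * y) := by
        rw [← mul_assoc w w x, hww, one_mul]; group
      rw [h3]
      exact Commute.mul_left (commute_conj_h c.toW h1) h2) (by
      intro x hx g hg
      by_contra hn
      rw [memD] at hx hn
      have hu := (c.cov _ hg).resolve_left (fun h0 => hn ⟨hg, h0⟩)
      have hu2 := sq_of_not c hu
      have hu1 : g * x * g⁻¹ ≠ 1 := by
        intro h0
        apply hn
        refine ⟨hg, ?_⟩
        rw [h0, one_mul, mul_one]
      have huo : orderOf (g * x * g⁻¹) = 2 := inv_of hu1 hu2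
      have hxo : orderOf x = 2 := by rw [← huo, orderOf_conj']
      set u := g * x * g⁻¹ with hudef
      -- z and v commute with u
      have hinv : ∀ t ∈ (S : Subgroup G), orderOf t = 2 → t * h = h * t → t * u = u * t := by
        intro t htS ht2 hth
        have h1 : Commute (w * u) t := comm_C c.toW hu hth
        have h2 : w * t * w⁻¹ = t⁻¹ := inv_C c.toW hth
        rw [inv_inv' ht2] at h2
        have h3 : Commute w t := by
          show w * t = t * w
          rw [← mul_inv_eq_iff_eq_mul]; exact h2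
        have h4 : u = w⁻¹ * (w * u) := by group
        rw [h4]
        exact (h3.inv_left.mul_left h1).symm.eq
      have hzu := hinv z c.zS c.z2 c.hz.symm
      have hvu := hinv v hvS hv2 hvh
      -- h' = g h g⁻¹
      have hxh' : (g * h * g⁻¹) * u = u * (g * h * g⁻¹) := by
        rw [hudef]
        calc g * h * g⁻¹ * (g * x * g⁻¹) = g * (h * x) * g⁻¹ := by group
          _ = g * (x * h) * g⁻¹ := by rw [hx.2]
          _ = _ := by group
      have hho : Odd (orderOf (g * h * g⁻¹)) := by rw [orderOf_conj']; exact c.ho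
      have hh1 : g * h * g⁻¹ ≠ 1 := fun h0 => c.h1 (conj_eq_one_iff.1 h0)
      have hN := nz_odd c.nc huo hxh' hho hh1
      have hmem : ∀ t, t * u = u * t → t * (g * h * g⁻¹) * t⁻¹ ∈ zpowers (g * h * g⁻¹) := by
        intro t ht
        rw [← mem_norm_zpowers, hN, mem_centralizer_singleton_iff]; exact ht
      have hpr := orderOf_conj_prime (g := g) hp
      -- no involution of D commutes with h'
      have hno : ∀ t ∈ (S : Subgroup G), orderOf t = 2 → t * h = h * t → ¬ t * (g * h * g⁻¹) = (g * h * g⁻¹) * t := by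
        intro t htS ht2 hth hc
        have h1 := nz_odd c.nc ht2 hc.symm hho hh1
        rw [hN] at h1
        have h2 : h ∈ centralizer {t} := mem_centralizer_singleton_iff.2 hth.symm
        rw [← h1, mem_centralizer_singleton_iff] at h2
        exact hn ⟨hg, h2.symm⟩
      have iz := (prime_inv hpr (inv_sq c.z2) (hmem z hzu)).resolve_left (hno z c.zS c.z2 c.hz.symm)
      have iv := (prime_inv hpr (inv_sq hv2) (hmem v hvu)).resolve_left (hno v hvS hv2 hvh)
      have hzv : Commute z v := (c.zc v hvS).symm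
      apply hno (z * v) (mul_mem c.zS hvS) ?_ (Commute.mul_left c.hz.symm hvh)
      · have : (z * v) * (g * h * g⁻¹) * (z * v)⁻¹ = z * (v * (g * h * g⁻¹) * v⁻¹) * z⁻¹ := by group
        rw [iv] at this
        have h2 : z * (g * h * g⁻¹)⁻¹ * z⁻¹ = (z * (g * h * g⁻¹) * z⁻¹)⁻¹ := by group
        rw [h2, iz, inv_inv, mul_inv_eq_iff_eq_mul] at this
        exact this
      · apply inv_of
        · intro h0
          apply hvz
          have := mul_eq_one_iff_eq_inv.1 h0
          rw [inv_inv' hv2] at this
          exact this.symm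
        · calc z * v * (z * v) = z * (v * z) * v := by group
            _ = z * (z * v) * v := by rw [hzv.eq]
            _ = (z * z) * (v * v) := by group
            _ = 1 := by rw [inv_sq c.z2, inv_sq hv2, one_mul])
    have hDM : ∀ x, x ∈ (S : Subgroup G) → x * h = h * x → x ∈ M := fun x hx hc => (hMD x hx).2 ((memD x).2 ⟨hx, hc⟩)
    -- M ∩ H ≤ C
    have hMH : ∀ g ∈ M, g * z = z * g → g * h = h * g := by
      intro g hgM hgz
      rcases (covH c g).1 hgz with h1 | h1
      · exact h1
      · have h2 := sq_of_not c h1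
        by_cases hg1 : g = 1
        · rw [hg1, one_mul, mul_one]
        have hgo := inv_of hg1 h2
        obtain ⟨u, hu, hus⟩ := conj_into S c.SH (mem_centralizer_singleton_iff.2 hgz) ⟨1, by rw [hgo, pow_one]⟩
        rw [mem_centralizer_singleton_iff] at hu
        have h3 : u * g * u⁻¹ ∈ D := (hMD _ hus).1 (hM.conj_mem g hgM u)
        rw [memD] at h3
        have h5 : u * h * u⁻¹ ∈ zpowers h := (c.memH u).2 hu
        have h4 : (u * h * u⁻¹) * (u * g * u⁻¹) = (u * g * u⁻¹) * (u * h * u⁻¹) := commute_zpowers h3.2.symm h5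
        have h6 : u * (h * g) * u⁻¹ = u * (g * h) * u⁻¹ := by
          calc u * (h * g) * u⁻¹ = (u * h * u⁻¹) * (u * g * u⁻¹) := by group
            _ = (u * g * u⁻¹) * (u * h * u⁻¹) := h4
            _ = _ := by group
        exact (mul_left_cancel (mul_right_cancel h6)).symm
    refine no_abelian_normal c.ns M ?_ (t := z) (x := h * h) (hDM z c.zS c.hz.symm) c.z2 ?_ ?_ ?_
    · intro t htM ht2 x hxM y hyM hxt hyt
      obtain ⟨g, hg⟩ := conj_into_top S (g := t) ⟨1, by rw [ht2, pow_one]⟩
      have h1 : g * t * g⁻¹ ∈ D := (hMD _ hg).1 (hM.conj_mem t htM g)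
      rw [memD] at h1
      have hto : orderOf (g * t * g⁻¹) = 2 := by rw [orderOf_conj', ht2]
      have h2 := c.F1 hto h1.2
      have hc : ∀ x ∈ M, x * t = t * x → (g * x * g⁻¹) * h = h * (g * x * g⁻¹) := by
        intro x hxM hx
        apply hMH _ (hM.conj_mem x hxM g)
        rw [← h2]
        calc g * x * g⁻¹ * (g * t * g⁻¹) = g * (x * t) * g⁻¹ := by group
          _ = g * (t * x) * g⁻¹ := by rw [hx]
          _ = _ := by group
      have h3 := comm_C c.toW (hc x hxM hxt) (hc y hyM hyt)
      have h4 : g * (x * y) * g⁻¹ = g * (y * x) * g⁻¹ := by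
        calc g * (x * y) * g⁻¹ = g * x * g⁻¹ * (g * y * g⁻¹) := by group
          _ = g * y * g⁻¹ * (g * x * g⁻¹) := h3
          _ = _ := by group
      exact mul_left_cancel (mul_right_cancel h4)
    · have h1 : ⁅w, h⁆ ∈ M := hMc (commutator_mem_commutator (mem_top _) (mem_top _))
      rw [commutatorElement_def, inv_h c.toW, ← mul_inv_rev] at h1
      exact inv_mem_iff.1 h1
    · exact Commute.mul_left c.hz c.hz
    · intro h0
      have h1 : orderOf h ∣ 2 ^ 2 := orderOf_dvd_of_pow_eq_one (by
        rw [show (2 : ℕ) ^ 2 = 2 * 2 by norm_num, pow_mul, pow_two, pow_two]; exact h0)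
      have h2 : (orderOf h).Coprime (2 ^ 2) := Nat.Coprime.pow_right _ (Nat.coprime_two_right.2 c.ho)
      exact c.h1 (orderOf_eq_one_iff.1 (Nat.Coprime.eq_one_of_dvd h2 h1))

/-- the first case -/
theorem main [Nontrivial G] (c : C1 S z h) (hp : (orderOf h).Prime) : Concl G ∨ DStr S := by
  by_cases hQ : ∀ s ∈ (S : Subgroup G), s * h = h * s
  · left; exact c.case_a hQ
  · right
    push Not at hQ
    obtain ⟨s₀, hs₀, hs₀h⟩ := hQ
    obtain ⟨y, hy, hgen⟩ := c.exists_gen hp
    have hyh : ¬ y * h = h * y := by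
      intro h0
      apply hs₀h
      obtain ⟨i, hi⟩ := hgen s₀ hs₀
      have h1 : s₀ = (s₀ * y ^ i) * (y ^ i)⁻¹ := by group
      rw [h1]
      exact Commute.mul_left hi (((show Commute y h from h0).zpow_left i).inv_left)
    have hy1 : y ≠ 1 := by
      rintro rfl; exact hyh (by rw [one_mul, mul_one])
    obtain ⟨w, hwy, hw2⟩ := exists_inv_of_two S.isPGroup' hy hy1
    have hwS : w ∈ (S : Subgroup G) := (zpowers_le.2 hy) hwy
    have hwh : ¬ w * h = h * w := fun h0 => inv_ne hw2 (c.F3 hy hyh hwy h0)
    have cW : W S z h w := { toC1 := c, w2 := hw2, wS := hwS, wh := hwh }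
    by_cases hy2 : orderOf y = 2
    · have hwy' : w = y := uniq_inv hwy (mem_zpowers y) hw2 hy2
      subst hwy'
      have hcov : ∀ s ∈ (S : Subgroup G), s * h = h * s ∨ (w * s) * h = h * (w * s) := by
        intro s hs
        obtain ⟨i, hi⟩ := hgen s hs
        rcases Int.even_or_odd' i with ⟨m, rfl | rfl⟩
        · left
          rwa [zpow_mul, zpow_two, inv_sq hw2, one_zpow, mul_one] at hi
        · right
          rw [zpow_add, zpow_mul, zpow_two, inv_sq hw2, one_zpow, one_mul, zpow_one] at hi
          have h1 := commute_conj_h cW hi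
          have h2 : w * (s * w) * w⁻¹ = w * s := by group
          rwa [h2] at h1
      have cV : V S z h w := { toW := cW, cov := hcov }
      exact (case_b2 cV hp).resolve_right id
    · exfalso
      obtain ⟨n, hn⟩ := orderOf_two_pow hy
      rcases n with _ | _ | n
      · rw [pow_zero, orderOf_eq_one_iff] at hn; exact hy1 hn
      · exact hy2 (by rw [hn]; norm_num)
      · refine case_b4 cW hy hgen (τ := y ^ (2 ^ n)) (pow_mem (mem_zpowers y) _) ?_
        rw [← pow_add, ← two_mul, ← pow_succ']
        apply uniq_inv (pow_mem (mem_zpowers y) _) hwy ?_ hw2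
        rw [orderOf_pow_of_dvd (by positivity) (by rw [hn]; exact pow_dvd_pow 2 (by omega)), hn,
          pow_succ 2 (n + 1), Nat.mul_div_cancel_left _ (by positivity)]

end C1

end Cfsg.Agent.H4.RA
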