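import Mathlib
import Cfsg.Agent.H4.RF
import Cfsg.Agent.H4.QuatEquiv

set_option autoImplicit false
set_option linter.unusedSectionVars false

/-! Case 2: the centralizers of 2-central involutions are 2-groups. -/

namespace Cfsg.Agent.H4.RA

open Cfsg Subgroup
open scoped commutatorElement

variable {G : Type*} [Group G] [Finite G]

theorem sgn (nc : NC G) {a x g : G} (a2 : orderOf a = 2) (hx : x * x = a) (hg : g * a = a * g) :
    g * x = x * g ∨ g * x * g⁻¹ = x⁻¹ := by
  have hax : a ∈ zpowers x := by rw [← hx]; exact mul_mem (mem_zpowers x) (mem_zpowers x)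
  have h1 : g * x * g⁻¹ ∈ zpowers x := by
    rw [← mem_norm_zpowers, nz_pow nc a2 hax, mem_centralizer_singleton_iff]; exact hg
  obtain ⟨k, hk⟩ := mem_zpowers_iff.1 h1
  have haa := inv_sq a2
  have h2 : (g * x * g⁻¹) * (g * x * g⁻¹) = a := by
    calc (g * x * g⁻¹) * (g * x * g⁻¹) = g * (x * x) * g⁻¹ := by group
      _ = g * a * g⁻¹ := by rw [hx]
      _ = a := by rw [hg, mul_inv_cancel_right]
  rcases Int.even_or_odd' k with ⟨m, rfl | rfl⟩
  · exfalso
    rw [zpow_mul, zpow_two, hx] at hk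
    rw [← hk, ← zpow_add, ← two_mul, zpow_mul, zpow_two, haa, one_zpow] at h2
    exact inv_ne a2 h2.symm
  · rw [zpow_add, zpow_mul, zpow_two, hx, zpow_one] at hk
    have h3 : a ^ m ∈ zpowers a := zpow_mem (mem_zpowers a) m
    rcases mem_zpowers_inv a2 h3 with h4 | h4
    · left
      rw [h4, one_mul] at hk
      exact (mul_inv_eq_iff_eq_mul.1 hk.symm)
    · right
      rw [h4] at hk
      rw [← hk]
      apply eq_inv_of_mul_eq_one_left
      rw [mul_assoc, hx, haa]

theorem not_sq {a x : G} (a2 : orderOf a = 2) (hx : x * x = a) : x ≠ x⁻¹ := by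
  intro h
  have h1 : x * x = 1 := by nth_rewrite 2 [h]; rw [mul_inv_cancel]
  exact inv_ne a2 (hx ▸ h1)

theorem ii1 (nc : NC G) {a x f s : G} (a2 : orderOf a = 2) (hx : x * x = a) (hf : f * f = 1) (hfx : f * x = x * f)
    (hs : s * a = a * s) : s * f * s⁻¹ = f ∨ s * f * s⁻¹ = a * f := by
  have hxf : (x * f) * (x * f) = a := by
    calc (x * f) * (x * f) = x * (f * x) * f := by group
      _ = (x * x) * (f * f) := by rw [hfx]; group
      _ = a := by rw [hx, hf, mul_one]
  have haa := inv_sq a2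
  have hxa : x⁻¹ = a * x := by
    rw [inv_eq_iff_mul_eq_one, ← mul_assoc, ← hx]
    have : x * (x * x) * x = (x * x) * (x * x) := by group
    rw [this, hx, haa]
  have hxa' : x⁻¹ = x * a := by
    rw [hxa, ← hx]; group
  have hxfa : (x * f)⁻¹ = (x * f) * a := by
    rw [inv_eq_iff_mul_eq_one, ← mul_assoc, hxf, haa]
  have haf : f * a = a * f := by
    rw [← hx]
    exact (show Commute f x from hfx).mul_right hfx
  have h1 : s * f * s⁻¹ = (s * x * s⁻¹)⁻¹ * (s * (x * f) * s⁻¹) := by group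
  have e1 : s * x * s⁻¹ = x ∨ s * x * s⁻¹ = x⁻¹ := by
    rcases sgn nc a2 hx hs with h | h
    · left; rw [h, mul_inv_cancel_right]
    · right; exact h
  have e2 : s * (x * f) * s⁻¹ = x * f ∨ s * (x * f) * s⁻¹ = (x * f)⁻¹ := by
    rcases sgn nc a2 hxf hs with h | h
    · left; rw [h, mul_inv_cancel_right]
    · right; exact h
  rcases e1 with e1 | e1 <;> rcases e2 with e2 | e2
  · left; rw [h1, e1, e2]; group
  · right; rw [h1, e1, e2, hxfa]
    calc x⁻¹ * (x * f * a) = f * a := by group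
      _ = a * f := haf
  · right; rw [h1, e1, e2, inv_inv, ← mul_assoc, hx]
  · left; rw [h1, e1, e2, inv_inv, hxfa]
    calc x * (x * f * a) = (x * x) * (f * a) := by group
      _ = a * (a * f) := by rw [hx, haf]
      _ = f := by rw [← mul_assoc, haa, one_mul]

theorem sgn_eq (nc : NC G) {a b x y s : G} (a2 : orderOf a = 2) (b2 : orderOf b = 2) (hab : a * b = b * a) (hne : a ≠ b)
    (hx : x * x = a) (hy : y * y = b) (hxy : x * y = y * x) (hsa : s * a = a * s) (hsb : s * b = b * s)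
    (hsx : s * x = x * s) : s * y = y * s := by
  have c2 : orderOf (a * b) = 2 := by
    apply inv_of
    · intro h; apply hne
      rw [mul_eq_one_iff_eq_inv, inv_inv' b2] at h; exact h
    · calc a * b * (a * b) = a * (b * a) * b := by group
        _ = (a * a) * (b * b) := by rw [← hab]; group
        _ = 1 := by rw [inv_sq a2, inv_sq b2, one_mul]
  have hp : (x * y) * (x * y) = a * b := by
    calc (x * y) * (x * y) = x * (y * x) * y := by group
      _ = (x * x) * (y * y) := by rw [← hxy]; group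
      _ = _ := by rw [hx, hy]
  rcases sgn nc b2 hy hsb with h | h
  · exact h
  · exfalso
    have e1 : s * x * s⁻¹ = x := by rw [hsx, mul_inv_cancel_right]
    have e2 : s * (x * y) * s⁻¹ = x * y⁻¹ := by
      calc s * (x * y) * s⁻¹ = (s * x * s⁻¹) * (s * y * s⁻¹) := by group
        _ = _ := by rw [e1, h]
    rcases sgn nc c2 hp (Commute.mul_right hsa hsb) with h1 | h1
    · rw [h1, mul_inv_cancel_right] at e2
      exact not_sq b2 hy (mul_left_cancel e2)
    · rw [h1, mul_inv_rev] at e2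
      have h3 : y⁻¹ * x⁻¹ = x⁻¹ * y⁻¹ := ((show Commute x y from hxy).inv_inv).symm.eq
      rw [h3] at e2
      exact not_sq a2 hx (mul_right_cancel e2).symm

/-- hypotheses of case 2 -/
structure C2 (S : Sylow 2 G) : Prop where
  nc : NC G
  ns : NS G
  cent : ∀ z ∈ (S : Subgroup G), orderOf z = 2 → (∀ s ∈ (S : Subgroup G), s * z = z * s) → ∀ g : G, g * z = z * g → g ∈ (S : Subgroup G)

theorem odd_prime_of_ne {b : G} (hb : Odd (orderOf b)) (hb1 : b ≠ 1) : ∃ h ∈ zpowers b, (orderOf h).Prime ∧ Odd (orderOf h) := by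
  obtain ⟨p, hp, hpd⟩ := Nat.exists_prime_and_dvd (fun h => hb1 (orderOf_eq_one_iff.1 h) : orderOf b ≠ 1)
  refine ⟨b ^ (orderOf b / p), pow_mem (mem_zpowers b) _, ?_⟩
  have h1 : orderOf (b ^ (orderOf b / p)) = p := by
    rw [orderOf_pow_of_dvd (by
      have := Nat.div_pos (Nat.le_of_dvd (orderOf_pos b) hpd) hp.pos
      omega) (Nat.div_dvd_of_dvd hpd), Nat.div_div_self hpd (orderOf_pos b).ne']
  rw [h1]
  exact ⟨hp, hb.of_dvd_nat hpd⟩

theorem C2.of_not (nc : NC G) (ns : NS G) (S : Sylow 2 G) (h : ∀ z h : G, C1 S z h → ¬ (orderOf h).Prime) : C2 S := by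
  refine ⟨nc, ns, fun z hz hz2 hzc g hg => ?_⟩
  have : Fact (Nat.Prime 2) := ⟨Nat.prime_two⟩
  have h1 : IsPGroup 2 (centralizer ({z} : Set G)) := by
    rw [IsPGroup.iff_orderOf]
    rintro ⟨k, hk⟩
    rw [mem_centralizer_singleton_iff] at hk
    rw [Subgroup.orderOf_mk]
    obtain ⟨a, b, hab, hcomm, ha, hb, ha2, hbo⟩ := decomp k
    by_cases hb1 : b = 1
    · rw [hab, hb1, mul_one]; exact ha2
    · exfalso
      obtain ⟨p, hp, hpp, hpo⟩ := odd_prime_of_ne hbo hb1
      refine h z p ⟨nc, ns, hz, hz2, hzc, commute_zpowers (commute_zpowers hk hb) hp, hpo, ?_⟩ hpp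
      rintro rfl; rw [orderOf_one] at hpp; exact Nat.not_prime_one hpp
  have h2 : (S : Subgroup G) ≤ centralizer {z} := by
    intro s hs; rw [mem_centralizer_singleton_iff]; exact hzc s hs
  rw [← S.is_maximal' h1 h2, mem_centralizer_singleton_iff]
  exact hg

/-- exponent two -/
theorem C2.exp_two [Nontrivial G] {S : Sylow 2 G} (c : C2 S) (h : ∀ v ∈ (S : Subgroup G), orderOf v = 2 → ∀ s ∈ (S : Subgroup G), s * v = v * s)
    (hab : ∀ p ∈ (S : Subgroup G), ∀ q ∈ (S : Subgroup G), p * q = q * p) : Concl G := by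
  apply Concl.of_abelian c.ns
  intro t ht
  obtain ⟨g, hg⟩ := conj_into_top S (g := t) ⟨1, by rw [ht, pow_one]⟩
  have ht' : orderOf (g * t * g⁻¹) = 2 := by rw [orderOf_conj', ht]
  have hc : ∀ x : G, x * t = t * x → g * x * g⁻¹ ∈ (S : Subgroup G) := by
    intro x hx
    apply c.cent _ hg ht' (h _ hg ht')
    calc g * x * g⁻¹ * (g * t * g⁻¹) = g * (x * t) * g⁻¹ := by group
      _ = g * (t * x) * g⁻¹ := by rw [hx]
      _ = _ := by group
  refine ⟨⟨?_⟩⟩
  rintro ⟨x, hx⟩ ⟨y, hy⟩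
  rw [mem_centralizer_singleton_iff] at hx hy
  apply Subtype.ext
  change x * y = y * x
  have h2 := hab _ (hc x hx) _ (hc y hy)
  have h3 : g * (x * y) * g⁻¹ = g * (y * x) * g⁻¹ := by
    calc g * (x * y) * g⁻¹ = g * x * g⁻¹ * (g * y * g⁻¹) := by group
      _ = g * y * g⁻¹ * (g * x * g⁻¹) := h2
      _ = _ := by group
  exact mul_left_cancel (mul_right_cancel h3)

theorem exists_sqrt {S : Sylow 2 G} {u : G} (hu : u ∈ (S : Subgroup G)) (h : u * u ≠ 1) :
    ∃ v ∈ zpowers u, orderOf (v * v) = 2 := by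
  obtain ⟨n, hn⟩ := orderOf_two_pow hu
  rcases n with _ | _ | n
  · exfalso; rw [pow_zero, orderOf_eq_one_iff] at hn; rw [hn, one_mul] at h; exact h rfl
  · exfalso; exact h (inv_sq (by rw [hn]; norm_num))
  · refine ⟨u ^ (2 ^ n), pow_mem (mem_zpowers u) _, ?_⟩
    rw [← pow_add, ← two_mul, ← pow_succ']
    rw [orderOf_pow_of_dvd (by positivity) (by rw [hn]; exact pow_dvd_pow 2 (by omega)), hn,
      pow_succ 2 (n + 1), Nat.mul_div_cancel_left _ (by positivity)]

/-- an element of order four whose square is central in the Sylow subgroup -/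
theorem C2.exists_four {S : Sylow 2 G} (c : C2 S) {x₀ : G} (hx₀ : x₀ ∈ (S : Subgroup G)) (h : x₀ * x₀ ≠ 1) :
    ∃ x ∈ (S : Subgroup G), orderOf (x * x) = 2 ∧ ∀ s ∈ (S : Subgroup G), s * (x * x) = (x * x) * s := by
  have : Fact (Nat.Prime 2) := ⟨Nat.prime_two⟩
  obtain ⟨x₁, hx₁, hx₁'⟩ := exists_sqrt hx₀ h
  obtain ⟨x, ⟨hxS, hx2⟩, hmax⟩ := Set.exists_max_image {x : G | x ∈ (S : Subgroup G) ∧ orderOf (x * x) = 2}
    (fun x => Nat.card ((S : Subgroup G) ⊓ centralizer {x * x} : Subgroup G)) (Set.toFinite _)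
    ⟨x₁, (zpowers_le.2 hx₀) hx₁, hx₁'⟩
  refine ⟨x, hxS, hx2, ?_⟩
  by_contra hne
  push Not at hne
  obtain ⟨s₀, hs₀, hs₀x⟩ := hne
  set b := x * x with hb
  set T : Subgroup G := (S : Subgroup G) ⊓ centralizer {b} with hT
  have memT : ∀ t, t ∈ T ↔ t ∈ (S : Subgroup G) ∧ t * b = b * t := by
    intro t; rw [hT, mem_inf, mem_centralizer_singleton_iff]
  have hTS : T < (S : Subgroup G) := by
    refine lt_of_le_of_ne inf_le_left ?_
    intro h0
    exact hs₀x ((memT s₀).1 (h0 ▸ hs₀)).2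
  -- an element normalizing T
  obtain ⟨s, hsS, hsT, hsN⟩ : ∃ s ∈ (S : Subgroup G), s ∉ T ∧ s ∈ normalizer (T : Set G) := by
    have hnil : Group.IsNilpotent (S : Subgroup G) := S.isPGroup'.isNilpotent
    have h1 := (Group.normalizerCondition_of_isNilpotent (G := (S : Subgroup G))) (T.subgroupOf S) (by
      rw [lt_top_iff_ne_top, Ne, subgroupOf_eq_top]
      exact fun h0 => absurd (le_antisymm hTS.le h0) hTS.ne)
    obtain ⟨⟨s, hs⟩, hsn, hst⟩ := SetLike.exists_of_lt h1
    refine ⟨s, hs, fun h0 => hst (mem_subgroupOf.2 h0), ?_⟩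
    rw [mem_normalizer_iff]
    intro t
    constructor
    · intro ht
      have := (mem_normalizer_iff.1 hsn ⟨t, hTS.le ht⟩).1 (mem_subgroupOf.2 ht)
      exact mem_subgroupOf.1 this
    · intro ht
      have htS : t ∈ (S : Subgroup G) := by
        have : t = s⁻¹ * (s * t * s⁻¹) * s := by group
        rw [this]; exact mul_mem (mul_mem (inv_mem hs) (hTS.le ht)) hs
      have := (mem_normalizer_iff.1 hsn ⟨t, htS⟩).2 (mem_subgroupOf.2 ht)
      exact mem_subgroupOf.1 this
  obtain ⟨r, hrS, hrT, hrN, hrr⟩ : ∃ r ∈ (S : Subgroup G), r ∉ T ∧ r ∈ normalizer (T : Set G) ∧ r * r ∈ T := by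
    classical
    have hex : ∃ i : ℕ, s ^ (2 ^ i) ∈ T := by
      obtain ⟨n, hn⟩ := orderOf_two_pow hsS
      exact ⟨n, by rw [← hn, pow_orderOf_eq_one]; exact one_mem _⟩
    have h1 := Nat.find_spec hex
    have h0 : Nat.find hex ≠ 0 := by
      intro h0; rw [h0, pow_zero, pow_one] at h1; exact hsT h1
    obtain ⟨i, hi⟩ := Nat.exists_eq_succ_of_ne_zero h0
    refine ⟨s ^ (2 ^ i), pow_mem hsS _, Nat.find_min hex (by omega), pow_mem hsN _, ?_⟩
    rw [← pow_add, ← two_mul, ← pow_succ', ← Nat.succ_eq_add_one, ← hi]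
    exact h1
  have hxT : x ∈ T := (memT x).2 ⟨hxS, by rw [hb]; group⟩
  have conjT : ∀ t ∈ T, r * t * r⁻¹ ∈ T := fun t ht => (mem_normalizer_iff.1 hrN t).1 ht
  have conjT' : ∀ t ∈ T, r⁻¹ * t * r ∈ T := by
    intro t ht
    have := (mem_normalizer_iff.1 (inv_mem hrN) t).1 ht
    rwa [inv_inv] at this
  have hx'T := conjT x hxT
  set b' := r * b * r⁻¹ with hb'
  have hb'x : (r * x * r⁻¹) * (r * x * r⁻¹) = b' := by rw [hb', hb]; group
  have hbb' : b' ≠ b := by
    intro h0
    apply hrT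
    rw [memT]
    exact ⟨hrS, by rw [hb', mul_inv_eq_iff_eq_mul] at h0; exact h0⟩
  have hb'2 : orderOf b' = 2 := by rw [hb', orderOf_conj', hx2]
  have Tb' : ∀ t ∈ T, t * b' = b' * t := by
    intro t ht
    have h1 := ((memT _).1 (conjT' t ht)).2
    rw [hb']
    calc t * (r * b * r⁻¹) = r * ((r⁻¹ * t * r) * b) * r⁻¹ := by group
      _ = r * (b * (r⁻¹ * t * r)) * r⁻¹ := by rw [h1]
      _ = _ := by group
  have nx : ∀ g, g * b = b * g → g * x * g⁻¹ ∈ zpowers x := by
    intro g hg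
    rw [← mem_norm_zpowers, nz_pow c.nc hx2 (mul_mem (mem_zpowers x) (mem_zpowers x)), mem_centralizer_singleton_iff]
    exact hg
  have nx' : ∀ g, g * b' = b' * g → g * (r * x * r⁻¹) * g⁻¹ ∈ zpowers (r * x * r⁻¹) := by
    intro g hg
    rw [← mem_norm_zpowers, nz_pow c.nc hb'2 (by rw [← hb'x]; exact mul_mem (mem_zpowers _) (mem_zpowers _)),
      mem_centralizer_singleton_iff]
    exact hg
  have hcomm : x * (r * x * r⁻¹) = (r * x * r⁻¹) * x := by
    apply comm_of_disj_inv (S := S) hxS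
    · exact nx' x (Tb' x hxT)
    · exact nx _ ((memT _).1 hx'T).2
    · intro v hv2 hv hv'
      apply hbb'
      rw [uniq_inv (x := r * x * r⁻¹) (by rw [← hb'x]; exact mul_mem (mem_zpowers _) (mem_zpowers _)) hv' hb'2 hv2]
      exact uniq_inv hv (mul_mem (mem_zpowers x) (mem_zpowers x)) hv2 hx2
  have hy2 : (x * (r * x * r⁻¹)) * (x * (r * x * r⁻¹)) = b * b' := by
    calc (x * (r * x * r⁻¹)) * (x * (r * x * r⁻¹)) = x * ((r * x * r⁻¹) * x) * (r * x * r⁻¹) := by group
      _ = (x * x) * ((r * x * r⁻¹) * (r * x * r⁻¹)) := by rw [← hcomm]; group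
      _ = _ := by rw [hb'x, ← hb]
  have hbT : b ∈ T := mul_mem hxT hxT
  have hbc : b * b' = b' * b := Tb' b hbT
  have hbb'2 : orderOf (b * b') = 2 := by
    apply inv_of
    · intro h0
      rw [mul_eq_one_iff_eq_inv, inv_inv' hb'2] at h0; exact hbb' h0.symm
    · calc b * b' * (b * b') = b * (b' * b) * b' := by group
        _ = (b * b) * (b' * b') := by rw [← hbc]; group
        _ = 1 := by rw [inv_sq hx2, inv_sq hb'2, one_mul]
  have h1 := hmax (x * (r * x * r⁻¹)) ⟨mul_mem hxS (hTS.le hx'T), by rw [hy2]; exact hbb'2⟩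
  simp only [hy2] at h1
  have h2 : T < (S : Subgroup G) ⊓ centralizer {b * b'} := by
    refine lt_of_le_of_ne ?_ ?_
    · intro t ht
      rw [mem_inf, mem_centralizer_singleton_iff]
      exact ⟨hTS.le ht, Commute.mul_right ((memT t).1 ht).2 (Tb' t ht)⟩
    · intro h0
      apply hrT
      rw [h0, mem_inf, mem_centralizer_singleton_iff]
      refine ⟨hrS, ?_⟩
      have e1 : r * b' * r⁻¹ = b := by
        rw [hb']
        have h3 := ((memT _).1 hrr).2
        calc r * (r * b * r⁻¹) * r⁻¹ = (r * r) * b * (r * r)⁻¹ := by group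
          _ = b := by rw [h3, mul_inv_cancel_right]
      have e2 : r * (b * b') * r⁻¹ = b * b' := by
        calc r * (b * b') * r⁻¹ = (r * b * r⁻¹) * (r * b' * r⁻¹) := by group
          _ = b' * b := by rw [e1, ← hb']
          _ = _ := hbc.symm
      rw [← mul_inv_eq_iff_eq_mul]; exact e2
  have h3 : Nat.card T < Nat.card ((S : Subgroup G) ⊓ centralizer {b * b'} : Subgroup G) := by
    apply lt_of_le_of_ne (Subgroup.card_le_of_le h2.le)
    intro h0
    exact h2.ne (Subgroup.eq_of_le_of_card_ge h2.le h0.ge)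
  omega

end Cfsg.Agent.H4.RA
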