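import Mathlib
import Cfsg.Agent.H4.RG

set_option autoImplicit false
set_option linter.unusedSectionVars false

/-! Case 2 (I). -/

namespace Cfsg.Agent.H4.RA

open Cfsg Subgroup
open scoped commutatorElement

variable {G : Type*} [Group G] [Finite G]

/-- an element of order dividing three permuting the involutions of a four-group -/
theorem exists_rho {S : Sylow 2 G} {a b g : G} (hab : a * b = b * a)
    (hC : ∀ g : G, g * a = a * g → g ∈ (S : Subgroup G)) (ha : g * a * g⁻¹ = b) (hb : g * b * g⁻¹ = a * b)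
    (haa : a * a = 1) :
    ∃ ρ ∈ zpowers g, ρ ^ 3 = 1 ∧ ρ * a * ρ⁻¹ = b ∧ ρ * b * ρ⁻¹ = a * b := by
  have hbb : b * b = 1 := by
    rw [← ha]
    calc g * a * g⁻¹ * (g * a * g⁻¹) = g * (a * a) * g⁻¹ := by group
      _ = 1 := by rw [haa]; group
  have hc : g * (a * b) * g⁻¹ = a := by
    calc g * (a * b) * g⁻¹ = (g * a * g⁻¹) * (g * b * g⁻¹) := by group
      _ = b * (a * b) := by rw [ha, hb]
      _ = a * (b * b) := by rw [← mul_assoc, ← hab, mul_assoc]
      _ = a := by rw [hbb, mul_one]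
  have h3a : g ^ 3 * a = a * g ^ 3 := by
    rw [← mul_inv_eq_iff_eq_mul]
    calc g ^ 3 * a * (g ^ 3)⁻¹ = g * (g * (g * a * g⁻¹) * g⁻¹) * g⁻¹ := by
          rw [pow_succ, pow_succ, pow_one]; group
      _ = a := by rw [ha, hb, hc]
  have h3b : g ^ 3 * b = b * g ^ 3 := by
    rw [← mul_inv_eq_iff_eq_mul]
    calc g ^ 3 * b * (g ^ 3)⁻¹ = g * (g * (g * b * g⁻¹) * g⁻¹) * g⁻¹ := by
          rw [pow_succ, pow_succ, pow_one]; group
      _ = b := by rw [hb, hc, ha]
  obtain ⟨n, hn⟩ := orderOf_two_pow (hC _ h3a)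
  obtain ⟨m, hm⟩ : ∃ m, 4 ^ n = 3 * m + 1 := by
    have : 4 ^ n % 3 = 1 := by rw [Nat.pow_mod]; norm_num
    exact ⟨4 ^ n / 3, by omega⟩
  have e1 : g ^ (4 ^ n) = (g ^ 3) ^ m * g := by rw [hm, pow_succ, pow_mul]
  refine ⟨g ^ (4 ^ n), pow_mem (mem_zpowers g) _, ?_, ?_, ?_⟩
  · rw [← pow_mul, mul_comm, pow_mul, show (4 : ℕ) ^ n = 2 ^ n * 2 ^ n by rw [← mul_pow]; norm_num, pow_mul, ← hn,
      pow_orderOf_eq_one, one_pow]
  · rw [e1]
    calc (g ^ 3) ^ m * g * a * ((g ^ 3) ^ m * g)⁻¹ = (g ^ 3) ^ m * (g * a * g⁻¹) * ((g ^ 3) ^ m)⁻¹ := by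
          rw [mul_inv_rev]; simp only [mul_assoc]
      _ = b := by rw [ha, ((show Commute (g ^ 3) b from h3b).pow_left m).eq, mul_inv_cancel_right]
  · rw [e1]
    calc (g ^ 3) ^ m * g * b * ((g ^ 3) ^ m * g)⁻¹ = (g ^ 3) ^ m * (g * b * g⁻¹) * ((g ^ 3) ^ m)⁻¹ := by
          rw [mul_inv_rev]; simp only [mul_assoc]
      _ = a * b := by
        rw [hb, ((Commute.mul_right h3a h3b : Commute (g ^ 3) (a * b)).pow_left m).eq, mul_inv_cancel_right]

theorem no_comm_rho (nc : NC G) {a b ρ v : G} (a2 : orderOf a = 2) (hab : a * b = b * a) (hne : a ≠ b)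
    (b2 : orderOf b = 2) (h3 : ρ ^ 3 = 1) (ha : ρ * a * ρ⁻¹ = b) (v2 : orderOf v = 2) (hva : v * a = a * v)
    (hvr : v * ρ = ρ * v) : False := by
  have hr1 : ρ ≠ 1 := by
    rintro rfl; apply hne; rw [← ha]; group
  have ho : orderOf ρ = 3 := orderOf_eq_prime h3 hr1
  have h1 := nz_odd nc v2 hvr.symm (by rw [ho]; decide) hr1
  have h2 : a ∈ normalizer ((zpowers ρ : Subgroup G) : Set G) := by
    rw [h1, mem_centralizer_singleton_iff]; exact hva.symm
  rw [mem_norm_zpowers] at h2
  have h4 : a * b ∈ zpowers ρ := by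
    have h5 : a * b = (a * ρ * a⁻¹) * ρ⁻¹ := by
      rw [← ha, inv_inv' a2]
      group
    rw [h5]; exact mul_mem h2 (inv_mem (mem_zpowers ρ))
  have h5 : orderOf (a * b) ∣ 3 := by rw [← ho]; exact orderOf_dvd_of_mem_zpowers h4
  have h6 : orderOf (a * b) ∣ 2 := by
    apply orderOf_dvd_of_pow_eq_one
    rw [pow_two]
    calc a * b * (a * b) = a * (b * a) * b := by group
      _ = (a * a) * (b * b) := by rw [← hab]; group
      _ = 1 := by rw [inv_sq a2, inv_sq b2, one_mul]
  have h7 : orderOf (a * b) = 1 := Nat.eq_one_of_dvd_coprimes (by norm_num) h5 h6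
  rw [orderOf_eq_one_iff, mul_eq_one_iff_eq_inv, inv_inv' b2] at h7
  exact hne h7

theorem quat_center {m : ℕ} (hm : 1 ≤ m) (x : QuaternionGroup (2 ^ m)) (hx : ∀ y, x * y = y * x) : x * x = 1 := by
  have hn : 2 ≤ 2 ^ m := by
    calc 2 = 2 ^ 1 := by norm_num
      _ ≤ 2 ^ m := Nat.pow_le_pow_right (by norm_num) hm
  rcases x with i | i
  · have h := hx (QuaternionGroup.xa 0)
    rw [QuaternionGroup.a_mul_xa, QuaternionGroup.xa_mul_a] at h
    have h1 : (0 : ZMod (2 * 2 ^ m)) - i = 0 + i := by injection h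
    rw [QuaternionGroup.a_mul_a]
    have h2 : i + i = 0 := by
      rw [zero_sub, zero_add] at h1
      nth_rewrite 1 [← h1]; exact neg_add_cancel i
    rw [h2]; rfl
  · exfalso
    have h := hx (QuaternionGroup.a 1)
    rw [QuaternionGroup.a_mul_xa, QuaternionGroup.xa_mul_a] at h
    have h1 : i + 1 = i - 1 := by injection h
    have h2 : ((2 : ℕ) : ZMod (2 * 2 ^ m)) = 0 := by
      push_cast
      linear_combination h1
    rw [ZMod.natCast_eq_zero_iff] at h2
    have := Nat.le_of_dvd (by norm_num) h2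
    omega

theorem C2.case_I [Nontrivial G] {S : Sylow 2 G} (c : C2 S) {a x γ : G} (a2 : orderOf a = 2) (haS : a ∈ (S : Subgroup G))
    (hac : ∀ s ∈ (S : Subgroup G), s * a = a * s) (hxS : x ∈ (S : Subgroup G)) (hx : x * x = a)
    (hbS : γ * a * γ⁻¹ ∈ (S : Subgroup G)) (hne : γ * a * γ⁻¹ ≠ a) (hbx : ¬ (γ * a * γ⁻¹) * x = x * (γ * a * γ⁻¹)) :
    DStr S := by
  have : Fact (Nat.Prime 2) := ⟨Nat.prime_two⟩
  have nc := c.nc
  have memS : ∀ g : G, g * a = a * g ↔ g ∈ (S : Subgroup G) := fun g => ⟨c.cent a haS a2 hac g, hac g⟩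
  obtain ⟨b, hb⟩ : ∃ b, b = γ * a * γ⁻¹ := ⟨_, rfl⟩
  obtain ⟨y, hy⟩ : ∃ y, y = γ * x * γ⁻¹ := ⟨_, rfl⟩
  rw [← hb] at hbS hne hbx
  have b2 : orderOf b = 2 := by rw [hb, orderOf_conj', a2]
  have haa := inv_sq a2
  have hbb := inv_sq b2
  have hai := inv_inv' a2
  have hbi := inv_inv' b2
  have hab : a * b = b * a := (hac b hbS).symm
  have hyy : y * y = b := by rw [hy, hb, ← hx]; group
  have hba : b * a = a * b := hab.symm
  -- b inverts x
  have ibx : b * x * b⁻¹ = x⁻¹ := (sgn nc a2 hx (hac b hbS)).resolve_left hbx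
  have hxa : x⁻¹ = x * a := by
    rw [inv_eq_iff_mul_eq_one, ← mul_assoc, hx, haa]
  have hax : a * x = x * a := (hac x hxS).symm
  -- a inverts y
  have hay : ¬ a * y = y * a := by
    intro h
    have hyS : y ∈ (S : Subgroup G) := (memS y).1 h.symm
    apply hbx
    rw [← hyy]
    rcases sgn nc a2 hx (hac y hyS) with h1 | h1
    · exact Commute.mul_left h1 h1
    · rw [← mul_inv_eq_iff_eq_mul]
      calc y * y * x * (y * y)⁻¹ = y * (y * x * y⁻¹) * y⁻¹ := by group
        _ = y * x⁻¹ * y⁻¹ := by rw [h1]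
        _ = (y * x * y⁻¹)⁻¹ := by group
        _ = x := by rw [h1, inv_inv]
  have iay : a * y * a⁻¹ = y⁻¹ := (sgn nc b2 hyy hab).resolve_left hay
  have hyb : y⁻¹ = y * b := by
    rw [inv_eq_iff_mul_eq_one, ← mul_assoc, hyy, hbb]
  have hby : b * y = y * b := by rw [← hyy]; group
  -- the action on V
  have xb : x * b * x⁻¹ = a * b := by
    have h1 : b * x = x⁻¹ * b := by rw [← ibx]; group
    have h2 : x * b = a * b * x := by
      have h3 : x * (b * x) = b := by rw [h1]; group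
      have h4 : a * b * x = a * (x⁻¹ * b) := by rw [← h1]; group
      rw [h4, hxa, ← mul_assoc, ← hax, ← mul_assoc, haa, one_mul]
    rw [h2, mul_inv_cancel_right]
  have xa' : x * a * x⁻¹ = a := by rw [← hax, mul_inv_cancel_right]
  have ya : y * a * y⁻¹ = b * a := by
    have h1 : a * y = y⁻¹ * a := by rw [← iay]; group
    have h2 : y * a = b * a * y := by
      have h4 : b * a * y = b * (y⁻¹ * a) := by rw [← h1]; group
      rw [h4, hyb, ← mul_assoc, ← hby, ← mul_assoc, hbb, one_mul]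
    rw [h2, mul_inv_cancel_right]
  have yb' : y * b * y⁻¹ = b := by rw [← hby, mul_inv_cancel_right]
  have ga : (x * y) * a * (x * y)⁻¹ = b := by
    calc (x * y) * a * (x * y)⁻¹ = x * (y * a * y⁻¹) * x⁻¹ := by group
      _ = (x * b * x⁻¹) * (x * a * x⁻¹) := by rw [ya]; group
      _ = a * b * a := by rw [xb, xa']
      _ = b := by rw [hab, mul_assoc, haa, mul_one]
  have gb : (x * y) * b * (x * y)⁻¹ = a * b := by
    calc (x * y) * b * (x * y)⁻¹ = x * (y * b * y⁻¹) * x⁻¹ := by group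
      _ = a * b := by rw [yb', xb]
  obtain ⟨ρ, hρ, hρ3, hρa, hρb⟩ := exists_rho (S := S) hab (fun g hg => (memS g).1 hg) ga gb haa
  -- C_S(b) = V
  have hV0 : ∀ d : G, d * a = a * d → d * x = x * d → d * y = y * d → d ∈ (S : Subgroup G) → d = 1 := by
    intro d hda hdx hdy hdS
    by_contra hd1
    obtain ⟨v, hv, hv2⟩ := exists_inv_of_two S.isPGroup' hdS hd1
    have h1 : v * (x * y) = (x * y) * v := Commute.mul_right (commute_zpowers hdx hv) (commute_zpowers hdy hv)
    exact no_comm_rho nc a2 hab hne.symm b2 hρ3 hρa hv2 (commute_zpowers hda hv) (commute_zpowers h1.symm hρ).symm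
  have ibx' : b * x = x⁻¹ * b := by rw [← ibx]; group
  have iay' : a * y = y⁻¹ * a := by rw [← iay]; group
  have hV : ∀ d ∈ (S : Subgroup G), d * b = b * d → d = 1 ∨ d = a ∨ d = b ∨ d = a * b := by
    intro d hdS hdb
    have hda := hac d hdS
    have e1 := sgn nc a2 hx hda
    have e2 := sgn nc b2 hyy hdb
    -- inverse relations
    have key : ∀ v : G, v ∈ (S : Subgroup G) → v * a = a * v → (d * v) * x = x * (d * v) → (d * v) * y = y * (d * v) → d * v = 1 :=
      fun v hvS hva h1 h2 => hV0 _ (Commute.mul_left hda hva) h1 h2 (mul_mem hdS hvS)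
    have ix : ∀ e : G, e * x * e⁻¹ = x⁻¹ → (e * b) * x = x * (e * b) := by
      intro e he
      have h1 : e * x⁻¹ * e⁻¹ = x := by
        have : e * x⁻¹ * e⁻¹ = (e * x * e⁻¹)⁻¹ := by group
        rw [this, he, inv_inv]
      calc (e * b) * x = (e * x⁻¹ * e⁻¹) * e * b := by rw [mul_assoc, ibx']; group
        _ = x * (e * b) := by rw [h1, mul_assoc]
    have iy : ∀ e : G, e * y * e⁻¹ = y⁻¹ → (e * a) * y = y * (e * a) := by
      intro e he
      have h1 : e * y⁻¹ * e⁻¹ = y := by
        have : e * y⁻¹ * e⁻¹ = (e * y * e⁻¹)⁻¹ := by group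
        rw [this, he, inv_inv]
      calc (e * a) * y = (e * y⁻¹ * e⁻¹) * e * a := by rw [mul_assoc, iay']; group
        _ = y * (e * a) := by rw [h1, mul_assoc]
    have ca : Commute a x := hax
    have cb : Commute b y := hby
    rcases e1 with e1 | e1 <;> rcases e2 with e2 | e2
    · left
      have := key 1 (one_mem _) (by group) (by rw [mul_one]; exact e1) (by rw [mul_one]; exact e2)
      rwa [mul_one] at this
    · right; left
      have := key a haS rfl (Commute.mul_left e1 hax) (iy d e2)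
      rw [mul_eq_one_iff_eq_inv, hai] at this; exact this
    · right; right; left
      have := key b hbS hba (ix d e1) (Commute.mul_left e2 hby)
      rw [mul_eq_one_iff_eq_inv, hbi] at this; exact this
    · right; right; right
      have h1 : (d * (a * b)) * x = x * (d * (a * b)) := by
        rw [hab, ← mul_assoc]
        exact Commute.mul_left (ix d e1) hax
      have h2 : (d * (a * b)) * y = y * (d * (a * b)) := by
        rw [← mul_assoc]
        exact Commute.mul_left (iy d e2) hby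
      have := key (a * b) (mul_mem haS hbS) (Commute.mul_left (Commute.refl a) hba) h1 h2
      rw [mul_eq_one_iff_eq_inv, mul_inv_rev, hai, hbi] at this
      rw [this, hba]
  -- C_{S1}(b) = {1, a}
  have habx : ¬ (a * b) * x = x * (a * b) := by
    intro h
    apply hbx
    have h1 : b = a⁻¹ * (a * b) := by group
    have : Commute b x := by rw [h1]; exact ((show Commute a x from hax).inv_left).mul_left h
    exact this
  have hC1 : ∀ d ∈ (S : Subgroup G), d * x = x * d → d * b = b * d → d = 1 ∨ d = a := by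
    intro d hdS hdx hdb
    rcases hV d hdS hdb with h | h | h | h
    · exact Or.inl h
    · exact Or.inr h
    · exact absurd (h ▸ hdx) hbx
    · exact absurd (h ▸ hdx) habx
  have commb : ∀ d : G, b * d * b⁻¹ = d → d * b = b * d := by
    intro d h; rw [mul_inv_eq_iff_eq_mul] at h; exact h.symm
  -- b normalizes S1
  have nb : ∀ d : G, d * x = x * d → (b * d * b⁻¹) * x = x * (b * d * b⁻¹) := by
    intro d hd
    have h1 : Commute d x⁻¹ := (show Commute d x from hd).inv_right
    have h2 : x = b * x⁻¹ * b⁻¹ := by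
      have : b * x⁻¹ * b⁻¹ = (b * x * b⁻¹)⁻¹ := by group
      rw [this, ibx, inv_inv]
    calc (b * d * b⁻¹) * x = b * (d * x⁻¹) * b⁻¹ := by nth_rewrite 1 [h2]; group
      _ = b * (x⁻¹ * d) * b⁻¹ := by rw [h1.eq]
      _ = (b * x⁻¹ * b⁻¹) * (b * d * b⁻¹) := by group
      _ = _ := by rw [← h2]
  -- unique involution of S1
  have huniq : ∀ v ∈ (S : Subgroup G), v * x = x * v → orderOf v = 2 → v = a := by
    intro v hvS hvx hv2
    have hvv := inv_sq hv2
    have hvi := inv_inv' hv2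
    obtain ⟨u, hu⟩ : ∃ u, u = v * (b * v * b⁻¹) := ⟨_, rfl⟩
    have huS : u ∈ (S : Subgroup G) := by
      rw [hu]; exact mul_mem hvS (mul_mem (mul_mem hbS hvS) (inv_mem hbS))
    have hux : u * x = x * u := by rw [hu]; exact Commute.mul_left hvx (nb v hvx)
    have huinv : u⁻¹ = (b * v * b⁻¹) * v := by
      rw [hu, mul_inv_rev, hvi]
      have : (b * v * b⁻¹)⁻¹ = b * v⁻¹ * b⁻¹ := by group
      rw [this, hvi]
    have hbu : b * u * b⁻¹ = u⁻¹ := by
      rw [huinv, hu]
      calc b * (v * (b * v * b⁻¹)) * b⁻¹ = (b * v * b⁻¹) * (b * b) * v * (b⁻¹ * b⁻¹) := by group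
        _ = _ := by rw [hbb, ← mul_inv_rev, hbb]; group
    have hvu : v * u * v⁻¹ = u⁻¹ := by
      rw [huinv, hu, hvi, ← mul_assoc, hvv, one_mul]
    have hpow : ∀ k : ℤ, b * (u ^ k) * b⁻¹ = (u ^ k)⁻¹ := by
      intro k; rw [← conj_zpow, hbu, inv_zpow]
    have hpowv : ∀ k : ℤ, v * (u ^ k) * v⁻¹ = (u ^ k)⁻¹ := by
      intro k; rw [← conj_zpow, hvu, inv_zpow]
    by_cases hu1 : u = 1
    · have h1 : v * b = b * v := by
        apply commb
        rw [hu, mul_eq_one_iff_inv_eq, hvi] at hu1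
        exact hu1.symm
      exact (hC1 v hvS hvx h1).resolve_left (inv_ne hv2)
    -- involutions in ⟨u⟩
    have hinv : ∀ f ∈ zpowers u, orderOf f = 2 → f = a := by
      intro f hf hf2
      obtain ⟨k, hk⟩ := mem_zpowers_iff.1 hf
      have h1 := hpow k
      rw [hk, inv_inv' hf2] at h1
      exact (hC1 f ((zpowers_le.2 huS) hf) (commute_zpowers hux hf) (commb f h1)).resolve_left (inv_ne hf2)
    by_cases huu : u * u = 1
    · have hua := hinv u (mem_zpowers u) (inv_of hu1 huu)
      rw [hu, ← eq_inv_mul_iff_mul_eq, hvi] at hua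
      have h1 : b * (x * v) * b⁻¹ = x * v := by
        calc b * (x * v) * b⁻¹ = (b * x * b⁻¹) * (b * v * b⁻¹) := by group
          _ = x * a * (v * a) := by rw [ibx, hua, hxa]
          _ = x * (a * v) * a := by group
          _ = x * (v * a) * a := by rw [hac v hvS]
          _ = x * v * (a * a) := by group
          _ = x * v := by rw [haa, mul_one]
      rcases hC1 (x * v) (mul_mem hxS hvS) (Commute.mul_left (Commute.refl x) hvx) (commb _ h1) with h2 | h2
      · exfalso
        rw [mul_eq_one_iff_eq_inv, hvi] at h2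
        rw [← h2] at hvv
        exact inv_ne a2 (hx ▸ hvv)
      · exfalso
        have h3 : v = x := by
          have : v = x⁻¹ * a := by rw [← h2]; group
          rw [this, hxa, mul_assoc, haa, mul_one]
        rw [h3] at hvv
        exact inv_ne a2 (hx ▸ hvv)
    · exfalso
      obtain ⟨u', hu', hu'2⟩ := exists_sqrt huS huu
      have h1 := hinv _ (mul_mem hu' hu') hu'2
      have hu'x := commute_zpowers hux hu'
      obtain ⟨k, hk⟩ := mem_zpowers_iff.1 hu'
      have hbu' := hpow k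
      have hvu' := hpowv k
      rw [hk] at hbu' hvu'
      have e0 : (u' * x⁻¹) * (u' * x⁻¹) = 1 := by
        have h2 : Commute u' x⁻¹ := (show Commute u' x from hu'x).inv_right
        calc (u' * x⁻¹) * (u' * x⁻¹) = u' * (x⁻¹ * u') * x⁻¹ := by group
          _ = (u' * u') * (x * x)⁻¹ := by rw [← h2.eq]; group
          _ = 1 := by rw [h1, hx, mul_inv_cancel]
      have e1 : b * (u' * x⁻¹) * b⁻¹ = u' * x⁻¹ := by
        have h2 : Commute u'⁻¹ x := (show Commute u' x from hu'x).inv_left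
        calc b * (u' * x⁻¹) * b⁻¹ = (b * u' * b⁻¹) * (b * x * b⁻¹)⁻¹ := by group
          _ = u'⁻¹ * x := by rw [hbu', ibx, inv_inv]
          _ = x * u'⁻¹ := h2.eq
          _ = (u' * x⁻¹)⁻¹ := by group
          _ = u' * x⁻¹ := inv_eq_of_mul_eq_one_right e0
      have e2 : u' * x⁻¹ = 1 ∨ u' * x⁻¹ = a := by
        apply hC1 _ (mul_mem ((zpowers_le.2 huS) hu') (inv_mem hxS)) ?_ (commb _ e1)
        exact Commute.mul_left hu'x (Commute.inv_left (Commute.refl x))
      have e3 : v * u' = u' * v := by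
        rcases e2 with e2 | e2
        · rw [mul_inv_eq_one] at e2; rw [e2]; exact hvx
        · rw [mul_inv_eq_iff_eq_mul] at e2; rw [e2]
          exact Commute.mul_right (hac v hvS) hvx
      rw [e3, mul_inv_cancel_right] at hvu'
      exact not_sq a2 h1 hvu'
  -- S1 is cyclic
  obtain ⟨P, hP⟩ : ∃ P : Subgroup G, P = (S : Subgroup G) ⊓ centralizer {x} := ⟨_, rfl⟩
  have memP : ∀ g, g ∈ P ↔ g ∈ (S : Subgroup G) ∧ g * x = x * g := by
    intro g; rw [hP, mem_inf, mem_centralizer_singleton_iff]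
  have hxP : x ∈ P := (memP x).2 ⟨hxS, rfl⟩
  have hPp : IsPGroup 2 P := S.isPGroup'.to_le (by rw [hP]; exact inf_le_left)
  have hcyc : IsCyclic P := by
    rcases cyclic_or_quaternion hPp (by
      intro u hu v hv hu2 hv2
      rw [memP] at hu hv
      rw [huniq u hu.1 hu.2 hu2, huniq v hv.1 hv.2 hv2]) with h | ⟨m, hm, ⟨e⟩⟩
    · exact h
    · exfalso
      have h1 : e ⟨x, hxP⟩ * e ⟨x, hxP⟩ = 1 := by
        apply quat_center hm
        intro q
        obtain ⟨p, rfl⟩ := e.surjective q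
        rw [← map_mul, ← map_mul]
        congr 1
        apply Subtype.ext
        exact ((memP p).1 p.2).2.symm
      rw [← map_mul, map_eq_one_iff e e.injective] at h1
      have h2 : x * x = 1 := congrArg Subtype.val h1
      exact inv_ne a2 (hx ▸ h2)
  obtain ⟨⟨g, hg⟩, hgen⟩ := hcyc.exists_generator
  have hgen' : ∀ p ∈ P, p ∈ zpowers g := by
    intro p hp
    obtain ⟨k, hk⟩ := mem_zpowers_iff.1 (hgen ⟨p, hp⟩)
    refine mem_zpowers_iff.2 ⟨k, ?_⟩
    have := congrArg Subtype.val hk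
    simpa using this
  have hg' := (memP g).1 hg
  have hbgP : b * g * b⁻¹ ∈ P := (memP _).2 ⟨mul_mem (mul_mem hbS hg'.1) (inv_mem hbS), nb g hg'.2⟩
  have hcg : g * (b * g * b⁻¹) = (b * g * b⁻¹) * g := (commute_zpowers (x := g) (t := g) rfl (hgen' _ hbgP)).symm
  have hfix : g * (b * g * b⁻¹) = 1 ∨ g * (b * g * b⁻¹) = a := by
    apply hC1 _ (mul_mem hg'.1 ((memP _).1 hbgP).1) (Commute.mul_left hg'.2 ((memP _).1 hbgP).2)
    apply commb
    calc b * (g * (b * g * b⁻¹)) * b⁻¹ = (b * g * b⁻¹) * (b * b) * g * (b⁻¹ * b⁻¹) := by group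
      _ = (b * g * b⁻¹) * g := by rw [hbb, ← mul_inv_rev, hbb]; group
      _ = _ := hcg.symm
  have hxg := hgen' x hxP
  have hg1 : ¬ g * g = 1 := by
    intro h
    obtain ⟨k, hk⟩ := mem_zpowers_iff.1 hxg
    have : x * x = 1 := by rw [← hk, ← zpow_add, ← two_mul, zpow_mul, zpow_two, h, one_zpow]
    exact inv_ne a2 (hx ▸ this)
  have hgb : b * g * b⁻¹ = g⁻¹ := by
    rcases hfix with h | h
    · exact eq_inv_of_mul_eq_one_right h
    · exfalso
      have hga : g * a = a * g := hac g hg'.1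
      have hbgb : b * g * b⁻¹ = g⁻¹ * a := by rw [← h]; group
      have hτ : (b * g) * (b * g) = a := by
        calc (b * g) * (b * g) = (b * g * b⁻¹) * (b * b) * g := by group
          _ = g⁻¹ * a * g := by rw [hbb, mul_one, hbgb]
          _ = a := by rw [mul_assoc, ← hga]; group
      rcases sgn nc a2 hτ hga with h1 | h1
      · -- g commutes with b g
        have h2 : g * b = b * g := by
          have : g * b * g = b * g * g := by rw [mul_assoc]; exact h1
          exact mul_right_cancel this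
        rcases hC1 g hg'.1 hg'.2 h2 with h3 | h3
        · apply hg1; rw [h3, one_mul]
        · apply hg1; rw [h3]; exact haa
      · have h2 : g * (b * g) * g⁻¹ = g * b := by group
        rw [h2, mul_inv_rev, hbi] at h1
        have h3 : g = g⁻¹ := mul_right_cancel h1
        exact hg1 (mul_eq_one_iff_eq_inv.2 h3)
  refine ⟨a, b, P, a2, hac, haS, (memP a).2 ⟨haS, hax⟩, b2, hbS, fun h => hbx ((memP b).1 h).2, ?_, ?_, ?_, x, hxP, ?_⟩
  · intro p hp
    obtain ⟨k, rfl⟩ := mem_zpowers_iff.1 (hgen' p hp)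
    rw [← conj_zpow, hgb, inv_zpow]
  · intro g
    rw [memS, memP, memP]
    constructor
    · intro hg
      rcases sgn nc a2 hx (hac g hg) with h | h
      · left; exact ⟨hg, h⟩
      · right
        refine ⟨mul_mem hbS hg, ?_⟩
        have h1 : b * x⁻¹ = x * b := by rw [← ibx, hbi, ← mul_assoc, ← mul_assoc, hbb, one_mul]
        rw [mul_inv_eq_iff_eq_mul] at h
        rw [mul_assoc, h, ← mul_assoc, h1, mul_assoc]
    · rintro (h | h)
      · exact h.1
      · have : g = b⁻¹ * (b * g) := by group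
        rw [this]; exact mul_mem (inv_mem hbS) h.1
  · intro v hv _ hv2
    rw [memP] at hv
    exact huniq v hv.1 hv.2 hv2
  · rw [hx]; exact inv_ne a2

end Cfsg.Agent.H4.RA
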