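import Mathlib
import Cfsg.Agent.H4.RH

set_option autoImplicit false
set_option linter.unusedSectionVars false

/-! Case 2 (II), part alpha. -/

namespace Cfsg.Agent.H4.RA

open Cfsg Subgroup
open scoped commutatorElement

variable {G : Type*} [Group G] [Finite G]

/-- data for the case where fusion of `a` is compatible with the square roots -/
structure C3 (S : Sylow 2 G) (a b x y : G) : Prop extends C2 S where
  a2 : orderOf a = 2
  b2 : orderOf b = 2
  aS : a ∈ (S : Subgroup G)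
  bS : b ∈ (S : Subgroup G)
  ac : ∀ s ∈ (S : Subgroup G), s * a = a * s
  ne : b ≠ a
  xS : x ∈ (S : Subgroup G)
  yS : y ∈ (S : Subgroup G)
  hx : x * x = a
  hy : y * y = b
  bx : b * x = x * b
  xy : x * y = y * x
  hII : ∀ g : G, g * a * g⁻¹ ∈ (S : Subgroup G) → ∀ x' ∈ (S : Subgroup G), x' * x' = a →
    (g * a * g⁻¹) * x' = x' * (g * a * g⁻¹)

namespace C3

variable {S : Sylow 2 G} {a b x y : G}

theorem memS (c : C3 S a b x y) (g : G) : g * a = a * g ↔ g ∈ (S : Subgroup G) := ⟨c.cent a c.aS c.a2 c.ac g, c.ac g⟩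

theorem hab (c : C3 S a b x y) : a * b = b * a := (c.ac b c.bS).symm

theorem ay (c : C3 S a b x y) : a * y = y * a := (c.ac y c.yS).symm

theorem ax (c : C3 S a b x y) : a * x = x * a := (c.ac x c.xS).symm

theorem ab2 (c : C3 S a b x y) : orderOf (a * b) = 2 := by
  apply inv_of
  · intro h; apply c.ne
    rw [mul_eq_one_iff_eq_inv, inv_inv' c.b2] at h; exact h.symm
  · calc a * b * (a * b) = a * (b * a) * b := by group
      _ = (a * a) * (b * b) := by rw [← c.hab]; group
      _ = 1 := by rw [inv_sq c.a2, inv_sq c.b2, one_mul]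

theorem bneab (c : C3 S a b x y) : b ≠ a * b := by
  intro h
  have : a = 1 := by
    have h1 : 1 * b = a * b := by rw [one_mul]; exact h
    exact (mul_right_cancel h1).symm
  exact inv_ne c.a2 this

theorem sx (c : C3 S a b x y) {s : G} (hs : s ∈ (S : Subgroup G)) : s * x = x * s ∨ s * x * s⁻¹ = x⁻¹ :=
  sgn c.nc c.a2 c.hx (c.ac s hs)

theorem not_both (c : C3 S a b x y) {s : G} (h1 : s * x = x * s) (h2 : s * x * s⁻¹ = x⁻¹) : False := by
  rw [h1, mul_inv_cancel_right] at h2
  exact not_sq c.a2 c.hx h2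

theorem mul_sx (c : C3 S a b x y) {s t : G} (h1 : s * x * s⁻¹ = x⁻¹) (h2 : t * x * t⁻¹ = x⁻¹) : (s * t) * x = x * (s * t) := by
  rw [← mul_inv_eq_iff_eq_mul]
  calc s * t * x * (s * t)⁻¹ = s * (t * x * t⁻¹) * s⁻¹ := by group
    _ = s * x⁻¹ * s⁻¹ := by rw [h2]
    _ = (s * x * s⁻¹)⁻¹ := by group
    _ = x := by rw [h1, inv_inv]

/-! ### alpha -/

/-- involutions commuting with `x` and `y` are central -/
theorem alpha_central (c : C3 S a b x y) (hbc : ∀ s ∈ (S : Subgroup G), s * b = b * s) {v : G}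
    (hv2 : orderOf v = 2) (hvx : v * x = x * v) (hvy : v * y = y * v) {s : G} (hs : s ∈ (S : Subgroup G)) : s * v = v * s := by
  have h1 := ii1 c.nc c.a2 c.hx (inv_sq hv2) hvx (c.ac s hs)
  have h2 := ii1 c.nc c.b2 c.hy (inv_sq hv2) hvy (hbc s hs)
  rw [← mul_inv_eq_iff_eq_mul]
  rcases h1 with h1 | h1
  · exact h1
  · rcases h2 with h2 | h2
    · exact h2
    · exfalso
      rw [h1] at h2
      exact c.ne (mul_right_cancel h2).symm

theorem alpha [Nontrivial G] (c : C3 S a b x y) (hbc : ∀ s ∈ (S : Subgroup G), s * b = b * s) : Concl G := by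
  have nc := c.nc
  have haa := inv_sq c.a2
  by_cases hε : ∀ s ∈ (S : Subgroup G), s * x = x * s
  · -- sign trivial
    have hcen : ∀ v ∈ (S : Subgroup G), orderOf v = 2 → ∀ s ∈ (S : Subgroup G), s * v = v * s := by
      intro v hv hv2 s hs
      have hvx := hε v hv
      have hvy := sgn_eq nc c.a2 c.b2 c.hab c.ne.symm c.hx c.hy c.xy (c.ac v hv) (hbc v hv) hvx
      exact c.alpha_central hbc hv2 hvx hvy hs
    apply c.toC2.exp_two hcen
    intro p hp q hq
    apply sylow_comm c.ns S ?_ hp hq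
    intro k hk d hd
    by_cases hk1 : k = 1
    · subst hk1; simp
    obtain ⟨v, hv, hv2⟩ := exists_inv_of_two S.isPGroup' hk hk1
    have hvS : v ∈ (S : Subgroup G) := (zpowers_le.2 hk) hv
    rw [← mem_norm_zpowers, nz_pow nc hv2 hv, mem_centralizer_singleton_iff]
    exact hcen v hvS hv2 d hd
  · exfalso
    push Not at hε
    obtain ⟨s₀, hs₀, hs₀x⟩ := hε
    obtain ⟨D, hD⟩ : ∃ D : Subgroup G, D = (S : Subgroup G) ⊓ centralizer {x} := ⟨_, rfl⟩
    have memD : ∀ g, g ∈ D ↔ g ∈ (S : Subgroup G) ∧ g * x = x * g := by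
      intro g; rw [hD, mem_inf, mem_centralizer_singleton_iff]
    have hDS : D ≤ (S : Subgroup G) := by rw [hD]; exact inf_le_left
    have cy : ∀ s ∈ (S : Subgroup G), s * x = x * s → s * y = y * s := fun s hs h =>
      sgn_eq nc c.a2 c.b2 c.hab c.ne.symm c.hx c.hy c.xy (c.ac s hs) (hbc s hs) h
    have cy' : ∀ s ∈ (S : Subgroup G), s * y = y * s → s * x = x * s := fun s hs h =>
      sgn_eq nc c.b2 c.a2 c.hab.symm c.ne c.hy c.hx c.xy.symm (hbc s hs) (c.ac s hs) h
    have c1 : ∀ v ∈ D, orderOf v = 2 → ∀ s ∈ (S : Subgroup G), s * v = v * s := by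
      intro v hv hv2 s hs
      rw [memD] at hv
      exact c.alpha_central hbc hv2 hv.2 (cy v hv.1 hv.2) hs
    have neg : ∀ s ∈ (S : Subgroup G), s ∉ D → s * x * s⁻¹ = x⁻¹ := fun s hs hsD =>
      (c.sx hs).resolve_left (fun h => hsD ((memD s).2 ⟨hs, h⟩))
    have negy : ∀ s ∈ (S : Subgroup G), s ∉ D → s * y * s⁻¹ = y⁻¹ := by
      intro s hs hsD
      exact (sgn nc c.b2 c.hy (hbc s hs)).resolve_left (fun h => hsD ((memD s).2 ⟨hs, cy' s hs h⟩))
    have hidx : ∀ s ∈ (S : Subgroup G), ∀ t ∈ (S : Subgroup G), s ∉ D → t ∉ D → s * t ∈ D := by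
      intro s hs t ht hsD htD
      exact (memD _).2 ⟨mul_mem hs ht, c.mul_sx (neg s hs hsD) (neg t ht htD)⟩
    have c2 : ∀ s ∈ (S : Subgroup G), s ∉ D → s * s = 1 := by
      intro s hs hsD
      by_contra hss
      have hssD := hidx s hs s hs hsD hsD
      obtain ⟨v, hv, hv2⟩ := exists_inv_of_two S.isPGroup' (mul_mem hs hs) hss
      have hvD : v ∈ D := (zpowers_le.2 hssD) hv
      have hvc := c1 v hvD hv2
      have hvs : v ∈ zpowers s := (zpowers_le.2 (mul_mem (mem_zpowers s) (mem_zpowers s))) hv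
      have hN : ∀ g ∈ (S : Subgroup G), g * s * g⁻¹ ∈ zpowers s := by
        intro g hg
        rw [← mem_norm_zpowers, nz_pow nc hv2 hvs, mem_centralizer_singleton_iff]
        exact hvc g hg
      have ha : a ∈ zpowers s := by
        have h1 : a = (x * s * x⁻¹) * s⁻¹ := by
          have h2 : x * s * x⁻¹ * s⁻¹ = x * (s * x * s⁻¹)⁻¹ := by group
          rw [h2, neg s hs hsD, inv_inv, c.hx]
        rw [h1]; exact mul_mem (hN x c.xS) (inv_mem (mem_zpowers s))
      have hb : b ∈ zpowers s := by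
        have h1 : b = (y * s * y⁻¹) * s⁻¹ := by
          have h2 : y * s * y⁻¹ * s⁻¹ = y * (s * y * s⁻¹)⁻¹ := by group
          rw [h2, negy s hs hsD, inv_inv, c.hy]
        rw [h1]; exact mul_mem (hN y c.yS) (inv_mem (mem_zpowers s))
      exact c.ne (uniq_inv hb ha c.b2 c.a2)
    have hs₀D : s₀ ∉ D := fun h => hs₀x ((memD s₀).1 h).2
    have inv0 : ∀ k ∈ D, s₀ * k * s₀⁻¹ = k⁻¹ := by
      intro k hk
      have h1 : s₀ * k ∉ D := by
        intro h
        apply hs₀D
        have : s₀ = (s₀ * k) * k⁻¹ := by group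
        rw [this]; exact mul_mem h (inv_mem hk)
      have h2 := c2 _ (mul_mem hs₀ (hDS hk)) h1
      have h3 : s₀⁻¹ = s₀ := inv_eq_of_mul_eq_one_right (c2 s₀ hs₀ hs₀D)
      rw [h3]
      apply eq_inv_of_mul_eq_one_left
      rw [← h2]; group
    have hDab : ∀ k ∈ D, ∀ l ∈ D, k * l = l * k := by
      intro k hk l hl
      have h4 : s₀ * (k * l) * s₀⁻¹ = (s₀ * k * s₀⁻¹) * (s₀ * l * s₀⁻¹) := by group
      rw [inv0 _ (mul_mem hk hl), inv0 k hk, inv0 l hl, ← mul_inv_rev, inv_inj] at h4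
      exact h4
    have haD : a ∈ D := (memD a).2 ⟨c.aS, c.ax⟩
    have hxD : x ∈ D := (memD x).2 ⟨c.xS, rfl⟩
    obtain ⟨M, hM, hMD, -⟩ := exists_normal S D hDS hidx (by
      intro k hk g hg
      by_contra hn
      have hu2 := c2 _ hg hn
      have hu1 : g * k * g⁻¹ ≠ 1 := by
        intro h0; exact hn (by rw [h0]; exact one_mem _)
      have huo : orderOf (g * k * g⁻¹) = 2 := inv_of hu1 hu2
      have hko : orderOf k = 2 := by rw [← huo, orderOf_conj']
      have hkc := c1 k hk hko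
      obtain ⟨u, hu⟩ : ∃ u, u = g * k * g⁻¹ := ⟨_, rfl⟩
      rw [← hu] at hn hg
      have hu' : g⁻¹ * u * g = k := by rw [hu]; group
      -- centralizer of u
      have mu : ∀ m : G, m * u = u * m ↔ g⁻¹ * m * g ∈ (S : Subgroup G) := by
        intro m
        have e1 : m * u = u * m ↔ (g⁻¹ * m * g) * k = k * (g⁻¹ * m * g) := by
          rw [hu]
          constructor
          · intro h
            calc (g⁻¹ * m * g) * k = g⁻¹ * (m * (g * k * g⁻¹)) * g := by group
              _ = g⁻¹ * ((g * k * g⁻¹) * m) * g := by rw [h]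
              _ = _ := by group
          · intro h
            calc m * (g * k * g⁻¹) = g * ((g⁻¹ * m * g) * k) * g⁻¹ := by group
              _ = g * (k * (g⁻¹ * m * g)) * g⁻¹ := by rw [h]
              _ = _ := by group
        rw [e1]
        exact ⟨c.cent k (hDS hk) hko hkc _, hkc _⟩
      have hxu : ¬ x * u = u * x := fun h => hn ((memD u).2 ⟨hg, h.symm⟩)
      have key : ∀ t ∈ (S : Subgroup G), orderOf t = 2 → (∀ s ∈ (S : Subgroup G), s * t = t * s) → g⁻¹ * t * g ∉ D := by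
        intro t ht ht2 htc htD
        have h1 : orderOf (g⁻¹ * t * g) = 2 := by
          have := orderOf_conj' g⁻¹ t
          rw [inv_inv] at this; rw [this, ht2]
        have h2 := c1 _ htD h1
        have h3 : x * t = t * x := htc x c.xS
        have h4 : (g⁻¹ * x * g) * (g⁻¹ * t * g) = (g⁻¹ * t * g) * (g⁻¹ * x * g) := by
          calc (g⁻¹ * x * g) * (g⁻¹ * t * g) = g⁻¹ * (x * t) * g := by group
            _ = g⁻¹ * (t * x) * g := by rw [h3]
            _ = _ := by group
        exact hxu ((mu x).2 (c.cent _ (hDS htD) h1 h2 _ h4))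
      have mem' : ∀ t ∈ (S : Subgroup G), (∀ s ∈ (S : Subgroup G), s * t = t * s) → g⁻¹ * t * g ∈ (S : Subgroup G) :=
        fun t ht htc => (mu t).1 (htc u hg).symm
      have ka := key a c.aS c.a2 c.ac
      have kb := key b c.bS c.b2 hbc
      have kab := key (a * b) (mul_mem c.aS c.bS) c.ab2 (fun s hs => Commute.mul_right (c.ac s hs) (hbc s hs))
      apply kab
      have h5 := hidx _ (mem' a c.aS c.ac) _ (mem' b c.bS hbc) ka kb
      have h6 : g⁻¹ * (a * b) * g = g⁻¹ * a * g * (g⁻¹ * b * g) := by group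
      rw [h6]; exact h5)
    refine no_abelian_normal c.ns M ?_ (t := a) (x := x) ((hMD a c.aS).2 haD) c.a2 ((hMD x c.xS).2 hxD) c.ax.symm ?_
    · intro t htM ht2 p hpM q hqM hpt hqt
      obtain ⟨g, hg⟩ := conj_into_top S (g := t) ⟨1, by rw [ht2, pow_one]⟩
      have h1 : g * t * g⁻¹ ∈ D := (hMD _ hg).1 (hM.conj_mem t htM g)
      have hto : orderOf (g * t * g⁻¹) = 2 := by rw [orderOf_conj', ht2]
      have hc : ∀ p ∈ M, p * t = t * p → g * p * g⁻¹ ∈ D := by
        intro p hpM hp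
        have h2 : g * p * g⁻¹ ∈ (S : Subgroup G) := by
          apply c.cent _ hg hto (c1 _ h1 hto)
          calc g * p * g⁻¹ * (g * t * g⁻¹) = g * (p * t) * g⁻¹ := by group
            _ = g * (t * p) * g⁻¹ := by rw [hp]
            _ = _ := by group
        exact (hMD _ h2).1 (hM.conj_mem p hpM g)
      have h3 := hDab _ (hc p hpM hpt) _ (hc q hqM hqt)
      have h4 : g * (p * q) * g⁻¹ = g * (q * p) * g⁻¹ := by
        calc g * (p * q) * g⁻¹ = g * p * g⁻¹ * (g * q * g⁻¹) := by group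
          _ = g * q * g⁻¹ * (g * p * g⁻¹) := h3
          _ = _ := by group
      exact mul_left_cancel (mul_right_cancel h4)
    · rw [c.hx]; exact inv_ne c.a2

end C3

end Cfsg.Agent.H4.RA
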