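import Mathlib
import Cfsg.Agent.H4.RI

set_option autoImplicit false
set_option linter.unusedSectionVars false

/-! Case 2 (II), part beta. -/

namespace Cfsg.Agent.H4.RA

open Cfsg Subgroup
open scoped commutatorElement

variable {G : Type*} [Group G] [Finite G]

theorem fixfree_card {ρ : G} (h3 : ρ ^ 3 = 1) (E : Set G) (hE : ∀ e ∈ E, ρ * e * ρ⁻¹ ∈ E)
    (hfix : ∀ e ∈ E, ρ * e * ρ⁻¹ ≠ e) : 3 ∣ Nat.card E := by
  classical
  have : Fact (Nat.Prime 3) := ⟨Nat.prime_three⟩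
  have : Fintype E := Fintype.ofFinite E
  let f : Function.End E := fun e => ⟨ρ * e * ρ⁻¹, hE e e.2⟩
  have hf3 : f ^ 3 ^ 1 = 1 := by
    funext e
    apply Subtype.ext
    change ρ * (ρ * (ρ * e * ρ⁻¹) * ρ⁻¹) * ρ⁻¹ = e
    calc ρ * (ρ * (ρ * (e : G) * ρ⁻¹) * ρ⁻¹) * ρ⁻¹ = ρ ^ 3 * e * (ρ ^ 3)⁻¹ := by
          rw [pow_succ, pow_succ, pow_one]; group
      _ = e := by rw [h3]; group
  have h1 := Equiv.Perm.card_fixedPoints_modEq (f := f) (p := 3) (n := 1) hf3
  have h2 : Fintype.card (Function.fixedPoints f) = 0 := by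
    rw [Fintype.card_eq_zero_iff]
    refine ⟨fun e => ?_⟩
    have h3 : f e.1 = e.1 := e.2
    exact hfix e.1 e.1.2 (congrArg Subtype.val h3)
  rw [h2] at h1
  rw [Nat.card_eq_fintype_card]
  exact (Nat.modEq_zero_iff_dvd).1 h1

namespace C3

variable {S : Sylow 2 G} {a b x y : G}

theorem beta [Nontrivial G] (c : C3 S a b x y) {s₁ s₂ : G} (hs₁ : s₁ ∈ (S : Subgroup G)) (hs₁b : ¬ s₁ * b = b * s₁)
    (hs₂b : s₂ * b = b * s₂) (hs₂ : s₂ ∉ (S : Subgroup G)) : False := by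
  have nc := c.nc
  have haa := inv_sq c.a2
  have hbb := inv_sq c.b2
  have hab := c.hab
  have a2 := c.a2
  have b2 := c.b2
  have memS := c.memS
  have hbab := c.bneab
  -- s₁ and s₂
  have h1b : s₁ * b * s₁⁻¹ = a * b := by
    rcases ii1 nc a2 c.hx hbb c.bx (c.ac s₁ hs₁) with h | h
    · rw [mul_inv_eq_iff_eq_mul] at h; exact absurd h hs₁b
    · exact h
  have hs₂a : ¬ s₂ * a = a * s₂ := fun h => hs₂ ((memS s₂).1 h)
  have h2a : s₂ * a * s₂⁻¹ = b * a := by
    rcases ii1 nc b2 c.hy haa c.ay hs₂b with h | h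
    · rw [mul_inv_eq_iff_eq_mul] at h; exact absurd h hs₂a
    · exact h
  have h1a : s₁ * a * s₁⁻¹ = a := by rw [c.ac s₁ hs₁, mul_inv_cancel_right]
  have h2b : s₂ * b * s₂⁻¹ = b := by rw [hs₂b, mul_inv_cancel_right]
  have ga : (s₁ * s₂) * a * (s₁ * s₂)⁻¹ = b := by
    calc (s₁ * s₂) * a * (s₁ * s₂)⁻¹ = s₁ * (s₂ * a * s₂⁻¹) * s₁⁻¹ := by group
      _ = (s₁ * b * s₁⁻¹) * (s₁ * a * s₁⁻¹) := by rw [h2a]; group
      _ = a * b * a := by rw [h1b, h1a]
      _ = b := by rw [hab, mul_assoc, haa, mul_one]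
  have gb : (s₁ * s₂) * b * (s₁ * s₂)⁻¹ = a * b := by
    calc (s₁ * s₂) * b * (s₁ * s₂)⁻¹ = s₁ * (s₂ * b * s₂⁻¹) * s₁⁻¹ := by group
      _ = a * b := by rw [h2b, h1b]
  obtain ⟨ρ, -, hρ3, hρa, hρb⟩ := exists_rho (S := S) hab (fun g hg => (memS g).1 hg) ga gb haa
  have hρc : ρ * (a * b) * ρ⁻¹ = a := by
    calc ρ * (a * b) * ρ⁻¹ = (ρ * a * ρ⁻¹) * (ρ * b * ρ⁻¹) := by group
      _ = b * (a * b) := by rw [hρa, hρb]
      _ = a * (b * b) := by rw [← mul_assoc, ← hab, mul_assoc]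
      _ = a := by rw [hbb, mul_one]
  -- the subgroup D
  obtain ⟨D, hD⟩ : ∃ D : Subgroup G, D = centralizer {a} ⊓ centralizer {b} := ⟨_, rfl⟩
  have memD : ∀ g, g ∈ D ↔ g * a = a * g ∧ g * b = b * g := by
    intro g; rw [hD, mem_inf, mem_centralizer_singleton_iff, mem_centralizer_singleton_iff]
  have hDS : D ≤ (S : Subgroup G) := fun g hg => (memS g).1 ((memD g).1 hg).1
  have hDS' : ∀ g ∈ (S : Subgroup G), g * b = b * g → g ∈ D := fun g hg h => (memD g).2 ⟨c.ac g hg, h⟩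
  have haD : a ∈ D := (memD a).2 ⟨rfl, hab⟩
  have hbD : b ∈ D := (memD b).2 ⟨hab.symm, rfl⟩
  have hDp : IsPGroup 2 D := S.isPGroup'.to_le hDS
  have hxD : x ∈ D := hDS' x c.xS c.bx.symm
  have hyD : y ∈ D := hDS' y c.yS (by rw [← c.hy]; group)
  have nD : ∀ d ∈ D, ρ * d * ρ⁻¹ ∈ D := by
    intro d hd
    rw [memD] at hd ⊢
    have conj : ∀ u v : G, u * v = v * u → (ρ * u * ρ⁻¹) * (ρ * v * ρ⁻¹) = (ρ * v * ρ⁻¹) * (ρ * u * ρ⁻¹) := by
      intro u v h
      calc (ρ * u * ρ⁻¹) * (ρ * v * ρ⁻¹) = ρ * (u * v) * ρ⁻¹ := by group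
        _ = ρ * (v * u) * ρ⁻¹ := by rw [h]
        _ = _ := by group
    constructor
    · have := conj d (a * b) (Commute.mul_right hd.1 hd.2)
      rw [hρc] at this; exact this
    · have := conj d a hd.1
      rw [hρa] at this; exact this
  have nofix : ∀ d ∈ D, d ≠ 1 → ρ * d * ρ⁻¹ ≠ d := by
    intro d hd hd1 h
    obtain ⟨v, hv, hv2⟩ := exists_inv_of_two hDp hd hd1
    have h1 : d * ρ = ρ * d := by rw [mul_inv_eq_iff_eq_mul] at h; exact h.symm
    exact no_comm_rho nc a2 hab c.ne.symm b2 hρ3 hρa hv2 (commute_zpowers ((memD d).1 hd).1 hv) (commute_zpowers h1 hv)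
  -- the sign is trivial on D
  have hx1 : (ρ * x * ρ⁻¹) * (ρ * x * ρ⁻¹) = b := by
    rw [← hρa, ← c.hx]; group
  have hx1D := nD x hxD
  have hxx1 : x * (ρ * x * ρ⁻¹) = (ρ * x * ρ⁻¹) * x := by
    apply comm_of_disj_inv (S := S) c.xS
    · rw [← mem_norm_zpowers, nz_pow nc b2 (by rw [← hx1]; exact mul_mem (mem_zpowers _) (mem_zpowers _)),
        mem_centralizer_singleton_iff]
      exact ((memD x).1 hxD).2
    · rw [← mem_norm_zpowers, nz_pow nc a2 (by rw [← c.hx]; exact mul_mem (mem_zpowers _) (mem_zpowers _)),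
        mem_centralizer_singleton_iff]
      exact ((memD _).1 hx1D).1
    · intro v hv2 hv hv'
      apply c.ne
      rw [uniq_inv (x := ρ * x * ρ⁻¹) (by rw [← hx1]; exact mul_mem (mem_zpowers _) (mem_zpowers _)) hv' b2 hv2]
      exact uniq_inv hv (by rw [← c.hx]; exact mul_mem (mem_zpowers _) (mem_zpowers _)) hv2 a2
  have hsx : ∀ d ∈ D, d * x = x * d := by
    by_contra hcon
    push Not at hcon
    obtain ⟨e, heD, hex⟩ := hcon
    obtain ⟨D1, hD1⟩ : ∃ D1 : Subgroup G, D1 = D ⊓ centralizer {x} := ⟨_, rfl⟩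
    have memD1 : ∀ g, g ∈ D1 ↔ g ∈ D ∧ g * x = x * g := by
      intro g; rw [hD1, mem_inf, mem_centralizer_singleton_iff]
    have hneg : ∀ d ∈ D, ¬ d * x = x * d → d * x * d⁻¹ = x⁻¹ := fun d hd h => (c.sx (hDS hd)).resolve_left h
    obtain ⟨E, hE⟩ : ∃ E : Set G, E = {d : G | d ∈ D ∧ ¬ d * x = x * d} := ⟨_, rfl⟩
    have memE : ∀ d, d ∈ E ↔ d ∈ D ∧ ¬ d * x = x * d := by intro d; rw [hE]; rfl
    have h3 : 3 ∣ Nat.card E := by
      apply fixfree_card hρ3
      · intro d hd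
        rw [hE] at hd ⊢
        obtain ⟨hd, hdx⟩ := hd
        refine ⟨nD d hd, fun h => hdx ?_⟩
        have hd' := (memD _).1 (nD d hd)
        have h4 := sgn_eq nc a2 b2 hab c.ne.symm c.hx hx1 hxx1 hd'.1 hd'.2 h
        have h5 : ρ * (d * x) * ρ⁻¹ = ρ * (x * d) * ρ⁻¹ := by
          calc ρ * (d * x) * ρ⁻¹ = (ρ * d * ρ⁻¹) * (ρ * x * ρ⁻¹) := by group
            _ = (ρ * x * ρ⁻¹) * (ρ * d * ρ⁻¹) := h4
            _ = _ := by group
        exact mul_left_cancel (mul_right_cancel h5)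
      · intro d hd
        rw [hE] at hd
        exact nofix d hd.1 (fun h => hd.2 (by rw [h, one_mul, mul_one]))
    have h4 : Nat.card E = Nat.card D1 := by
      apply Nat.card_congr
      refine ⟨fun d => ⟨e * d, ?_⟩, fun d => ⟨e⁻¹ * d, ?_⟩, fun d => ?_, fun d => ?_⟩
      · have hd := (memE _).1 d.2
        exact (memD1 _).2 ⟨mul_mem heD hd.1, c.mul_sx (hneg e heD hex) (hneg d hd.1 hd.2)⟩
      · have hd := (memD1 _).1 d.2
        rw [memE]
        refine ⟨mul_mem (inv_mem heD) hd.1, fun h => hex ?_⟩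
        have h5 : Commute (e⁻¹ * d) x := h
        have h6 : e = d * (e⁻¹ * d)⁻¹ := by group
        have h7 : Commute e x := by
          rw [h6]; exact Commute.mul_left hd.2 h5.inv_left
        exact h7
      · apply Subtype.ext; change e⁻¹ * (e * d) = d; group
      · apply Subtype.ext; change e * (e⁻¹ * d) = d; group
    rw [h4] at h3
    have : Fact (Nat.Prime 2) := ⟨Nat.prime_two⟩
    obtain ⟨n, hn⟩ := (IsPGroup.iff_card).1 (hDp.to_le (show D1 ≤ D by rw [hD1]; exact inf_le_left))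
    rw [hn] at h3
    have := Nat.Prime.dvd_of_dvd_pow Nat.prime_three h3
    omega
  have hsy : ∀ d ∈ D, d * y = y * d := fun d hd =>
    sgn_eq nc a2 b2 hab c.ne.symm c.hx c.hy c.xy ((memD d).1 hd).1 ((memD d).1 hd).2 (hsx d hd)
  -- coset decompositions
  have covS : ∀ s ∈ (S : Subgroup G), s ∈ D ∨ s₁⁻¹ * s ∈ D := by
    intro s hs
    rcases ii1 nc a2 c.hx hbb c.bx (c.ac s hs) with h | h
    · left; rw [mul_inv_eq_iff_eq_mul] at h; exact hDS' s hs h
    · right
      apply hDS' _ (mul_mem (inv_mem hs₁) hs)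
      rw [mul_inv_eq_iff_eq_mul] at h
      calc s₁⁻¹ * s * b = s₁⁻¹ * (s * b) := by group
        _ = s₁⁻¹ * (s₁ * b * s₁⁻¹ * s) := by rw [h, h1b]
        _ = _ := by group
  -- involutions of D
  have hDv : ∀ v ∈ D, orderOf v = 2 → ∀ d ∈ D, d * v = v * d := by
    intro v hv hv2 d hd
    have e1 := ii1 nc a2 c.hx (inv_sq hv2) (hsx v hv) ((memD d).1 hd).1
    have e2 := ii1 nc b2 c.hy (inv_sq hv2) (hsy v hv) ((memD d).1 hd).2
    rw [← mul_inv_eq_iff_eq_mul]
    rcases e1 with e1 | e1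
    · exact e1
    · rcases e2 with e2 | e2
      · exact e2
      · exfalso
        rw [e1] at e2
        exact c.ne (mul_right_cancel e2).symm
  have hΩ : ∀ v ∈ D, orderOf v = 2 → v = a ∨ v = b ∨ v = a * b := by
    intro v hv hv2
    by_contra hcon
    push Not at hcon
    obtain ⟨hva, hvb, hvab⟩ := hcon
    have hvv := inv_sq hv2
    have hva' : v * a = a * v := ((memD v).1 hv).1
    have hvb' : v * b = b * v := ((memD v).1 hv).2
    -- an element central in S
    obtain ⟨v₁, hv₁D, hv₁2, hv₁ne, hv₁s⟩ : ∃ v₁ ∈ D, orderOf v₁ = 2 ∧ v₁ ≠ a ∧ s₁ * v₁ = v₁ * s₁ := by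
      rcases ii1 nc a2 c.hx hvv (hsx v hv) (c.ac s₁ hs₁) with h | h
      · exact ⟨v, hv, hv2, hva, by rw [mul_inv_eq_iff_eq_mul] at h; exact h⟩
      · refine ⟨b * v, mul_mem hbD hv, ?_, ?_, ?_⟩
        · apply inv_of
          · intro h0; apply hvb
            rw [mul_eq_one_iff_inv_eq, inv_inv' b2] at h0; exact h0.symm
          · calc b * v * (b * v) = b * (v * b) * v := by group
              _ = (b * b) * (v * v) := by rw [hvb']; group
              _ = 1 := by rw [hbb, hvv, one_mul]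
        · intro h0
          apply hvab
          rw [← h0]
          calc v = v * (b * b) := by rw [hbb, mul_one]
            _ = (v * b) * b := by group
            _ = b * v * b := by rw [hvb']
        · rw [← mul_inv_eq_iff_eq_mul]
          calc s₁ * (b * v) * s₁⁻¹ = (s₁ * b * s₁⁻¹) * (s₁ * v * s₁⁻¹) := by group
            _ = a * b * (a * v) := by rw [h1b, h]
            _ = (a * (b * a)) * v := by group
            _ = (a * a) * b * v := by rw [← hab]; group
            _ = b * v := by rw [haa, one_mul]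
    have hv₁S : ∀ s ∈ (S : Subgroup G), s * v₁ = v₁ * s := by
      intro s hs
      rcases covS s hs with h | h
      · exact hDv v₁ hv₁D hv₁2 s h
      · have h5 : s = s₁ * (s₁⁻¹ * s) := by group
        rw [h5]
        exact Commute.mul_left hv₁s (hDv v₁ hv₁D hv₁2 _ h)
    have hv₁b : v₁ * b = b * v₁ := ((memD v₁).1 hv₁D).2
    rcases ii1 nc b2 c.hy (inv_sq hv₁2) (hsy v₁ hv₁D) hs₂b with h | h
    · exact hs₂ (c.cent v₁ (hDS hv₁D) hv₁2 hv₁S s₂ (by rw [mul_inv_eq_iff_eq_mul] at h; exact h))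
    · apply hs₂
      apply c.cent (a * v₁) (mul_mem c.aS (hDS hv₁D)) ?_ (fun s hs => Commute.mul_right (c.ac s hs) (hv₁S s hs)) s₂ ?_
      · have hv₁a : v₁ * a = a * v₁ := ((memD v₁).1 hv₁D).1
        apply inv_of
        · intro h0; apply hv₁ne
          rw [mul_eq_one_iff_inv_eq, inv_inv' a2] at h0; exact h0.symm
        · calc a * v₁ * (a * v₁) = a * (v₁ * a) * v₁ := by group
            _ = (a * a) * (v₁ * v₁) := by rw [hv₁a]; group
            _ = 1 := by rw [haa, inv_sq hv₁2, one_mul]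
      · rw [← mul_inv_eq_iff_eq_mul]
        calc s₂ * (a * v₁) * s₂⁻¹ = (s₂ * a * s₂⁻¹) * (s₂ * v₁ * s₂⁻¹) := by group
          _ = b * a * (b * v₁) := by rw [h2a, h]
          _ = (b * (a * b)) * v₁ := by group
          _ = (b * b) * a * v₁ := by rw [hab]; group
          _ = a * v₁ := by rw [hbb, one_mul]
  -- D abelian
  have hDab : ∀ p ∈ D, ∀ q ∈ D, p * q = q * p := by
    intro p hp q hq
    apply comm_of_moved hDp ?_ ?_ hp hq
    · intro k hk d hd
      by_cases hk1 : k = 1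
      · subst hk1; simp
      obtain ⟨v, hv, hv2⟩ := exists_inv_of_two hDp hk hk1
      rw [← mem_norm_zpowers, nz_pow nc hv2 hv, mem_centralizer_singleton_iff]
      exact hDv v ((zpowers_le.2 hk) hv) hv2 d hd
    · intro v hv hv2
      refine ⟨ρ, nD, ?_⟩
      exact nofix v hv (inv_ne hv2)
  have sb : ∀ s ∈ (S : Subgroup G), s ∉ D → s * b * s⁻¹ = a * b := by
    intro s hs hsD
    rcases ii1 nc a2 c.hx hbb c.bx (c.ac s hs) with h | h
    · rw [mul_inv_eq_iff_eq_mul] at h; exact absurd (hDS' s hs h) hsD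
    · exact h
  have hidx : ∀ s ∈ (S : Subgroup G), ∀ t ∈ (S : Subgroup G), s ∉ D → t ∉ D → s * t ∈ D := by
    intro s hs t ht hsD htD
    apply hDS' _ (mul_mem hs ht)
    rw [← mul_inv_eq_iff_eq_mul]
    calc s * t * b * (s * t)⁻¹ = s * (t * b * t⁻¹) * s⁻¹ := by group
      _ = (s * a * s⁻¹) * (s * b * s⁻¹) := by rw [sb t ht htD]; group
      _ = a * (a * b) := by rw [c.ac s hs, mul_inv_cancel_right, sb s hs hsD]
      _ = b := by rw [← mul_assoc, haa, one_mul]
  have nDS : ∀ m ∈ (S : Subgroup G), ∀ d ∈ D, m * d * m⁻¹ ∈ D := by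
    intro m hm d hd
    rcases covS m hm with h | h
    · exact mul_mem (mul_mem h hd) (inv_mem h)
    · by_cases hmD : m ∈ D
      · exact mul_mem (mul_mem hmD hd) (inv_mem hmD)
      · have h1 : d * m⁻¹ ∉ D := by
          intro h0
          apply hmD
          have : m = ((d⁻¹ * (d * m⁻¹)))⁻¹ := by group
          rw [this]; exact inv_mem (mul_mem (inv_mem hd) h0)
        have h2 := hidx m hm (d * m⁻¹) (mul_mem (hDS hd) (inv_mem hm)) hmD h1
        rwa [← mul_assoc] at h2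
  -- conjugating into a
  have toA : ∀ v : G, (v = a ∨ v = b ∨ v = a * b) → ∃ r : G, r * a * r⁻¹ = v ∧ ∀ d ∈ D, r⁻¹ * d * r ∈ D := by
    have nD' : ∀ d ∈ D, ρ⁻¹ * d * ρ ∈ D := by
      intro d hd
      have h1 : ρ⁻¹ = ρ * ρ := by
        rw [inv_eq_iff_mul_eq_one, ← mul_assoc, ← hρ3, pow_succ, pow_two]
      have h2 : ρ⁻¹ * d * ρ = ρ * (ρ * d * ρ⁻¹) * ρ⁻¹ := by
        have h1' : ρ⁻¹ * ρ⁻¹ = ρ := by rw [← mul_inv_rev, ← h1, inv_inv]
        calc ρ⁻¹ * d * ρ = (ρ * ρ) * d * (ρ⁻¹ * ρ⁻¹) := by rw [← h1, h1']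
          _ = _ := by group
      rw [h2]; exact nD _ (nD d hd)
    rintro v (rfl | rfl | rfl)
    · exact ⟨1, by group, fun d hd => by simpa using hd⟩
    · exact ⟨ρ, hρa, nD'⟩
    · refine ⟨ρ * ρ, ?_, fun d hd => ?_⟩
      · calc ρ * ρ * a * (ρ * ρ)⁻¹ = ρ * (ρ * a * ρ⁻¹) * ρ⁻¹ := by group
          _ = a * b := by rw [hρa, hρb]
      · have := nD' _ (nD' d hd)
        have h2 : (ρ * ρ)⁻¹ * d * (ρ * ρ) = ρ⁻¹ * (ρ⁻¹ * d * ρ) * ρ := by group
        rw [h2]; exact this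
  obtain ⟨M, hM, hMD, -⟩ := exists_normal S D hDS hidx (by
    intro u hu g hg
    by_contra hn
    obtain ⟨s, hs⟩ : ∃ s, s = g * u * g⁻¹ := ⟨_, rfl⟩
    rw [← hs] at hn hg
    have hu1 : u ≠ 1 := by
      rintro rfl
      apply hn; rw [hs]; simp
    by_cases hss : s * s = 1
    · -- s is an involution
      have hs1 : s ≠ 1 := fun h => hn (h ▸ one_mem _)
      have hs2 : orderOf s = 2 := inv_of hs1 hss
      have hu2 : orderOf u = 2 := by rw [← hs2, hs, orderOf_conj']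
      obtain ⟨r, hr, -⟩ := toA u (hΩ u hu hu2)
      have hsa : s = (g * r) * a * (g * r)⁻¹ := by rw [hs, ← hr]; group
      have hsx' : s * x = x * s := by
        have := c.hII (g * r) (by rw [← hsa]; exact hg) x c.xS c.hx
        rw [← hsa] at this; exact this
      -- b commutes with s
      have h5 := ii1 nc a2 c.hx hss hsx' c.ay.symm
      apply hn
      apply hDS' s hg
      have h6 : y * y * s * (y * y)⁻¹ = s := by
        rcases h5 with h5 | h5
        · calc y * y * s * (y * y)⁻¹ = y * (y * s * y⁻¹) * y⁻¹ := by group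
            _ = s := by rw [h5, h5]
        · calc y * y * s * (y * y)⁻¹ = y * (y * s * y⁻¹) * y⁻¹ := by group
            _ = y * (a * s) * y⁻¹ := by rw [h5]
            _ = (y * a * y⁻¹) * (y * s * y⁻¹) := by group
            _ = a * (a * s) := by rw [← c.ay, mul_inv_cancel_right, h5]
            _ = s := by rw [← mul_assoc, haa, one_mul]
      rw [c.hy, mul_inv_eq_iff_eq_mul] at h6
      exact h6.symm
    · obtain ⟨v, hv, hv2⟩ := exists_inv_of_two hDp hu hu1
      have hvD : v ∈ D := (zpowers_le.2 hu) hv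
      have hv' : g * v * g⁻¹ ∈ zpowers s := by rw [hs]; exact conj_mem_zpowers g hv
      have hv'2 : orderOf (g * v * g⁻¹) = 2 := by rw [orderOf_conj', hv2]
      have hssD := hidx s hg s hg hn hn
      obtain ⟨t, ht, ht2⟩ := exists_inv_of_two hDp hssD hss
      have hts : t ∈ zpowers s := (zpowers_le.2 (mul_mem (mem_zpowers s) (mem_zpowers s))) ht
      have htv : t = g * v * g⁻¹ := uniq_inv hts hv' ht2 hv'2
      have htD : t ∈ D := (zpowers_le.2 hssD) ht
      have hst : s * t * s⁻¹ = t := by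
        rw [← commute_zpowers (x := s) (t := s) rfl hts, mul_inv_cancel_right]
      have hta : t = a := by
        rcases hΩ t htD ht2 with h | h | h
        · exact h
        · exfalso
          rw [h, sb s hg hn] at hst
          exact hbab hst.symm
        · exfalso
          rw [h] at hst
          have h7 : s * (a * b) * s⁻¹ = (s * a * s⁻¹) * (s * b * s⁻¹) := by group
          rw [h7, c.ac s hg, mul_inv_cancel_right, sb s hg hn] at hst
          have h8 : a * b = b := mul_left_cancel hst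
          exact hbab h8.symm
      obtain ⟨r, hr, hrD⟩ := toA v (hΩ v hvD hv2)
      have h9 : (g * r) * a = a * (g * r) := by
        rw [← mul_inv_eq_iff_eq_mul]
        calc g * r * a * (g * r)⁻¹ = g * (r * a * r⁻¹) * g⁻¹ := by group
          _ = a := by rw [hr, ← htv, hta]
      have h10 := (memS _).1 h9
      apply hn
      have h11 : s = (g * r) * (r⁻¹ * u * r) * (g * r)⁻¹ := by rw [hs]; group
      rw [h11]
      exact nDS _ h10 _ (hrD u hu))
  refine no_abelian_normal c.ns M ?_ (t := a) (x := x) ((hMD a c.aS).2 haD) c.a2 ((hMD x c.xS).2 hxD) c.ax.symm ?_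
  · intro t htM ht2 p hpM q hqM hpt hqt
    obtain ⟨g, hg⟩ := conj_into_top S (g := t) ⟨1, by rw [ht2, pow_one]⟩
    have h1 : g * t * g⁻¹ ∈ D := (hMD _ hg).1 (hM.conj_mem t htM g)
    have hto : orderOf (g * t * g⁻¹) = 2 := by rw [orderOf_conj', ht2]
    obtain ⟨r, hr, -⟩ := toA _ (hΩ _ h1 hto)
    obtain ⟨k, hk⟩ : ∃ k, k = r⁻¹ * g := ⟨_, rfl⟩
    have hkt : k * t * k⁻¹ = a := by
      rw [hk]
      calc r⁻¹ * g * t * (r⁻¹ * g)⁻¹ = r⁻¹ * (g * t * g⁻¹) * r := by group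
        _ = r⁻¹ * (r * a * r⁻¹) * r := by rw [hr]
        _ = a := by group
    have hc : ∀ p ∈ M, p * t = t * p → k * p * k⁻¹ ∈ D := by
      intro p hpM hp
      have h2 : k * p * k⁻¹ ∈ (S : Subgroup G) := by
        rw [← memS, ← hkt]
        calc k * p * k⁻¹ * (k * t * k⁻¹) = k * (p * t) * k⁻¹ := by group
          _ = k * (t * p) * k⁻¹ := by rw [hp]
          _ = _ := by group
      exact (hMD _ h2).1 (hM.conj_mem p hpM k)
    have h3 := hDab _ (hc p hpM hpt) _ (hc q hqM hqt)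
    have h4 : k * (p * q) * k⁻¹ = k * (q * p) * k⁻¹ := by
      calc k * (p * q) * k⁻¹ = k * p * k⁻¹ * (k * q * k⁻¹) := by group
        _ = k * q * k⁻¹ * (k * p * k⁻¹) := h3
        _ = _ := by group
    exact mul_left_cancel (mul_right_cancel h4)
  · rw [c.hx]; exact inv_ne c.a2

end C3

end Cfsg.Agent.H4.RA
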