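import Mathlib
import Cfsg.Agent.H4.RJ

set_option autoImplicit false
set_option linter.unusedSectionVars false

/-! Case 2, assembly. -/

namespace Cfsg.Agent.H4.RA

open Cfsg Subgroup
open scoped commutatorElement

variable {G : Type*} [Group G] [Finite G]

theorem C2.main [Nontrivial G] {S : Sylow 2 G} (c : C2 S) : Concl G ∨ DStr S := by
  by_cases hexp : ∀ x ∈ (S : Subgroup G), x * x = 1
  · left
    have hab : ∀ p ∈ (S : Subgroup G), ∀ q ∈ (S : Subgroup G), p * q = q * p := by
      intro p hp q hq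
      have h1 := hexp _ (mul_mem hp hq)
      have h2 : (p * q)⁻¹ = p * q := inv_eq_of_mul_eq_one_right h1
      rw [mul_inv_rev, inv_eq_of_mul_eq_one_right (hexp p hp), inv_eq_of_mul_eq_one_right (hexp q hq)] at h2
      exact h2.symm
    exact c.exp_two (fun v hv _ s hs => hab s hs v hv) hab
  · push Not at hexp
    obtain ⟨x₀, hx₀, hx₀'⟩ := hexp
    obtain ⟨x, hxS, hx2, hxc⟩ := c.exists_four hx₀ hx₀'
    obtain ⟨a, ha⟩ : ∃ a, a = x * x := ⟨_, rfl⟩
    rw [← ha] at hx2 hxc
    have haS : a ∈ (S : Subgroup G) := by rw [ha]; exact mul_mem hxS hxS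
    have memS : ∀ g : G, g * a = a * g ↔ g ∈ (S : Subgroup G) := fun g => ⟨c.cent a haS hx2 hxc g, hxc g⟩
    by_cases hI : ∃ γ : G, γ * a * γ⁻¹ ∈ (S : Subgroup G) ∧ γ * a * γ⁻¹ ≠ a ∧ ∃ x' ∈ (S : Subgroup G), x' * x' = a ∧
        ¬ (γ * a * γ⁻¹) * x' = x' * (γ * a * γ⁻¹)
    · obtain ⟨γ, h1, h2, x', h3, h4, h5⟩ := hI
      right
      exact c.case_I hx2 haS hxc h3 h4 h1 h2 h5
    · left
      push Not at hI
      have hII : ∀ g : G, g * a * g⁻¹ ∈ (S : Subgroup G) → ∀ x' ∈ (S : Subgroup G), x' * x' = a →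
          (g * a * g⁻¹) * x' = x' * (g * a * g⁻¹) := by
        intro g hg x' hx' hxx'
        by_cases h : g * a * g⁻¹ = a
        · rw [h]; exact (hxc x' hx').symm
        · exact hI g hg h x' hx' hxx'
      obtain ⟨γ, hγ1, hγ2⟩ := moved c.ns S haS hx2
      obtain ⟨b, hb⟩ : ∃ b, b = γ * a * γ⁻¹ := ⟨_, rfl⟩
      obtain ⟨y, hy⟩ : ∃ y, y = γ * x * γ⁻¹ := ⟨_, rfl⟩
      have hbx := hII γ hγ1 x hxS ha.symm
      rw [← hb] at hγ1 hγ2 hbx
      have b2 : orderOf b = 2 := by rw [hb, orderOf_conj', hx2]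
      have hyy : y * y = b := by rw [hy, hb, ha]; group
      have hyS : y ∈ (S : Subgroup G) := by
        rw [← memS]
        have h1 : γ⁻¹ * a * γ⁻¹⁻¹ ∈ (S : Subgroup G) := by
          rw [← memS]
          have h2 : a * b = b * a := (hxc b hγ1).symm
          calc γ⁻¹ * a * γ⁻¹⁻¹ * a = γ⁻¹ * (a * (γ * a * γ⁻¹)) * γ := by group
            _ = γ⁻¹ * ((γ * a * γ⁻¹) * a) * γ := by rw [← hb, h2]
            _ = _ := by group
        have h3 := hII γ⁻¹ h1 x hxS ha.symm
        rw [hy]
        calc γ * x * γ⁻¹ * a = γ * (x * (γ⁻¹ * a * γ⁻¹⁻¹)) * γ⁻¹ := by group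
          _ = γ * ((γ⁻¹ * a * γ⁻¹⁻¹) * x) * γ⁻¹ := by rw [h3]
          _ = _ := by group
      have hax : a ∈ zpowers x := by rw [ha]; exact mul_mem (mem_zpowers x) (mem_zpowers x)
      have hby : b ∈ zpowers y := by rw [← hyy]; exact mul_mem (mem_zpowers y) (mem_zpowers y)
      have hxy : x * y = y * x := by
        apply comm_of_disj_inv (S := S) hxS
        · rw [← mem_norm_zpowers, nz_pow c.nc b2 hby, mem_centralizer_singleton_iff]
          exact hbx.symm
        · rw [← mem_norm_zpowers, nz_pow c.nc hx2 hax, mem_centralizer_singleton_iff]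
          exact hxc y hyS
        · intro v hv2 hv hv'
          apply hγ2
          rw [uniq_inv hby hv' b2 hv2]
          exact uniq_inv hv hax hv2 hx2
      have c3 : C3 S a b x y :=
        { toC2 := c, a2 := hx2, b2 := b2, aS := haS, bS := hγ1, ac := hxc, ne := hγ2, xS := hxS, yS := hyS,
          hx := ha.symm, hy := hyy, bx := hbx, xy := hxy, hII := hII }
      by_cases hbc : ∀ s ∈ (S : Subgroup G), s * b = b * s
      · exact c3.alpha hbc
      · exfalso
        push Not at hbc
        obtain ⟨s₁, hs₁, hs₁b⟩ := hbc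
        by_cases hs₂ : ∃ s₂ : G, s₂ * b = b * s₂ ∧ s₂ ∉ (S : Subgroup G)
        · obtain ⟨s₂, h1, h2⟩ := hs₂
          exact c3.beta hs₁ hs₁b h1 h2
        · push Not at hs₂
          have hcomm : ∀ s ∈ (S : Subgroup G), (γ * s * γ⁻¹) * b = b * (γ * s * γ⁻¹) := by
            intro s hs
            rw [hb]
            calc γ * s * γ⁻¹ * (γ * a * γ⁻¹) = γ * (s * a) * γ⁻¹ := by group
              _ = γ * (a * s) * γ⁻¹ := by rw [hxc s hs]
              _ = _ := by group
          have hle : (S : Subgroup G).map (MulAut.conj γ).toMonoidHom ≤ (S : Subgroup G) := by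
            rintro _ ⟨s, hs, rfl⟩
            exact hs₂ _ (hcomm s hs)
          have heq : (S : Subgroup G).map (MulAut.conj γ).toMonoidHom = (S : Subgroup G) := by
            apply Subgroup.eq_of_le_of_card_ge hle
            rw [Subgroup.card_map_of_injective (MulAut.conj γ).injective]
          rw [← heq] at hs₁
          obtain ⟨s, hs, rfl⟩ := hs₁
          exact hs₁b (hcomm s hs)

/-- every group satisfying the hypotheses is known or has the dihedral configuration -/
theorem dichotomy [Nontrivial G] (nc : NC G) (ns : NS G) (S : Sylow 2 G) : Concl G ∨ DStr S := by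
  by_cases h : ∃ z h : G, C1 S z h ∧ (orderOf h).Prime
  · obtain ⟨z, h, c, hp⟩ := h
    exact c.main hp
  · push Not at h
    exact (C2.of_not nc ns S h).main

end Cfsg.Agent.H4.RA
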