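import Mathlib
import Cfsg.Agent.H4.RK
import Cfsg.Agent.H19.Sylow2

set_option autoImplicit false
set_option linter.unusedSectionVars false

/-! The dihedral configuration: a simple normal subgroup. -/

namespace Cfsg.Agent.H4.RA

open Cfsg Subgroup
open scoped commutatorElement

variable {G : Type*} [Group G] [Finite G]

structure DD (S : Sylow 2 G) (a w : G) (C : Subgroup G) : Prop where
  nc : NC G
  ns : NS G
  a2 : orderOf a = 2
  ac : ∀ s ∈ (S : Subgroup G), s * a = a * s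
  aS : a ∈ (S : Subgroup G)
  aC : a ∈ C
  w2 : orderOf w = 2
  wS : w ∈ (S : Subgroup G)
  wC : w ∉ C
  inv : ∀ c ∈ C, w * c * w⁻¹ = c⁻¹
  cov : ∀ g : G, g * a = a * g ↔ g ∈ C ∨ w * g ∈ C
  uni : ∀ v ∈ C, v ∈ (S : Subgroup G) → orderOf v = 2 → v = a
  ex : ∃ x ∈ C, x * x ≠ 1

theorem DStr.dd {S : Sylow 2 G} (nc : NC G) (ns : NS G) (h : DStr S) : ∃ (a w : G) (C : Subgroup G), DD S a w C := by
  obtain ⟨a, w, C, h1, h2, h3, h4, h5, h6, h7, h8, h9, h10, h11⟩ := h
  exact ⟨a, w, C, nc, ns, h1, h2, h3, h4, h5, h6, h7, h8, h9, h10, h11⟩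

namespace DD

variable {S : Sylow 2 G} {a w : G} {C : Subgroup G}

theorem cab (d : DD S a w C) {k l : G} (hk : k ∈ C) (hl : l ∈ C) : k * l = l * k := by
  have h1 := d.inv _ (mul_mem hk hl)
  have h2 : w * (k * l) * w⁻¹ = (w * k * w⁻¹) * (w * l * w⁻¹) := by group
  rw [h2, d.inv k hk, d.inv l hl, ← mul_inv_rev, inv_inj] at h1
  exact h1.symm

theorem CH (d : DD S a w C) {k : G} (hk : k ∈ C) : k * a = a * k := (d.cov k).2 (Or.inl hk)

theorem out_sq (d : DD S a w C) {g : G} (hg : g * a = a * g) (hgC : g ∉ C) : g * g = 1 := by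
  have h1 := ((d.cov g).1 hg).resolve_left hgC
  have h2 := d.inv _ h1
  have hww := inv_sq d.w2
  have h3 : w * (w * g) * w⁻¹ = g * w := by rw [← mul_assoc, hww, one_mul, inv_inv' d.w2]
  rw [h3, mul_inv_rev, inv_inv' d.w2] at h2
  exact mul_eq_one_iff_eq_inv.2 (mul_right_cancel h2)

theorem out_inv (d : DD S a w C) {g : G} (hg : g * a = a * g) (hgC : g ∉ C) {c : G} (hc : c ∈ C) : g * c * g⁻¹ = c⁻¹ := by
  have h1 := ((d.cov g).1 hg).resolve_left hgC
  have h2 : g * c * g⁻¹ = w⁻¹ * ((w * g) * c * (w * g)⁻¹) * w := by group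
  rw [h2, d.cab h1 hc, mul_inv_cancel_right]
  have h3 := d.inv c hc
  have hwi := inv_inv' d.w2
  rw [hwi] at h3 ⊢
  exact h3

theorem out_two (d : DD S a w C) {g : G} (hg : g * a = a * g) (hgC : g ∉ C) : orderOf g = 2 :=
  inv_of (fun h => hgC (h ▸ one_mem C)) (d.out_sq hg hgC)

theorem out_mul (d : DD S a w C) {g k : G} (hg : g * a = a * g) (hgC : g ∉ C) (hk : k * a = a * k) (hkC : k ∉ C) : g * k ∈ C := by
  have h1 := ((d.cov g).1 hg).resolve_left hgC
  have h2 := ((d.cov k).1 hk).resolve_left hkC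
  have h3 : g * k = (w⁻¹ * (w * g) * w) * (w⁻¹ * w⁻¹) * (w * k) := by group
  have h4 : w⁻¹ * w⁻¹ = 1 := by rw [inv_inv' d.w2, inv_sq d.w2]
  have h5 : w⁻¹ * (w * g) * w = (w * g)⁻¹ := by
    have := d.inv _ h1
    rw [← this, inv_inv' d.w2]
  rw [h3, h4, mul_one, h5]
  exact mul_mem (inv_mem h1) h2

theorem rep (d : DD S a w C) {e : G} (heS : e ∈ (S : Subgroup G)) (heC : e ∉ C) : DD S a e C :=
  { d with
    w2 := d.out_two (d.ac e heS) heC
    wS := heS
    wC := heC
    inv := fun c hc => d.out_inv (d.ac e heS) heC hc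
    cov := by
      intro g
      constructor
      · intro hg
        by_cases hgC : g ∈ C
        · exact Or.inl hgC
        · exact Or.inr (d.out_mul (d.ac e heS) heC hg hgC)
      · rintro (h | h)
        · exact d.CH h
        · have h1 : g = e⁻¹ * (e * g) := by group
          rw [h1]
          exact Commute.mul_left (show Commute e⁻¹ a from (show Commute e a from d.ac e heS).inv_left) (d.CH h) }

theorem two_mem (d : DD S a w C) {k : G} (hk : k ∈ C) (ho : ∃ n, orderOf k = 2 ^ n) : k ∈ (S : Subgroup G) := by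
  have hSH : (S : Subgroup G) ≤ centralizer {a} := by
    intro s hs; rw [mem_centralizer_singleton_iff]; exact d.ac s hs
  obtain ⟨u, hu, hus⟩ := conj_into S hSH (mem_centralizer_singleton_iff.2 (d.CH hk)) ho
  rw [mem_centralizer_singleton_iff] at hu
  by_cases huC : u ∈ C
  · rwa [d.cab huC hk, mul_inv_cancel_right] at hus
  · rw [d.out_inv hu huC hk] at hus
    exact inv_mem_iff.1 hus

theorem quat_not_abelian {m : ℕ} (hm : 1 ≤ m) (h : ∀ x y : QuaternionGroup (2 ^ m), x * y = y * x) : False := by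
  have h1 := quat_center hm (QuaternionGroup.xa 0) (fun y => h _ y)
  rw [QuaternionGroup.xa_mul_xa] at h1
  have h2 : ((2 ^ m : ℕ) : ZMod (2 * 2 ^ m)) + 0 - 0 = 0 := by
    have : (1 : QuaternionGroup (2 ^ m)) = QuaternionGroup.a 0 := rfl
    rw [this] at h1
    injection h1
  rw [add_zero, sub_zero, ZMod.natCast_eq_zero_iff] at h2
  have h3 : 0 < 2 ^ m := by positivity
  have := Nat.le_of_dvd h3 h2
  omega

theorem cyc (d : DD S a w C) : IsCyclic ((S : Subgroup G) ⊓ C : Subgroup G) := by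
  rcases cyclic_or_quaternion (P := (S : Subgroup G) ⊓ C) (S.isPGroup'.to_le inf_le_left) (by
    intro u hu v hv hu2 hv2
    rw [mem_inf] at hu hv
    rw [d.uni u hu.2 hu.1 hu2, d.uni v hv.2 hv.1 hv2]) with h | ⟨m, hm, ⟨e⟩⟩
  · exact h
  · exfalso
    apply quat_not_abelian hm
    intro x y
    obtain ⟨p, rfl⟩ := e.surjective x
    obtain ⟨q, rfl⟩ := e.surjective y
    rw [← map_mul, ← map_mul]
    congr 1
    apply Subtype.ext
    exact d.cab (mem_inf.1 p.2).2 (mem_inf.1 q.2).2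

theorem solvRad_bot (d : DD S a w C) : H10.solvRad G = ⊥ :=
  d.ns _ (H10.solvRad_normal G) (H10.solvRad_isSolvable G)

theorem sub (d : DD S a w C) {L : Subgroup G} (hL : L.IsSubnormal) (hne : L ≠ ⊥) :
    a ∈ L ∧ ∃ e ∈ L, e ∈ (S : Subgroup G) ∧ e ∉ C := by
  have : Fact (Nat.Prime 2) := ⟨Nat.prime_two⟩
  have hns : ¬ Group.IsSolvable L := by
    intro h
    have h1 := H10.subnormal_solvable_le_solvRad hL h
    rw [d.solvRad_bot] at h1
    exact hne (le_bot_iff.1 h1)
  have hsyl := H19.isSylowOf_inf_subnormal (isSylowOf_sylow S) hL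
  obtain ⟨R, hR⟩ := hsyl
  have hncyc : ∀ T : Subgroup G, IsCyclic T → ¬ (S : Subgroup G) ⊓ L ≤ T := by
    intro T hT hle
    apply hns
    apply S3996.solv_cyc R
    rw [← hR] at hle
    have h1 : IsCyclic ((R : Subgroup L).map L.subtype) :=
      isCyclic_of_injective (f := inclusion hle) (inclusion_injective hle)
    exact isCyclic_of_surjective ((R : Subgroup L).equivMapOfInjective L.subtype L.subtype_injective).symm
      ((R : Subgroup L).equivMapOfInjective L.subtype L.subtype_injective).symm.surjective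
  have h1 : ¬ (S : Subgroup G) ⊓ L ≤ (S : Subgroup G) ⊓ C := hncyc _ d.cyc
  obtain ⟨e, he, heC⟩ := SetLike.not_le_iff_exists.1 h1
  rw [mem_inf] at he
  have heC' : e ∉ C := fun h => heC (mem_inf.2 ⟨he.1, h⟩)
  refine ⟨?_, e, he.2, he.1, heC'⟩
  obtain ⟨f, hf, hfe⟩ := SetLike.not_le_iff_exists.1 (hncyc (zpowers e) inferInstance)
  rw [mem_inf] at hf
  have key : ∀ f, f ∈ C → f ∈ (S : Subgroup G) → f ∈ L → f ≠ 1 → a ∈ L := by
    intro f hfC hfS hfL hf1
    obtain ⟨v, hv, hv2⟩ := exists_inv_of_two S.isPGroup' hfS hf1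
    have h2 := d.uni v ((zpowers_le.2 hfC) hv) ((zpowers_le.2 hfS) hv) hv2
    rw [← h2]
    exact (zpowers_le.2 hfL) hv
  by_cases hfC : f ∈ C
  · exact key f hfC hf.1 hf.2 (fun h => hfe (h ▸ one_mem _))
  · apply key (e * f) (d.out_mul (d.ac e he.1) heC' (d.ac f hf.1) hfC) (mul_mem he.1 hf.1) (mul_mem he.2 hf.2)
    intro h
    apply hfe
    rw [mul_eq_one_iff_inv_eq] at h
    rw [← h]; exact inv_mem (mem_zpowers e)

theorem exists_simple [Nontrivial G] (d : DD S a w C) : ∃ N : Subgroup G, N.Normal ∧ IsSimpleGroup N ∧ a ∈ N ∧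
    ∃ e ∈ N, e ∈ (S : Subgroup G) ∧ e ∉ C := by
  obtain ⟨N, ⟨hN, hNe⟩, hmin⟩ := Set.exists_min_image {N : Subgroup G | N.Normal ∧ N ≠ ⊥} (fun N => Nat.card N)
    (Set.toFinite _) ⟨⊤, inferInstance, top_ne_bot⟩
  obtain ⟨haN, heN⟩ := d.sub hN.isSubnormal hNe
  refine ⟨N, hN, ?_, haN, heN⟩
  have : Nontrivial N := (nontrivial_iff_ne_bot N).2 hNe
  refine { exists_pair_ne := this.exists_pair_ne, eq_bot_or_eq_top_of_normal := ?_ }
  intro H hH
  by_cases hHe : H = ⊥
  · exact Or.inl hHe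
  · right
    have hLe : H.map N.subtype ≠ ⊥ := by
      rw [Ne, map_eq_bot_iff_of_injective _ N.subtype_injective]; exact hHe
    have hLN : H.map N.subtype ≤ N := map_subtype_le H
    have hLsub : (H.map N.subtype).IsSubnormal := IsSubnormal.trans' hH.isSubnormal hN.isSubnormal
    have haR : a ∈ (H.map N.subtype).normalCore := by
      intro b
      have h1 : ((H.map N.subtype).map (MulAut.conj b⁻¹).toMonoidHom).IsSubnormal :=
        hLsub.map (MulAut.conj b⁻¹).surjective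
      have h2 : (H.map N.subtype).map (MulAut.conj b⁻¹).toMonoidHom ≠ ⊥ := by
        rw [Ne, map_eq_bot_iff_of_injective _ (MulAut.conj b⁻¹).injective]; exact hLe
      obtain ⟨y, hy, hya⟩ := (d.sub h1 h2).1
      have h3 : b⁻¹ * y * b⁻¹⁻¹ = a := hya
      rw [← h3]
      have h4 : b * (b⁻¹ * y * b⁻¹⁻¹) * b⁻¹ = y := by group
      rw [h4]; exact hy
    have hRe : (H.map N.subtype).normalCore ≠ ⊥ := by
      intro h
      rw [h, mem_bot] at haR
      exact inv_ne d.a2 haR
    have h1 := hmin (H.map N.subtype).normalCore ⟨inferInstance, hRe⟩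
    have h2 : (H.map N.subtype).normalCore ≤ N := (normalCore_le _).trans hLN
    have h3 := Subgroup.eq_of_le_of_card_ge h2 h1
    have h4 : N ≤ H.map N.subtype := by
      nth_rewrite 1 [← h3]; exact normalCore_le _
    rw [eq_top_iff]
    rintro ⟨n, hn⟩ -
    obtain ⟨y, hy, hyn⟩ := h4 hn
    have : y = ⟨n, hn⟩ := Subtype.ext hyn
    rw [← this]; exact hy

end DD

end Cfsg.Agent.H4.RA
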