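import Mathlib
import Cfsg.Agent.H4.RL
import Cfsg.Agent.S0508
import Cfsg.Agent.H9.BSWN
import Cfsg.Agent.H4.DihEquiv
import Cfsg.Agent.H21.Ord120

set_option autoImplicit false
set_option linter.unusedSectionVars false

/-! The dihedral configuration: the simple normal subgroup is PSL(2,q). -/

namespace Cfsg.Agent.H4.RA

open Cfsg Subgroup
open scoped commutatorElement

variable {G : Type*} [Group G] [Finite G]

namespace DD

variable {S : Sylow 2 G} {a w : G} {C : Subgroup G}

/-- normalizers of odd order subgroups of `C` -/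
theorem norm_odd (d : DD S a w C) {y g : G} (hy : y ∈ C) (hyo : Odd (orderOf y)) (hy1 : y ≠ 1)
    (hgy : g * y * g⁻¹ ∈ C) : g * a = a * g := by
  have n1 := nz_odd d.nc d.a2 (d.CH hy) hyo hy1
  have ho' : Odd (orderOf (g * y * g⁻¹)) := by rw [orderOf_conj']; exact hyo
  have h1' : g * y * g⁻¹ ≠ 1 := fun h => hy1 (conj_eq_one_iff.1 h)
  have n2 := nz_odd d.nc d.a2 (d.CH hgy) ho' h1'
  have ha'2 : orderOf (g * a * g⁻¹) = 2 := by rw [orderOf_conj', d.a2]
  have n3 := nz_odd d.nc ha'2 (by
    have h2 := d.CH hy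
    calc g * y * g⁻¹ * (g * a * g⁻¹) = g * (y * a) * g⁻¹ := by group
      _ = g * (a * y) * g⁻¹ := by rw [h2]
      _ = _ := by group) ho' h1'
  rw [n2] at n3
  -- centralizers of a and of g a g⁻¹ coincide
  have hC : ∀ k : G, k * a = a * k ↔ k * (g * a * g⁻¹) = (g * a * g⁻¹) * k := by
    intro k
    rw [← mem_centralizer_singleton_iff, ← mem_centralizer_singleton_iff, n3]
  have ha' : (g * a * g⁻¹) * a = a * (g * a * g⁻¹) := (hC _).2 rfl
  have heq : g * a * g⁻¹ = a := by
    by_cases h : g * a * g⁻¹ ∈ C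
    · exact d.uni _ h (d.two_mem h ⟨1, by rw [ha'2, pow_one]⟩) ha'2
    · exfalso
      obtain ⟨x, hx, hxx⟩ := d.ex
      have h1 := d.out_inv ha' h hx
      have h2 := (hC x).1 (d.CH hx)
      rw [← h2, mul_inv_cancel_right] at h1
      exact hxx (mul_eq_one_iff_eq_inv.2 h1)
  rw [mul_inv_eq_iff_eq_mul] at heq
  exact heq

/-- the simple normal subgroup is of type PSL(2,q), its involutions are conjugate -/
theorem psl (d : DD S a w C) {N : Subgroup G} [hN : N.Normal] [hs : IsSimpleGroup N] (haN : a ∈ N) (hwN : w ∈ N) :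
    (∃ (F : Type) (_ : Field F) (_ : Fintype F), Odd (Fintype.card F) ∧
      Nonempty (N ≃* Matrix.ProjectiveSpecialLinearGroup (Fin 2) F)) ∧
    ∀ u ∈ N, orderOf u = 2 → ∃ n ∈ N, n * a * n⁻¹ = u := by
  have : Fact (Nat.Prime 2) := ⟨Nat.prime_two⟩
  obtain ⟨P, hP⟩ := H19.isSylowOf_inf_normal hN (isSylowOf_sylow S)
  have memP : ∀ g : N, g ∈ (P : Subgroup N) ↔ (g : G) ∈ (S : Subgroup G) := by
    intro g
    constructor
    · intro hg
      have h1 : (g : G) ∈ (P : Subgroup N).map N.subtype := ⟨g, hg, rfl⟩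
      rw [hP, mem_inf] at h1
      exact h1.1
    · intro hg
      have h1 : (g : G) ∈ (P : Subgroup N).map N.subtype := by rw [hP, mem_inf]; exact ⟨hg, g.2⟩
      obtain ⟨g', hg', h⟩ := h1
      rwa [← Subtype.ext h]
  -- the cyclic subgroup
  obtain ⟨A, hA⟩ : ∃ A : Subgroup N, A = (P : Subgroup N) ⊓ C.subgroupOf N := ⟨_, rfl⟩
  have memA : ∀ g : N, g ∈ A ↔ (g : G) ∈ (S : Subgroup G) ∧ (g : G) ∈ C := by
    intro g; rw [hA, mem_inf, memP, mem_subgroupOf]
  have hAcyc : IsCyclic A := by
    have := d.cyc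
    let f : A →* ((S : Subgroup G) ⊓ C : Subgroup G) :=
      { toFun := fun g => ⟨(g : N), mem_inf.2 ((memA g).1 g.2)⟩
        map_one' := rfl
        map_mul' := fun _ _ => rfl }
    refine isCyclic_of_injective (f := f) ?_
    intro g g' h
    apply Subtype.ext
    apply Subtype.ext
    exact congrArg (fun z : ((S : Subgroup G) ⊓ C : Subgroup G) => (z : G)) h
  obtain ⟨t, ht⟩ : ∃ t : N, t = ⟨a, haN⟩ := ⟨_, rfl⟩
  obtain ⟨e, he⟩ : ∃ e : N, e = ⟨w, hwN⟩ := ⟨_, rfl⟩
  have ht' : (t : G) = a := by rw [ht]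
  have he' : (e : G) = w := by rw [he]
  have ht2 : orderOf t = 2 := by rw [← Subgroup.orderOf_coe, ht', d.a2]
  have htA : t ∈ A := (memA t).2 (by rw [ht']; exact ⟨d.aS, d.aC⟩)
  have heP : e ∈ (P : Subgroup N) := (memP e).2 (by rw [he']; exact d.wS)
  have heA : e ∉ A := fun h => d.wC (by have := ((memA e).1 h).2; rwa [he'] at this)
  have hAP : A ≤ (P : Subgroup N) := by rw [hA]; exact inf_le_left
  have hcov : ∀ g ∈ (P : Subgroup N), g ∈ A ∨ e * g ∈ A := by
    intro g hg
    have hgS := (memP g).1 hg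
    rcases (d.cov g).1 (d.ac g hgS) with h | h
    · left; exact (memA g).2 ⟨hgS, h⟩
    · right
      refine (memA _).2 ⟨?_, ?_⟩
      · change (e : G) * g ∈ _
        rw [he']; exact mul_mem d.wS hgS
      · change (e : G) * g ∈ _
        rw [he']; exact h
  have hrel : A.relIndex (P : Subgroup N) = 2 := by
    rw [Subgroup.relIndex_eq_two_iff]
    refine ⟨e, heP, fun b hb => ?_⟩
    rw [xor_iff_iff_not]
    have hee : e * e = 1 := Subtype.ext (by change (e : G) * e = 1; rw [he']; exact inv_sq d.w2)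
    constructor
    · intro h1 h2
      apply heA
      have : e = b⁻¹ * (b * e) := by group
      rw [this]; exact mul_mem (inv_mem h2) h1
    · intro h1
      have h2 := (hcov b hb).resolve_left h1
      have hbS := (memP b).1 hb
      refine (memA _).2 ⟨(memP _).1 (mul_mem hb heP), ?_⟩
      have h3 : (b : G) ∉ C := fun h => h1 ((memA b).2 ⟨hbS, h⟩)
      change (b : G) * e ∈ C
      rw [he']
      exact d.out_mul (d.ac b hbS) h3 (d.ac w d.wS) d.wC
  obtain ⟨κ, hκ⟩ := hAcyc.exists_generator
  have hκ' : ∀ g ∈ A, g ∈ zpowers (κ : N) := by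
    intro g hg
    obtain ⟨k, hk⟩ := mem_zpowers_iff.1 (hκ ⟨g, hg⟩)
    refine mem_zpowers_iff.2 ⟨k, ?_⟩
    have := congrArg Subtype.val hk
    simpa using this
  have hκA : (κ : N) ∈ A := κ.2
  have hAz : A = zpowers (κ : N) := le_antisymm hκ' (zpowers_le.2 hκA)
  have hn : 2 ≤ orderOf (κ : N) := by
    have h1 : orderOf t ∣ orderOf (κ : N) := orderOf_dvd_of_mem_zpowers (hκ' t htA)
    rw [ht2] at h1
    exact Nat.le_of_dvd (orderOf_pos _) h1
  have hdih : Nonempty ((P : Subgroup N) ≃* DihedralGroup (orderOf (κ : N))) := by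
    apply dihedral_equiv (a := (κ : N)) (b := e) (hAP hκA) heP rfl
    · exact Subtype.ext (by change (e : G) * e = 1; rw [he']; exact inv_sq d.w2)
    · apply Subtype.ext
      change (e : G) * (κ : N) * (e : G)⁻¹ = ((κ : N) : G)⁻¹
      rw [he']
      exact d.inv _ ((memA _).1 hκA).2
    · rw [← hAz]; exact heA
    · intro g hg
      rw [← hAz]
      exact hcov g hg
  have hnsol : ¬ Group.IsSolvable N := by
    intro h
    have := d.ns N hN h
    rw [this, mem_bot] at haN
    exact inv_ne d.a2 haN
  constructor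
  · refine S0508.result P (orderOf (κ : N)) hn hdih t ht2 (hAP htA) ?_ _ rfl ?_ ?_ ?_
    · intro s hs
      apply Subtype.ext
      change (s : G) * t = t * s
      rw [ht']; exact d.ac s ((memP s).1 hs)
    all_goals
      obtain ⟨O, hO⟩ : ∃ O : Subgroup N, O = (Cfsg.oddCore (Subgroup.centralizer ({t} : Set N))).map
        (Subgroup.centralizer ({t} : Set N)).subtype := ⟨_, rfl⟩
      rw [← hO]
      have hOodd : Odd (Nat.card O) := by
        rw [hO, Subgroup.card_map_of_injective (Subgroup.subtype_injective _)]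
        exact oddCore_odd _
      have hoo : ∀ y ∈ O, Odd (orderOf y) := by
        intro y hy
        apply hOodd.of_dvd_nat
        rw [← Nat.card_zpowers]; exact Subgroup.card_dvd_of_le (zpowers_le.2 hy)
      have hOC : ∀ y ∈ O, (y : G) ∈ C := by
        intro y hy
        have h1 : y * t = t * y := by
          rw [hO] at hy
          obtain ⟨z, -, rfl⟩ := hy
          exact mem_centralizer_singleton_iff.1 z.2
        have h2 : (y : G) * a = a * y := by
          have := congrArg Subtype.val h1
          rw [Subgroup.coe_mul, Subgroup.coe_mul, ht'] at this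
          exact this
        by_contra hyC
        have h3 := d.out_two h2 hyC
        have h4 := hoo y hy
        rw [← Subgroup.orderOf_coe, h3] at h4
        exact absurd h4 (by decide)
      have hcent : ∀ s ∈ (P : Subgroup N), O ≠ ⊥ → (s ∈ centralizer (O : Set N) ↔ s ∈ A) := by
        intro s hs hO1
        have hsS := (memP s).1 hs
        constructor
        · intro h
          obtain ⟨y, hy, hy1⟩ := (Subgroup.ne_bot_iff_exists_ne_one).1 hO1 |> fun ⟨⟨y, hy⟩, h⟩ =>
            (⟨y, hy, fun h0 => h (Subtype.ext h0)⟩ : ∃ y ∈ O, y ≠ 1)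
          by_contra hsA
          have hsC : (s : G) ∉ C := fun h0 => hsA ((memA s).2 ⟨hsS, h0⟩)
          have h1 := d.out_inv (d.ac s hsS) hsC (hOC y hy)
          have h2 : (y : G) * s = s * y := congrArg Subtype.val (mem_centralizer_iff.1 h y hy)
          rw [← h2, mul_inv_cancel_right] at h1
          have h3 : y * y = 1 := Subtype.ext (mul_eq_one_iff_eq_inv.2 h1)
          have h4 : orderOf y ∣ 2 := orderOf_dvd_of_pow_eq_one (by rw [pow_two]; exact h3)
          rcases (Nat.dvd_prime Nat.prime_two).1 h4 with h5 | h5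
          · exact hy1 (orderOf_eq_one_iff.1 h5)
          · have h6 := hoo y hy
            rw [h5] at h6
            exact absurd h6 (by decide)
        · intro h
          rw [mem_centralizer_iff]
          intro y hy
          exact Subtype.ext (d.cab (hOC y hy) ((memA s).1 h).2)
    · intro hO1
      have h1 : (P : Subgroup N) ⊓ centralizer (O : Set N) = A := by
        ext s
        rw [mem_inf]
        constructor
        · rintro ⟨h2, h3⟩
          exact (hcent s h2 hO1).1 h3
        · intro h2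
          exact ⟨hAP h2, (hcent s (hAP h2) hO1).2 h2⟩
      rw [h1]
      exact ⟨hAcyc, hrel⟩
    · intro s hs hsc y hy
      by_cases hO1 : O = ⊥
      · rw [hO1, mem_bot] at hy
        rw [hy]; simp
      · have hsA : s ∉ A := fun h => hsc ((hcent s hs hO1).2 h)
        have hsS := (memP s).1 hs
        have hsC : (s : G) ∉ C := fun h0 => hsA ((memA s).2 ⟨hsS, h0⟩)
        exact Subtype.ext (d.out_inv (d.ac s hsS) hsC (hOC y hy))
    · intro Y hYO hY1 g hg
      obtain ⟨y, hy, hy1⟩ := (Subgroup.ne_bot_iff_exists_ne_one).1 hY1 |> fun ⟨⟨y, hy⟩, h⟩ =>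
            (⟨y, hy, fun h0 => h (Subtype.ext h0)⟩ : ∃ y ∈ Y, y ≠ 1)
      have h1 := (mem_normalizer_iff.1 hg y).1 hy
      have h2 : (g : G) * a = a * g := by
        apply d.norm_odd (y := (y : G)) (hOC y (hYO hy)) ?_ ?_ (hOC _ (hYO h1))
        · rw [Subgroup.orderOf_coe]; exact hoo y (hYO hy)
        · intro h0; exact hy1 (Subtype.ext h0)
      rw [mem_centralizer_singleton_iff]
      apply Subtype.ext
      change (g : G) * t = t * g
      rw [ht']; exact h2
  · intro u huN hu2
    have hidx : ∀ M : Subgroup N, M.Normal → M.index ≠ 2 := by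
      intro M hM hM2
      rcases hM.eq_bot_or_eq_top with h | h
      · rw [h, index_bot] at hM2
        apply hnsol
        have : Fact (Nat.Prime 2) := ⟨Nat.prime_two⟩
        have := isCyclic_of_prime_card hM2
        infer_instance
      · rw [h, index_top] at hM2; omega
    obtain ⟨g, hg⟩ := H9.BSW.one_class hidx P hAP hrel (t := t) (by
      intro x hx hxx
      by_cases hx1 : x = 1
      · exact Or.inl hx1
      · right
        have h1 := (memA x).1 hx
        apply Subtype.ext
        rw [ht']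
        apply d.uni _ h1.2 h1.1
        rw [Subgroup.orderOf_coe]
        exact inv_of hx1 hxx) ⟨u, huN⟩ (fun h => inv_ne hu2 (congrArg Subtype.val h)) (Subtype.ext (inv_sq hu2))
    refine ⟨g, g.2, ?_⟩
    have := congrArg Subtype.val hg
    rw [← ht']; exact this

end DD

end Cfsg.Agent.H4.RA
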