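import Mathlib
import Cfsg.Agent.H4.RM
import Cfsg.Agent.S2697
import Cfsg.Agent.H17.FieldClass
import Cfsg.Agent.H17.AutPSL8

set_option autoImplicit false
set_option linter.unusedSectionVars false

/-! Involutory automorphisms of PSL(2,F). -/

namespace Cfsg.Agent.H4.RA

open Cfsg Subgroup
open scoped Matrix MatrixGroups
open Cfsg.Agent.H17

section psl

variable {F : Type} [Field F]

def uU : Matrix.SpecialLinearGroup (Fin 2) F := ⟨!![1, 1; 0, 1], by rw [Matrix.det_fin_two_of]; ring⟩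
def lL (x : F) : Matrix.SpecialLinearGroup (Fin 2) F := ⟨!![1, 0; x, 1], by rw [Matrix.det_fin_two_of]; ring⟩

theorem lL_mul (x y : F) : lL x * lL y = lL (x + y) := by
  apply Subtype.ext
  rw [Matrix.SpecialLinearGroup.coe_mul]
  simp [lL, Matrix.mul_fin_two]

theorem lL_pow (k : ℕ) : (lL (1 : F)) ^ k = lL (k : F) := by
  induction k with
  | zero =>
    rw [pow_zero, Nat.cast_zero]
    apply Subtype.ext
    simp [lL, Matrix.one_fin_two]
  | succ k ih => rw [pow_succ, ih, lL_mul, Nat.cast_succ]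

theorem mem_center_entries {z : Matrix.SpecialLinearGroup (Fin 2) F} (hz : z ∈ Subgroup.center (Matrix.SpecialLinearGroup (Fin 2) F)) :
    (z : Matrix (Fin 2) (Fin 2) F) 0 1 = 0 ∧ (z : Matrix (Fin 2) (Fin 2) F) 1 0 = 0 := by
  obtain ⟨r, -, hr⟩ := Matrix.SpecialLinearGroup.mem_center_iff.1 hz
  rw [← hr]
  simp

theorem lL_ne_one : mkP (lL (1 : F)) ≠ 1 := by
  intro h
  have h1 := (mem_center_entries (mkP_eq_one_iff.1 h)).2
  simp [lL] at h1

theorem uU_lL_not_mem [Finite F] : mkP (uU : Matrix.SpecialLinearGroup (Fin 2) F) * mkP (lL 1) * (mkP uU)⁻¹ ∉ zpowers (mkP (lL (1 : F))) := by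
  intro h
  obtain ⟨k, hk⟩ := mem_powers_iff_mem_zpowers.2 h
  simp only at hk
  rw [← map_pow, lL_pow, ← map_mul, ← map_inv, ← map_mul] at hk
  have h1 : mkP ((lL (k : F))⁻¹ * (uU * lL 1 * uU⁻¹)) = 1 := by
    rw [map_mul, map_inv, hk, inv_mul_cancel]
  have h2 := (mem_center_entries (mkP_eq_one_iff.1 h1)).1
  simp only [Matrix.SpecialLinearGroup.coe_mul, Matrix.SpecialLinearGroup.coe_inv, Matrix.adjugate_fin_two,
    Matrix.mul_apply, Fin.sum_univ_two] at h2
  simp [lL, uU] at h2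

theorem odd_lL [Fintype F] (hodd : Odd (Fintype.card F)) : Odd (orderOf (mkP (lL (1 : F)))) := by
  obtain ⟨p, hp⟩ := CharP.exists F
  have hpp : p.Prime := CharP.char_is_prime F p
  have : Fact p.Prime := ⟨hpp⟩
  have h1 : (mkP (lL (1 : F))) ^ p = 1 := by
    rw [← map_pow, lL_pow, CharP.cast_eq_zero]
    have : lL (0 : F) = 1 := by
      apply Subtype.ext
      simp [lL, Matrix.one_fin_two]
    rw [this, map_one]
  have h2 : Odd p := by
    obtain ⟨k, -, hk⟩ := FiniteField.card F p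
    rw [hk] at hodd
    exact hodd.of_dvd_nat (dvd_pow_self p k.pos.ne')
  exact h2.of_dvd_nat (orderOf_dvd_of_pow_eq_one h1)

theorem fP_uU (σ : F ≃+* F) : fP 2 σ (mkP uU) = mkP uU := by
  rw [fP, congrP_mkP]
  congr 1
  apply Subtype.ext
  change (uU : Matrix.SpecialLinearGroup (Fin 2) F).1.map σ = _
  ext i j
  fin_cases i <;> fin_cases j <;> simp [uU]

theorem fP_lL (σ : F ≃+* F) : fP 2 σ (mkP (lL 1)) = mkP (lL 1) := by
  rw [fP, congrP_mkP]
  congr 1
  apply Subtype.ext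
  change (lL (1 : F)).1.map σ = _
  ext i j
  fin_cases i <;> fin_cases j <;> simp [lL]

theorem aut_two [Fintype F] (hodd : Odd (Fintype.card F)) (h4 : 4 ≤ Fintype.card F)
    (α : MulAut (Matrix.ProjectiveSpecialLinearGroup (Fin 2) F)) (h1 : α * α = 1) :
    (∃ g : GL (Fin 2) F, α = cP g) ∨ ∃ p q : Matrix.ProjectiveSpecialLinearGroup (Fin 2) F, α p = p ∧ α q = q ∧
      Odd (orderOf q) ∧ q ≠ 1 ∧ p * q * p⁻¹ ∉ zpowers q := by
  obtain ⟨g, σ, h | ⟨h, -⟩⟩ := aut_PSL (le_refl 2) α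
  · by_cases hσ : σ = 1
    · left; exact ⟨g, by rw [h, hσ, fP_one, mul_one]⟩
    · right
      obtain ⟨Θ, hΘ⟩ := exists_typeHom_two (F := F)
      have hα : Θ α = σ := by rw [h, hΘ]
      have hσ2 : σ * σ = 1 := by rw [← hα, ← map_mul, h1, map_one]
      have hσo : orderOf σ = 2 := orderOf_eq_prime (by rw [pow_two]; exact hσ2) hσ
      have hα1 : α ≠ 1 := by
        intro h0; apply hσ; rw [← hα, h0, map_one]
      have hαo : orderOf α = 2 := orderOf_eq_prime (by rw [pow_two]; exact h1) hα1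
      obtain ⟨p, hp⟩ := CharP.exists F
      have hpp : p.Prime := CharP.char_is_prime F p
      have : Fact p.Prime := ⟨hpp⟩
      obtain ⟨k, -, hk⟩ := FiniteField.card F p
      have hx : IsFieldAutClassPSL (fP 2 σ) := by
        refine ⟨1, σ, hσ, ?_⟩
        rw [one_mul, inv_one, mul_one]
        exact isStdField_iff.2 rfl
      have hδ : cP g ∈ inndiagPSL 2 F := by
        rw [inndiag_eq]; exact ⟨g, rfl⟩
      obtain ⟨β, -, hβ⟩ := (S2697.result (F := F) hk k.pos (le_refl 2) (fun _ => h4) (fP 2 σ) (cP g) (Or.inl hx)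
        Nat.prime_two (by rw [orderOf_fP (le_refl 2), hσo]) hδ).1 (by rw [← h, hαo])
      rw [← h] at hβ
      have hfix : ∀ z, fP 2 σ z = z → α (β z) = β z := by
        intro z hz
        rw [hβ, MulAut.mul_apply, MulAut.mul_apply, MulAut.inv_apply_self, hz]
      refine ⟨β (mkP uU), β (mkP (lL 1)), hfix _ (fP_uU σ), hfix _ (fP_lL σ), ?_, ?_, ?_⟩
      · rw [MulEquiv.orderOf_eq]; exact odd_lL hodd
      · intro h0; exact lL_ne_one ((map_eq_one_iff β β.injective).1 h0)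
      · intro h0
        rw [← map_inv, ← map_mul, ← map_mul] at h0
        obtain ⟨m, hm⟩ := mem_zpowers_iff.1 h0
        rw [← map_zpow] at hm
        exact uU_lL_not_mem (mem_zpowers_iff.2 ⟨m, β.injective hm⟩)
  · omega

theorem unit_sq [Finite F] {c d : Fˣ} (hc : ¬ ∃ x : Fˣ, c = x ^ 2) (hd : ¬ ∃ x : Fˣ, d = x ^ 2) : ∃ x : Fˣ, c * d = x ^ 2 := by
  obtain ⟨ζ, hζ⟩ := IsCyclic.exists_generator (α := Fˣ)
  obtain ⟨i, rfl⟩ := mem_zpowers_iff.1 (hζ c)
  obtain ⟨j, rfl⟩ := mem_zpowers_iff.1 (hζ d)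
  have key : ∀ i : ℤ, (¬ ∃ x : Fˣ, ζ ^ i = x ^ 2) → Odd i := by
    intro i hi
    by_contra hne
    rw [Int.not_odd_iff_even] at hne
    obtain ⟨m, rfl⟩ := hne
    exact hi ⟨ζ ^ m, by rw [pow_two, ← zpow_add]⟩
  obtain ⟨m, hm⟩ := (key i hc).add_odd (key j hd)
  exact ⟨ζ ^ m, by rw [← zpow_add, hm, pow_two, ← zpow_add]⟩

theorem pgl_of_range {G : Type*} [Group G] [Finite F] (Θ : G →* MulAut (Matrix.ProjectiveSpecialLinearGroup (Fin 2) F))
    (hinj : Function.Injective Θ) (hr : Θ.range = cPrange F 2) : Nonempty (G ≃* Matrix.ProjGenLinGroup (Fin 2) F) := by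
  have e1 : G ≃* Θ.range := MonoidHom.ofInjective hinj
  have e2 : Θ.range ≃* (cPh F 2).range := MulEquiv.subgroupCongr (by rw [hr, cPh_range])
  have e3 : (GL (Fin 2) F ⧸ (cPh F 2).ker) ≃* (cPh F 2).range := QuotientGroup.quotientKerEquivRange _
  have hker : (cPh F 2).ker = Subgroup.center (GL (Fin 2) F) := by
    ext g
    rw [MonoidHom.mem_ker, cPh_apply, cP_eq_one_iff (le_refl 2), Matrix.GeneralLinearGroup.mem_center_iff_val_mem_range_scalar]
    constructor
    · rintro ⟨c, hc⟩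
      exact ⟨c, hc.symm⟩
    · rintro ⟨c, hc⟩
      have hc0 : c ≠ 0 := by
        rintro rfl
        have h1 : (g : Matrix (Fin 2) (Fin 2) F) = 0 := by rw [← hc]; simp
        exact g.ne_zero h1
      exact ⟨Units.mk0 c hc0, hc.symm⟩
  have e4 : (GL (Fin 2) F ⧸ (cPh F 2).ker) ≃* (GL (Fin 2) F ⧸ Subgroup.center (GL (Fin 2) F)) :=
    QuotientGroup.quotientMulEquivOfEq hker
  exact ⟨((e1.trans e2).trans e3.symm).trans e4⟩

end psl

end Cfsg.Agent.H4.RA
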