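import Mathlib
import Cfsg.Agent.H4.RN

set_option autoImplicit false
set_option linter.unusedSectionVars false

/-! The dihedral configuration: conclusion. -/

namespace Cfsg.Agent.H4.RA

open Cfsg Subgroup
open scoped Matrix MatrixGroups
open Cfsg.Agent.H17

variable {G : Type*} [Group G] [Finite G]

theorem three_lt {N : Type*} [Group N] [Finite N] (hns : ¬ Group.IsSolvable N) {F : Type} [Field F] [Fintype F]
    (hodd : Odd (Fintype.card F)) (e : N ≃* Matrix.ProjectiveSpecialLinearGroup (Fin 2) F) : 3 < Fintype.card F := by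
  by_contra hlt
  have h1 : 1 < Fintype.card F := Fintype.one_lt_card
  have h3 : Fintype.card F = 3 := by
    obtain ⟨m, hm⟩ := hodd
    omega
  have h4 := H5.card_PSL2 (F := F) h3
  norm_num at h4
  apply hns
  apply H21.solvable_of_card_lt_60 _ rfl
  rw [Nat.card_congr e.toEquiv]
  omega

namespace DD

variable {S : Sylow 2 G} {a w : G} {C : Subgroup G}

theorem final [Nontrivial G] (d₀ : DD S a w C) : Concl G := by
  classical
  have : Fact (Nat.Prime 2) := ⟨Nat.prime_two⟩
  obtain ⟨N, hN, hs, haN, w', hwN, hwS, hwC⟩ := d₀.exists_simple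
  have d := d₀.rep hwS hwC
  clear d₀
  obtain ⟨⟨F, i1, i2, hodd, ⟨e⟩⟩, hconj⟩ := d.psl haN hwN
  have hnsol : ¬ Group.IsSolvable N := by
    intro h
    have := d.ns N hN h
    rw [this, mem_bot] at haN
    exact inv_ne d.a2 haN
  have h3 := three_lt hnsol hodd e
  have hww := inv_sq d.w2
  -- squares of elements of C
  have hsq : ∀ c ∈ C, c * c ∈ N := by
    intro c hc
    have h1 : (c * c)⁻¹ = w' * (c * w'⁻¹ * c⁻¹) := by
      have h2 : w' * (c * w'⁻¹ * c⁻¹) = (w' * c * w'⁻¹) * c⁻¹ := by group
      rw [h2, d.inv c hc, mul_inv_rev]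
    rw [← inv_mem_iff, h1]
    exact mul_mem hwN (hN.conj_mem _ (inv_mem hwN) c)
  have hoddN : ∀ c ∈ C, Odd (orderOf c) → c ∈ N := by
    intro c hc ho
    obtain ⟨m, hm⟩ := ho
    have h5 : c = (c * c) ^ (m + 1) := by
      rw [← pow_two, ← pow_mul, show 2 * (m + 1) = (2 * m + 1) + 1 by ring, ← hm, pow_succ, pow_orderOf_eq_one, one_mul]
    rw [h5]; exact pow_mem (hsq c hc) _
  obtain ⟨κ, hκ⟩ := d.cyc.exists_generator
  have hκ' : ∀ g : G, g ∈ (S : Subgroup G) → g ∈ C → g ∈ zpowers (κ : G) := by
    intro g hg hgC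
    obtain ⟨k, hk⟩ := mem_zpowers_iff.1 (hκ ⟨g, mem_inf.2 ⟨hg, hgC⟩⟩)
    refine mem_zpowers_iff.2 ⟨k, ?_⟩
    have := congrArg Subtype.val hk
    simpa using this
  obtain ⟨hκS, hκC⟩ := mem_inf.1 κ.2
  obtain ⟨k, hk⟩ : ∃ k : G, k = κ := ⟨_, rfl⟩
  rw [← hk] at hκ' hκS hκC
  clear hk hκ κ
  have hkk := hsq k hκC
  have hG : ∀ g : G, ∃ n ∈ N, ∃ i : ℤ, g = n * k ^ i := by
    intro g
    have hu : g * a * g⁻¹ ∈ N := hN.conj_mem a haN g
    obtain ⟨n, hn, hna⟩ := hconj _ hu (by rw [orderOf_conj', d.a2])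
    have h1 : (n⁻¹ * g) * a = a * (n⁻¹ * g) := by
      calc (n⁻¹ * g) * a = n⁻¹ * (g * a * g⁻¹) * g := by group
        _ = n⁻¹ * (n * a * n⁻¹) * g := by rw [hna]
        _ = _ := by group
    obtain ⟨n', hn', c, hc, hgc⟩ : ∃ n' ∈ N, ∃ c ∈ C, g = n' * c := by
      rcases (d.cov _).1 h1 with h | h
      · exact ⟨n, hn, _, h, by group⟩
      · exact ⟨n * w'⁻¹, mul_mem hn (inv_mem hwN), _, h, by group⟩
    obtain ⟨a1, b1, hab, hcomm, ha1, hb1, ha2, hbo⟩ := decomp c
    have ha1C : a1 ∈ C := (zpowers_le.2 hc) ha1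
    obtain ⟨i, hi⟩ := mem_zpowers_iff.1 (hκ' a1 (d.two_mem ha1C ha2) ha1C)
    have hb1N := hoddN b1 ((zpowers_le.2 hc) hb1) hbo
    refine ⟨n' * b1, mul_mem hn' hb1N, i, ?_⟩
    rw [hgc, hab, hcomm, ← hi, mul_assoc]
  by_cases hkN : k ∈ N
  · -- G = N
    have hNtop : N = ⊤ := by
      rw [eq_top_iff]
      intro g _
      obtain ⟨n, hn, i, rfl⟩ := hG g
      exact mul_mem hn (zpow_mem hkN i)
    refine ⟨F, i1, i2, h3, Or.inl ⟨?_⟩⟩
    exact (Subgroup.topEquiv.symm.trans (MulEquiv.subgroupCongr hNtop.symm)).trans e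
  · -- index two
    refine ⟨F, i1, i2, h3, Or.inr ?_⟩
    obtain ⟨v, hv⟩ : ∃ v, v = w' * k := ⟨_, rfl⟩
    have hvN : v ∉ N := by
      intro h
      apply hkN
      have : k = w'⁻¹ * v := by rw [hv]; group
      rw [this]; exact mul_mem (inv_mem hwN) h
    have hvv : v * v = 1 := by
      rw [hv]
      calc w' * k * (w' * k) = (w' * k * w'⁻¹) * (w' * w') * k := by group
        _ = 1 := by rw [d.inv k hκC, hww, mul_one, inv_mul_cancel]
    have hv2 : orderOf v = 2 := inv_of (fun h => hvN (h ▸ one_mem N)) hvv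
    have hvi := inv_inv' hv2
    have hcov : ∀ g : G, g ∈ N ∨ v * g ∈ N := by
      intro g
      obtain ⟨n, hn, i, rfl⟩ := hG g
      rcases Int.even_or_odd' i with ⟨m, rfl | rfl⟩
      · left
        rw [zpow_mul, zpow_two]
        exact mul_mem hn (zpow_mem hkk m)
      · right
        rw [zpow_add, zpow_mul, zpow_two, zpow_one, hv]
        have h1 : w' * k * (n * ((k * k) ^ m * k)) = w' * (k * (n * (k * k) ^ m) * k⁻¹) * (k * k) := by group
        rw [h1]
        exact mul_mem (mul_mem hwN (hN.conj_mem _ (mul_mem hn (zpow_mem hkk m)) k)) hkk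
    -- the centralizer of N is trivial
    have hgg : ∀ g : G, g * g ∈ N := by
      intro g
      rcases hcov g with h | h
      · exact mul_mem h h
      · have h1 : g * g = (v⁻¹ * (v * g) * v⁻¹⁻¹) * (v⁻¹ * v⁻¹) * (v * g) := by group
        rw [h1, hvi, hvv, mul_one]
        have h2 := hN.conj_mem _ h v⁻¹
        rw [hvi] at h2
        exact mul_mem h2 h
    have hcent : ∀ z : G, (∀ n ∈ N, z * n = n * z) → z = 1 := by
      have hZN : ∀ z ∈ N, (∀ n ∈ N, z * n = n * z) → z = 1 := by
        intro z hzN hz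
        have h1 : (⟨z, hzN⟩ : N) ∈ Subgroup.center N := by
          rw [Subgroup.mem_center_iff]
          rintro ⟨n, hn⟩
          exact Subtype.ext (hz n hn).symm
        have h2 : Subgroup.center N = ⊥ := by
          rcases (inferInstance : (Subgroup.center N).Normal).eq_bot_or_eq_top with h | h
          · exact h
          · exfalso
            apply hnsol
            apply Group.isSolvable_of_comm
            intro x y
            have : y ∈ Subgroup.center N := by rw [h]; exact mem_top y
            exact Subgroup.mem_center_iff.1 this x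
        rw [h2, mem_bot] at h1
        exact congrArg Subtype.val h1
      have hZ : Subgroup.centralizer (N : Set G) = ⊥ := by
        apply d.ns _ inferInstance
        apply Group.isSolvable_of_comm
        have hz2 : ∀ z ∈ Subgroup.centralizer (N : Set G), z * z = 1 := by
          intro z hz
          apply hZN _ (hgg z)
          intro n hn
          have h1 : Commute z n := (mem_centralizer_iff.1 hz n hn).symm
          exact h1.mul_left h1
        rintro ⟨x, hx⟩ ⟨y, hy⟩
        apply Subtype.ext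
        change x * y = y * x
        have h1 := hz2 _ (mul_mem hx hy)
        have h2 : (x * y)⁻¹ = x * y := inv_eq_of_mul_eq_one_right h1
        rw [mul_inv_rev, inv_eq_of_mul_eq_one_right (hz2 x hx), inv_eq_of_mul_eq_one_right (hz2 y hy)] at h2
        exact h2.symm
      intro z hz
      have h1 : z ∈ Subgroup.centralizer (N : Set G) := by
        rw [mem_centralizer_iff]
        intro n hn
        exact (hz n hn).symm
      rw [hZ, mem_bot] at h1
      exact h1
    -- the embedding
    let Θ : G →* MulAut (Matrix.ProjectiveSpecialLinearGroup (Fin 2) F) :=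
      (MulAut.congr e).toMonoidHom.comp (MulAut.conjNormal (H := N))
    have hΘ : ∀ (g : G) (n : N), Θ g (e n) = e ⟨g * n * g⁻¹, hN.conj_mem n n.2 g⟩ := by
      intro g n
      change e ((MulAut.conjNormal g) (e.symm (e n))) = _
      rw [e.symm_apply_apply]
      congr 1
    have hinj : Function.Injective Θ := by
      rw [injective_iff_map_eq_one]
      intro g hg
      apply hcent
      intro n hn
      have h1 := hΘ g ⟨n, hn⟩
      rw [hg, MulAut.one_apply] at h1
      have h2 := congrArg Subtype.val (e.injective h1)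
      have h4 : n = g * n * g⁻¹ := h2
      rw [eq_mul_inv_iff_mul_eq] at h4
      exact h4.symm
    have hΘN : ∀ n : N, Θ (n : G) = MulAut.conj (e n) := by
      intro n
      ext x : 1
      obtain ⟨m, rfl⟩ := e.surjective x
      rw [hΘ, MulAut.conj_apply, ← map_mul, ← map_inv, ← map_mul]
      rfl
    have hv1 : Θ v * Θ v = 1 := by rw [← map_mul, hvv, map_one]
    rcases aut_two hodd h3 (Θ v) hv1 with ⟨g₀, hg₀⟩ | ⟨p, q, hp, hq, hqo, hq1, hpq⟩
    · -- inner-diagonal
      apply pgl_of_range Θ hinj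
      have hinn : ∀ h : GL (Fin 2) F, (∃ c : Fˣ, Matrix.GeneralLinearGroup.det h = c ^ 2) → ∃ n : N, Θ (n : G) = cP h := by
        intro h hc
        obtain ⟨x, hx⟩ := (cP_mem_Inn_iff (le_refl 2) h).2 hc
        obtain ⟨n, rfl⟩ := e.surjective x
        exact ⟨n, by rw [hΘN]; exact hx⟩
      apply le_antisymm
      · rintro _ ⟨g, rfl⟩
        have hNc : ∀ n : N, Θ (n : G) ∈ cPrange F 2 := by
          intro n
          rw [hΘN]
          obtain ⟨s, hs⟩ := mkP_surjective (e n)
          rw [← hs, conj_mkP]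
          exact ⟨_, rfl⟩
        rcases hcov g with h | h
        · exact hNc ⟨g, h⟩
        · have h1 : g = v⁻¹ * (v * g) := by group
          rw [h1, map_mul, map_inv, hg₀]
          exact mul_mem (inv_mem ⟨g₀, rfl⟩) (hNc ⟨v * g, h⟩)
      · rintro _ ⟨h, rfl⟩
        change cP h ∈ Θ.range
        have hns : ¬ ∃ c : Fˣ, Matrix.GeneralLinearGroup.det g₀ = c ^ 2 := by
          intro hc
          obtain ⟨n, hn⟩ := hinn g₀ hc
          rw [← hg₀] at hn
          apply hvN
          rw [← hinj hn]; exact n.2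
        by_cases hc : ∃ c : Fˣ, Matrix.GeneralLinearGroup.det h = c ^ 2
        · obtain ⟨n, hn⟩ := hinn h hc
          exact ⟨n, hn⟩
        · have h1 := unit_sq hns hc
          rw [← map_mul] at h1
          obtain ⟨n, hn⟩ := hinn _ h1
          refine ⟨v⁻¹ * n, ?_⟩
          rw [map_mul, map_inv, hn, hg₀, cP_mul, inv_mul_cancel_left]
    · -- field automorphism
      exfalso
      obtain ⟨p, rfl⟩ := e.surjective p
      obtain ⟨q, rfl⟩ := e.surjective q
      rw [hΘ] at hp hq
      have hp' : v * (p : G) = p * v := by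
        have := congrArg Subtype.val (e.injective hp)
        have h4 : v * (p : G) * v⁻¹ = p := this
        rwa [mul_inv_eq_iff_eq_mul] at h4
      have hq' : v * (q : G) = q * v := by
        have := congrArg Subtype.val (e.injective hq)
        have h4 : v * (q : G) * v⁻¹ = q := this
        rwa [mul_inv_eq_iff_eq_mul] at h4
      have hqo' : Odd (orderOf (q : G)) := by
        rw [Subgroup.orderOf_coe, ← MulEquiv.orderOf_eq e]; exact hqo
      have hq1' : (q : G) ≠ 1 := by
        intro h0
        apply hq1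
        have : q = 1 := Subtype.ext h0
        rw [this, map_one]
      have h5 := nz_odd d.nc hv2 hq'.symm hqo' hq1'
      have h6 : (p : G) ∈ normalizer ((zpowers (q : G) : Subgroup G) : Set G) := by
        rw [h5, mem_centralizer_singleton_iff]; exact hp'.symm
      rw [mem_norm_zpowers] at h6
      obtain ⟨m, hm⟩ := mem_zpowers_iff.1 h6
      apply hpq
      refine mem_zpowers_iff.2 ⟨m, ?_⟩
      rw [← map_zpow, ← map_inv, ← map_mul, ← map_mul]
      congr 1
      apply Subtype.ext
      rw [SubgroupClass.coe_zpow, hm]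
      rfl

end DD

theorem main (nc : NC G) (ns : NS G) [Nontrivial G] : Concl G := by
  have : Fact (Nat.Prime 2) := ⟨Nat.prime_two⟩
  obtain ⟨S⟩ : Nonempty (Sylow 2 G) := inferInstance
  rcases dichotomy nc ns S with h | h
  · exact h
  · obtain ⟨a, w, C, d⟩ := h.dd nc ns
    exact d.final

end Cfsg.Agent.H4.RA
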