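import Cfsg.Agent.H3.TI
import Cfsg.Agent.H3.Perm

/-!
# The group of order 108 inside `S₃³` and some of its generalized characters (S3701)
-/

set_option autoImplicit false

namespace Cfsg.Agent.H4.SA

open Cfsg Cfsg.Agent.H3

/-- `S₃` -/
abbrev S3 := Equiv.Perm (Fin 3)
/-- `S₃³` -/
abbrev W := Fin 3 → S3

/-- product of signs -/
def sgnHom : W →* ℤˣ where
  toFun w := Equiv.Perm.sign (w 0) * Equiv.Perm.sign (w 1) * Equiv.Perm.sign (w 2)
  map_one' := by simp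
  map_mul' x y := by
    simp only [Pi.mul_apply, Equiv.Perm.sign_mul]
    ac_rfl

/-- the subgroup of order 108 -/
def K : Subgroup W := sgnHom.ker

instance : DecidablePred (· ∈ K) := fun w => by
  unfold K
  exact decidable_of_iff (sgnHom w = 1) Iff.rfl

/-- blocks -/
def eqv : (Σ _ : Fin 3, Fin 3) ≃ Fin 9 :=
  (Equiv.sigmaEquivProd (Fin 3) (Fin 3)).trans finProdFinEquiv

/-- block embedding -/
def Psi : W →* Equiv.Perm (Fin 9) :=
  eqv.permCongrHom.toMonoidHom.comp (Equiv.Perm.sigmaCongrRightHom (fun _ : Fin 3 => Fin 3))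

theorem Psi_inj : Function.Injective Psi :=
  eqv.permCongrHom.injective.comp Equiv.Perm.sigmaCongrRightHom_injective

/-- generators -/
def t0 : W := ![Equiv.swap 0 1 * Equiv.swap 1 2, 1, 1]
/-- generators -/
def t1 : W := ![1, Equiv.swap 0 1 * Equiv.swap 1 2, 1]
/-- generators -/
def t2 : W := ![1, 1, Equiv.swap 0 1 * Equiv.swap 1 2]
/-- generators -/
def f1 : W := ![Equiv.swap 0 1, Equiv.swap 0 1, 1]
/-- generators -/
def f2 : W := ![Equiv.swap 0 1, 1, Equiv.swap 0 1]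

theorem Psi_t0 : Psi t0 = Equiv.swap (0 : Fin 9) 1 * Equiv.swap 1 2 := by decide +kernel
theorem Psi_t1 : Psi t1 = Equiv.swap (3 : Fin 9) 4 * Equiv.swap 4 5 := by decide +kernel
theorem Psi_t2 : Psi t2 = Equiv.swap (6 : Fin 9) 7 * Equiv.swap 7 8 := by decide +kernel
theorem Psi_f1 : Psi f1 = Equiv.swap (0 : Fin 9) 1 * Equiv.swap 3 4 := by decide +kernel
theorem Psi_f2 : Psi f2 = Equiv.swap (0 : Fin 9) 1 * Equiv.swap 6 7 := by decide +kernel

theorem gen_words : ∀ k : W, sgnHom k = 1 → ∃ a b c : Fin 3, ∃ d e : Fin 2,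
    k = t0 ^ (a : ℕ) * t1 ^ (b : ℕ) * t2 ^ (c : ℕ) * f1 ^ (d : ℕ) * f2 ^ (e : ℕ) := by
  decide +kernel

theorem closure_gens : Subgroup.closure ({t0, t1, t2, f1, f2} : Set W) = K := by
  apply le_antisymm
  · rw [Subgroup.closure_le]
    intro x hx
    simp only [Set.mem_insert_iff, Set.mem_singleton_iff] at hx
    rcases hx with rfl | rfl | rfl | rfl | rfl
    · exact (by decide +kernel : t0 ∈ K)
    · exact (by decide +kernel : t1 ∈ K)
    · exact (by decide +kernel : t2 ∈ K)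
    · exact (by decide +kernel : f1 ∈ K)
    · exact (by decide +kernel : f2 ∈ K)
  · intro k hk
    obtain ⟨a, b, c, d, e, rfl⟩ := gen_words k hk
    refine mul_mem (mul_mem (mul_mem (mul_mem ?_ ?_) ?_) ?_) ?_ <;>
      exact Subgroup.pow_mem _ (Subgroup.subset_closure (by simp)) _

theorem closure_eq : Subgroup.closure ({Equiv.swap (0 : Fin 9) 1 * Equiv.swap 1 2,
    Equiv.swap (3 : Fin 9) 4 * Equiv.swap 4 5, Equiv.swap (6 : Fin 9) 7 * Equiv.swap 7 8,
    Equiv.swap (0 : Fin 9) 1 * Equiv.swap 3 4, Equiv.swap (0 : Fin 9) 1 * Equiv.swap 6 7} :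
      Set (Equiv.Perm (Fin 9))) = K.map Psi := by
  rw [← closure_gens, MonoidHom.map_closure, ← Psi_t0, ← Psi_t1, ← Psi_t2, ← Psi_f1, ← Psi_f2]
  congr 1
  simp only [Set.image_insert_eq, Set.image_singleton]

/-- sign as an integer -/
def sZ (x : S3) : ℤ := ((Equiv.Perm.sign x : ℤˣ) : ℤ)
/-- the character of degree 2 -/
def rZ (x : S3) : ℤ := ((Finset.univ.filter (fun i => x i = i)).card : ℤ) - 1
/-- `ρ - 1 - s` -/
def gZ (x : S3) : ℤ := rZ x - 1 - sZ x

theorem sZ_gen : IsGeneralizedCharacter S3 (fun x => ((sZ x : ℤ) : ℂ)) := by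
  have := isIrr_of_hom ((Units.map (Int.castRingHom ℂ : ℤ →* ℂ)).comp
    (Equiv.Perm.sign : S3 →* ℤˣ))
  exact isGen_of_irr this

theorem rZ_gen : IsGeneralizedCharacter S3 (fun x => ((rZ x : ℤ) : ℂ)) := by
  have h1 := isGen_of_char (isChar_permChar (G := S3) (Fin 3))
  have h2 := isGen_sub h1 (isGen_one (G := S3))
  convert h2 using 1
  ext x
  simp only [Pi.sub_apply, permChar, rZ, Int.cast_sub, Int.cast_natCast, Int.cast_one]
  congr 2
  rw [Nat.card_eq_fintype_card, Fintype.card_subtype]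
  congr 1

theorem gZ_gen : IsGeneralizedCharacter S3 (fun x => ((gZ x : ℤ) : ℂ)) := by
  have h2 := isGen_sub (isGen_sub rZ_gen (isGen_one (G := S3))) sZ_gen
  convert h2 using 1
  ext x
  simp [gZ]

/-- the functions on `W` -/
def al : Fin 8 → W → ℤ
  | 0, w => gZ (w 0)
  | 1, w => gZ (w 1)
  | 2, w => gZ (w 2)
  | 3, w => gZ (w 0) * sZ (w 1)
  | 4, w => gZ (w 1) * sZ (w 2)
  | 5, w => gZ (w 2) * sZ (w 0)
  | 6, w => rZ (w 0) * rZ (w 1) - (1 + sZ (w 0)) * (1 + sZ (w 1))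
  | 7, w => rZ (w 0) * rZ (w 2) - (1 + sZ (w 0)) * (1 + sZ (w 2))

theorem al_gen (i : Fin 8) : IsGeneralizedCharacter W (fun w => ((al i w : ℤ) : ℂ)) := by
  have hg : ∀ j : Fin 3, IsGeneralizedCharacter W (fun w : W => ((gZ (w j) : ℤ) : ℂ)) :=
    fun j => isGen_comp gZ_gen (Pi.evalMonoidHom (fun _ : Fin 3 => S3) j)
  have hs : ∀ j : Fin 3, IsGeneralizedCharacter W (fun w : W => ((sZ (w j) : ℤ) : ℂ)) :=
    fun j => isGen_comp sZ_gen (Pi.evalMonoidHom (fun _ : Fin 3 => S3) j)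
  have hr : ∀ j : Fin 3, IsGeneralizedCharacter W (fun w : W => ((rZ (w j) : ℤ) : ℂ)) :=
    fun j => isGen_comp rZ_gen (Pi.evalMonoidHom (fun _ : Fin 3 => S3) j)
  have hc : ∀ j : Fin 3, IsGeneralizedCharacter W (fun w : W =>
      ((rZ (w 0) * rZ (w j) - (1 + sZ (w 0)) * (1 + sZ (w j)) : ℤ) : ℂ)) := by
    intro j
    have := isGen_sub (isGen_mul (hr 0) (hr j)) (isGen_mul (isGen_add (isGen_one (G := W)) (hs 0))
      (isGen_add (isGen_one (G := W)) (hs j)))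
    convert this using 1
    ext w; simp
  have hb : ∀ i j : Fin 3, IsGeneralizedCharacter W (fun w : W =>
      ((gZ (w i) * sZ (w j) : ℤ) : ℂ)) := by
    intro i j
    have := isGen_mul (hg i) (hs j)
    convert this using 1
    ext w; simp
  fin_cases i
  · exact hg 0
  · exact hg 1
  · exact hg 2
  · exact hb 0 1
  · exact hb 1 2
  · exact hb 2 0
  · exact hc 1
  · exact hc 2

/-- Gram matrix -/
def gm : Fin 8 → Fin 8 → ℤ := ![![3, 1, 1, 0, 1, 1, 2, 2], ![1, 3, 1, 1, 0, 1, 2, 2],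
  ![1, 1, 3, 1, 1, 0, 2, 2], ![0, 1, 1, 3, 1, 1, 2, 2], ![1, 0, 1, 1, 3, 1, 2, 2],
  ![1, 1, 0, 1, 1, 3, 2, 2], ![2, 2, 2, 2, 2, 2, 5, 4], ![2, 2, 2, 2, 2, 2, 4, 5]]

theorem gram_eq : ∀ i j : Fin 8, (∑ w : W, if sgnHom w = 1 then al i w * al j w else 0) =
    108 * gm i j := by
  decide +kernel

theorem one_eq : ∀ i : Fin 8, (∑ w : W, if sgnHom w = 1 then al i w else 0) =
    108 * (![-1, -1, -1, 0, 0, 0, -1, -1] : Fin 8 → ℤ) i := by
  decide +kernel

theorem supp : ∀ w : W, sgnHom w = 1 → w ^ 4 = 1 → ∀ i : Fin 8, al i w = 0 := by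
  decide +kernel

theorem card_K : Fintype.card {w : W // sgnHom w = 1} = 108 := by decide +kernel

end Cfsg.Agent.H4.SA
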