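import Mathlib

/-!
# Combinatorics of integral vectors with a prescribed Gram matrix (S3701)
-/

set_option autoImplicit false

namespace Cfsg.Agent.H4.SC

open Matrix

variable {I : Type*} [Fintype I]

theorem unit_eq {A C : I → ℤ} (hA : A ⬝ᵥ A = 1) (hC : C ⬝ᵥ C = 1) (h : A ⬝ᵥ C = 1) : C = A := by
  have h1 : (C - A) ⬝ᵥ (C - A) = 0 := by
    rw [sub_dotProduct, dotProduct_sub, dotProduct_sub, dotProduct_comm C A]; omega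
  have h2 := dotProduct_self_eq_zero.mp h1
  exact sub_eq_zero.mp h2

theorem unit_neg {A C : I → ℤ} (hA : A ⬝ᵥ A = 1) (hC : C ⬝ᵥ C = 1) (h : A ⬝ᵥ C = -1) :
    C = -A := by
  have h1 : (C + A) ⬝ᵥ (C + A) = 0 := by
    rw [add_dotProduct, dotProduct_add, dotProduct_add, dotProduct_comm C A]; omega
  have h2 := dotProduct_self_eq_zero.mp h1
  exact eq_neg_of_add_eq_zero_left h2

theorem self_nonneg (A : I → ℤ) : 0 ≤ A ⬝ᵥ A := by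
  unfold dotProduct
  exact Finset.sum_nonneg fun i _ => mul_self_nonneg _

theorem unit_bd {A C : I → ℤ} (hA : A ⬝ᵥ A = 1) (hC : C ⬝ᵥ C = 1) :
    A ⬝ᵥ C = -1 ∨ A ⬝ᵥ C = 0 ∨ A ⬝ᵥ C = 1 := by
  have h1 : 0 ≤ (A - C) ⬝ᵥ (A - C) := self_nonneg _
  have h2 : 0 ≤ (A + C) ⬝ᵥ (A + C) := self_nonneg _
  rw [sub_dotProduct, dotProduct_sub, dotProduct_sub, dotProduct_comm C A] at h1
  rw [add_dotProduct, dotProduct_add, dotProduct_add, dotProduct_comm C A] at h2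
  omega

theorem split2 {v : I → ℤ} (hv : v ⬝ᵥ v = 2) :
    ∃ A B : I → ℤ, A ⬝ᵥ A = 1 ∧ B ⬝ᵥ B = 1 ∧ A ⬝ᵥ B = 0 ∧ v = A + B := by
  classical
  obtain ⟨i, hi⟩ : ∃ i, v i ≠ 0 := by
    by_contra hcon
    push Not at hcon
    have : v = 0 := by ext i; exact hcon i
    rw [this] at hv
    simp at hv
  have h1 : v ⬝ᵥ v = v i * v i + ∑ x ∈ Finset.univ.erase i, v x * v x :=
    (Finset.add_sum_erase _ (fun x => v x * v x) (Finset.mem_univ i)).symm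
  have h3 : 0 ≤ ∑ x ∈ Finset.univ.erase i, v x * v x :=
    Finset.sum_nonneg fun x _ => mul_self_nonneg _
  have h4 : v i * v i ≤ 2 := by omega
  have h5 : v i = 1 ∨ v i = -1 := by
    have h6 : v i ≤ 1 := by nlinarith
    have h7 : -1 ≤ v i := by nlinarith
    omega
  have h6 : v i * v i = 1 := by rcases h5 with h | h <;> rw [h] <;> rfl
  refine ⟨Pi.single i (v i), v - Pi.single i (v i), ?_, ?_, ?_, by simp⟩
  · rw [dotProduct_single, Pi.single_eq_same, h6]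
  · rw [sub_dotProduct, dotProduct_sub, dotProduct_sub, dotProduct_single, dotProduct_single,
      single_dotProduct, Pi.single_eq_same, hv, h6]; rfl
  · rw [dotProduct_sub, dotProduct_single, single_dotProduct, Pi.single_eq_same, h6]; rfl

theorem bessel {ι : Type*} [Fintype ι] [DecidableEq ι] (u : ι → I → ℤ)
    (hu : ∀ k l, u k ⬝ᵥ u l = if k = l then 1 else 0) (v : I → ℤ) :
    (v - ∑ k, (v ⬝ᵥ u k) • u k) ⬝ᵥ (v - ∑ k, (v ⬝ᵥ u k) • u k) =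
      v ⬝ᵥ v - ∑ k, (v ⬝ᵥ u k) * (v ⬝ᵥ u k) := by
  have h1 : v ⬝ᵥ (∑ k, (v ⬝ᵥ u k) • u k) = ∑ k, (v ⬝ᵥ u k) * (v ⬝ᵥ u k) := by
    rw [dotProduct_sum]
    refine Finset.sum_congr rfl fun k _ => ?_
    rw [dotProduct_smul, smul_eq_mul]
  have h2 : (∑ k, (v ⬝ᵥ u k) • u k) ⬝ᵥ (∑ k, (v ⬝ᵥ u k) • u k) =
      ∑ k, (v ⬝ᵥ u k) * (v ⬝ᵥ u k) := by
    rw [sum_dotProduct]
    refine Finset.sum_congr rfl fun k _ => ?_
    rw [smul_dotProduct, smul_eq_mul, dotProduct_sum]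
    congr 1
    have h3 : ∀ l, u k ⬝ᵥ ((v ⬝ᵥ u l) • u l) = if k = l then v ⬝ᵥ u l else 0 := by
      intro l
      rw [dotProduct_smul, hu, smul_eq_mul]
      split_ifs <;> simp
    rw [Finset.sum_congr rfl fun l _ => h3 l]
    simp
  rw [sub_dotProduct, dotProduct_sub, dotProduct_sub, dotProduct_comm (∑ k, (v ⬝ᵥ u k) • u k) v,
    h1, h2]
  ring

/-- one half of the orthogonality of two decompositions -/
theorem pair_aux {A B C D b : I → ℤ} (hA : A ⬝ᵥ A = 1) (hB : B ⬝ᵥ B = 1) (hC : C ⬝ᵥ C = 1)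
    (hD : D ⬝ᵥ D = 1) (hAB : A ⬝ᵥ B = 0) (hCD : C ⬝ᵥ D = 0) (h : (A + B) ⬝ᵥ (C + D) = 0)
    (h0 : b ⬝ᵥ (A + B) = 0) (h1 : b ⬝ᵥ (C + D) = 1) : A ⬝ᵥ C = 0 := by
  rw [add_dotProduct, dotProduct_add, dotProduct_add] at h
  rw [dotProduct_add] at h0 h1
  rcases unit_bd hA hC with h2 | h2 | h2
  · exfalso
    have h3 := unit_neg hA hC h2
    subst h3
    rw [neg_dotProduct] at hCD
    rw [dotProduct_neg B A, dotProduct_comm B A, hAB] at h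
    have h4 := unit_eq hB hD (by omega)
    subst h4
    rw [dotProduct_neg] at h1
    omega
  · exact h2
  · exfalso
    have h3 := unit_eq hA hC h2
    subst h3
    rw [dotProduct_comm B C, hAB] at h
    have h4 := unit_neg hB hD (by omega)
    subst h4
    rw [dotProduct_neg] at h1
    omega

theorem pair_orth {A B C D b : I → ℤ} (hA : A ⬝ᵥ A = 1) (hB : B ⬝ᵥ B = 1) (hC : C ⬝ᵥ C = 1)
    (hD : D ⬝ᵥ D = 1) (hAB : A ⬝ᵥ B = 0) (hCD : C ⬝ᵥ D = 0) (h : (A + B) ⬝ᵥ (C + D) = 0)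
    (h0 : b ⬝ᵥ (A + B) = 0) (h1 : b ⬝ᵥ (C + D) = 1) :
    A ⬝ᵥ C = 0 ∧ A ⬝ᵥ D = 0 ∧ B ⬝ᵥ C = 0 ∧ B ⬝ᵥ D = 0 := by
  refine ⟨pair_aux hA hB hC hD hAB hCD h h0 h1, ?_, ?_, ?_⟩
  · rw [add_comm C D] at h h1
    exact pair_aux hA hB hD hC hAB (by rw [dotProduct_comm]; exact hCD) h h0 h1
  · rw [add_comm A B] at h h0
    exact pair_aux hB hA hC hD (by rw [dotProduct_comm]; exact hAB) hCD h h0 h1
  · rw [add_comm A B, add_comm C D] at h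
    rw [add_comm A B] at h0
    rw [add_comm C D] at h1
    exact pair_aux hB hA hD hC (by rw [dotProduct_comm]; exact hAB)
      (by rw [dotProduct_comm]; exact hCD) h h0 h1

/-- the case analysis in integers -/
theorem int_cases (p01 p02 p10 p12 p20 p21 m01 m02 m12 w0 w1 w2 x0 x1 x2 z s0 s1 s2 : ℤ)
    (h01 : p01 = 0 ∨ p01 = 1) (h02 : p02 = 0 ∨ p02 = 1) (h10 : p10 = 0 ∨ p10 = 1)
    (h12 : p12 = 0 ∨ p12 = 1) (h20 : p20 = 0 ∨ p20 = 1) (h21 : p21 = 0 ∨ p21 = 1)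
    (e0 : p01 + p02 + w0 = 2) (e1 : p10 + p12 + w1 = 2) (e2 : p20 + p21 + w2 = 2)
    (hw0 : w0 ≤ 1) (hw1 : w1 ≤ 1) (hw2 : w2 ≤ 1)
    (g01 : p02 * p12 + (1 - p02) * (1 - p12) + m01 = 1)
    (g02 : p01 * p21 + (1 - p01) * (1 - p21) + m02 = 1)
    (g12 : p10 * p20 + (1 - p10) * (1 - p20) + m12 = 1)
    (k0 : w0 = 1 → m01 = w1 ∧ m02 = w2 ∧ s0 = z)
    (k1 : w1 = 1 → m01 = w0 ∧ m12 = w2 ∧ s1 = z)
    (k2 : w2 = 1 → m02 = w0 ∧ m12 = w1 ∧ s2 = z)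
    (c0 : p01 * x1 + (1 - p01) * (1 - x1) + (p02 * x2 + (1 - p02) * (1 - x2)) + s0 = 2)
    (c1 : p10 * x0 + (1 - p10) * (1 - x0) + (p12 * x2 + (1 - p12) * (1 - x2)) + s1 = 2)
    (c2 : p20 * x0 + (1 - p20) * (1 - x0) + (p21 * x1 + (1 - p21) * (1 - x1)) + s2 = 2)
    (cz : x0 + x1 + x2 + z = 3) :
    p01 = 1 ∧ p02 = 1 ∧ p10 = 1 ∧ p12 = 1 ∧ p20 = 1 ∧ p21 = 1 := by
  rcases h01 with rfl | rfl <;> rcases h02 with rfl | rfl <;> rcases h10 with rfl | rfl <;>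
    rcases h12 with rfl | rfl <;> rcases h20 with rfl | rfl <;> rcases h21 with rfl | rfl <;>
    omega

/-- Gram data -/
structure Gram (o : I → ℤ) (a b : Fin 3 → I → ℤ) (c c' : I → ℤ) : Prop where
  ho : o ⬝ᵥ o = 1
  hao : ∀ i, a i ⬝ᵥ o = -1
  hbo : ∀ i, b i ⬝ᵥ o = 0
  hco : c ⬝ᵥ o = -1
  hco' : c' ⬝ᵥ o = -1
  haa : ∀ i, a i ⬝ᵥ a i = 3
  haa' : ∀ i j, i ≠ j → a i ⬝ᵥ a j = 1
  hbb : ∀ i, b i ⬝ᵥ b i = 3
  hbb' : ∀ i j, i ≠ j → b i ⬝ᵥ b j = 1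
  hba : ∀ i, b i ⬝ᵥ a i = 0
  hba' : ∀ i j, i ≠ j → b i ⬝ᵥ a j = 1
  hca : ∀ i, c ⬝ᵥ a i = 2
  hcb : ∀ i, c ⬝ᵥ b i = 2
  hca' : ∀ i, c' ⬝ᵥ a i = 2
  hcb' : ∀ i, c' ⬝ᵥ b i = 2
  hcc : c ⬝ᵥ c = 5
  hcc' : c' ⬝ᵥ c = 4

/-- decompositions of `a i + o` -/
structure Dec (o : I → ℤ) (a A B : Fin 3 → I → ℤ) : Prop where
  hA : ∀ i, A i ⬝ᵥ A i = 1
  hB : ∀ i, B i ⬝ᵥ B i = 1
  hAB : ∀ i, A i ⬝ᵥ B i = 0
  h : ∀ i, a i + o = A i + B i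

variable {o : I → ℤ} {a b : Fin 3 → I → ℤ} {c c' : I → ℤ}

theorem Dec.orth (g : Gram o a b c c') {A B : Fin 3 → I → ℤ} (d : Dec o a A B)
    (i j : Fin 3) (hij : i ≠ j) :
    A i ⬝ᵥ A j = 0 ∧ A i ⬝ᵥ B j = 0 ∧ B i ⬝ᵥ A j = 0 ∧ B i ⬝ᵥ B j = 0 := by
  refine pair_orth (b := b i) (d.hA i) (d.hB i) (d.hA j) (d.hB j) (d.hAB i) (d.hAB j) ?_ ?_ ?_
  · rw [← d.h i, ← d.h j, add_dotProduct, dotProduct_add, dotProduct_add, g.haa' i j hij, g.hao i,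
      dotProduct_comm o (a j), g.hao j, g.ho]; rfl
  · rw [← d.h i, dotProduct_add, g.hba, g.hbo]; rfl
  · rw [← d.h j, dotProduct_add, g.hba' i j hij, g.hbo]; rfl

theorem Dec.orthU (g : Gram o a b c c') {A B : Fin 3 → I → ℤ} (d : Dec o a A B)
    (k l : Fin 3 ⊕ Fin 3) :
    (Sum.elim A B k : I → ℤ) ⬝ᵥ (Sum.elim A B l) = if k = l then 1 else 0 := by
  rcases k with i | i <;> rcases l with j | j
  · by_cases hij : i = j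
    · subst hij; simpa using d.hA i
    · simp only [Sum.elim_inl, Sum.inl.injEq, hij, if_false]
      exact (d.orth g i j hij).1
  · by_cases hij : i = j
    · subst hij; simpa using d.hAB i
    · simp only [Sum.elim_inl, Sum.elim_inr, reduceCtorEq, if_false]
      exact (d.orth g i j hij).2.1
  · by_cases hij : i = j
    · subst hij
      simp only [Sum.elim_inl, Sum.elim_inr, reduceCtorEq, if_false]
      rw [dotProduct_comm]; exact d.hAB i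
    · simp only [Sum.elim_inl, Sum.elim_inr, reduceCtorEq, if_false]
      exact (d.orth g i j hij).2.2.1
  · by_cases hij : i = j
    · subst hij; simpa using d.hB i
    · simp only [Sum.elim_inr, Sum.inr.injEq, hij, if_false]
      exact (d.orth g i j hij).2.2.2

/-- the projection -/
def pr (A B : Fin 3 → I → ℤ) (v : I → ℤ) : I → ℤ :=
  ∑ k : Fin 3 ⊕ Fin 3, (v ⬝ᵥ (Sum.elim A B k)) • (Sum.elim A B k)

theorem Dec.bessel (g : Gram o a b c c') {A B : Fin 3 → I → ℤ} (d : Dec o a A B) (v : I → ℤ) :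
    (v - pr A B v) ⬝ᵥ (v - pr A B v) = v ⬝ᵥ v -
      ((v ⬝ᵥ A 0) * (v ⬝ᵥ A 0) + (v ⬝ᵥ A 1) * (v ⬝ᵥ A 1) + (v ⬝ᵥ A 2) * (v ⬝ᵥ A 2) +
      ((v ⬝ᵥ B 0) * (v ⬝ᵥ B 0) + (v ⬝ᵥ B 1) * (v ⬝ᵥ B 1) + (v ⬝ᵥ B 2) * (v ⬝ᵥ B 2))) := by
  have h := SC.bessel (Sum.elim A B) (d.orthU g) v
  simp only [Fintype.sum_sum_type, Fin.sum_univ_three, Sum.elim_inl, Sum.elim_inr] at h
  unfold pr
  simp only [Fintype.sum_sum_type, Fin.sum_univ_three, Sum.elim_inl, Sum.elim_inr]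
  exact h

theorem Dec.pr_dot (g : Gram o a b c c') {A B : Fin 3 → I → ℤ} (d : Dec o a A B) (v : I → ℤ)
    (k : Fin 3 ⊕ Fin 3) : (v - pr A B v) ⬝ᵥ (Sum.elim A B k) = 0 := by
  have h1 : pr A B v ⬝ᵥ (Sum.elim A B k) = v ⬝ᵥ (Sum.elim A B k) := by
    unfold pr
    rw [sum_dotProduct]
    have h3 : ∀ l, ((v ⬝ᵥ (Sum.elim A B l)) • (Sum.elim A B l)) ⬝ᵥ (Sum.elim A B k) =
        if l = k then (v ⬝ᵥ (Sum.elim A B l)) else 0 := by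
      intro l
      rw [smul_dotProduct, d.orthU g, smul_eq_mul]
      split_ifs <;> simp
    rw [Finset.sum_congr rfl fun l _ => h3 l]
    simp
  rw [sub_dotProduct, h1, sub_self]

/-- inner product of two vectors through their projections -/
theorem Dec.ip (g : Gram o a b c c') {A B : Fin 3 → I → ℤ} (d : Dec o a A B) (v w : I → ℤ) :
    v ⬝ᵥ w = ((v ⬝ᵥ A 0) * (w ⬝ᵥ A 0) + (v ⬝ᵥ A 1) * (w ⬝ᵥ A 1) + (v ⬝ᵥ A 2) * (w ⬝ᵥ A 2) +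
      ((v ⬝ᵥ B 0) * (w ⬝ᵥ B 0) + (v ⬝ᵥ B 1) * (w ⬝ᵥ B 1) + (v ⬝ᵥ B 2) * (w ⬝ᵥ B 2))) +
      (v - pr A B v) ⬝ᵥ (w - pr A B w) := by
  have h1 : (v - pr A B v) ⬝ᵥ pr A B w = 0 := by
    have hw : pr A B w = ∑ k : Fin 3 ⊕ Fin 3, (w ⬝ᵥ (Sum.elim A B k)) • (Sum.elim A B k) := rfl
    rw [hw, dotProduct_sum]
    refine Finset.sum_eq_zero fun k _ => ?_
    rw [dotProduct_smul, d.pr_dot g, smul_zero]
  have h2 : pr A B v ⬝ᵥ w = ((v ⬝ᵥ A 0) * (w ⬝ᵥ A 0) + (v ⬝ᵥ A 1) * (w ⬝ᵥ A 1) +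
      (v ⬝ᵥ A 2) * (w ⬝ᵥ A 2) + ((v ⬝ᵥ B 0) * (w ⬝ᵥ B 0) + (v ⬝ᵥ B 1) * (w ⬝ᵥ B 1) +
      (v ⬝ᵥ B 2) * (w ⬝ᵥ B 2))) := by
    unfold pr
    simp only [Fintype.sum_sum_type, Fin.sum_univ_three, Sum.elim_inl, Sum.elim_inr,
      add_dotProduct, smul_dotProduct, smul_eq_mul]
    simp only [dotProduct_comm _ w]
  rw [dotProduct_sub, h1, sub_zero, sub_dotProduct, h2]
  ring

theorem sq01 {x y : ℤ} (h : x + y = 1) : 1 ≤ x * x + y * y := by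
  have : y = 1 - x := by omega
  subst this
  rcases le_or_gt x 0 with h1 | h1 <;> nlinarith

theorem sq01' {x y : ℤ} (h : x + y = 1) (h2 : x * x + y * y ≤ 2) : x = 0 ∨ x = 1 := by
  have : y = 1 - x := by omega
  subst this
  have h3 : x ≤ 1 := by nlinarith
  have h4 : 0 ≤ x := by nlinarith
  omega

theorem comb (g : Gram o a b c c') : ∃ A B : Fin 3 → I → ℤ, Dec o a A B ∧
    (∀ i, b i ⬝ᵥ A i = 0) ∧ (∀ i j, i ≠ j → b i ⬝ᵥ A j = 1) := by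
  have ha2 : ∀ i, (a i + o) ⬝ᵥ (a i + o) = 2 := by
    intro i
    rw [add_dotProduct, dotProduct_add, dotProduct_add, g.haa i, g.hao i,
      dotProduct_comm o (a i), g.hao i, g.ho]; rfl
  choose A0 B0 h1 h2 h3 h4 using fun i => split2 (ha2 i)
  have d0 : Dec o a A0 B0 := ⟨h1, h2, h3, h4⟩
  have hfa : ∀ i, (c + o) ⬝ᵥ (a i + o) = 1 := by
    intro i
    rw [add_dotProduct, dotProduct_add, dotProduct_add, g.hca i, g.hco,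
      dotProduct_comm o (a i), g.hao i, g.ho]; rfl
  have hff : (c + o) ⬝ᵥ (c + o) = 4 := by
    rw [add_dotProduct, dotProduct_add, dotProduct_add, g.hcc, g.hco,
      dotProduct_comm o c, g.hco, g.ho]; rfl
  have hfa0 : ∀ i, (c + o) ⬝ᵥ A0 i + (c + o) ⬝ᵥ B0 i = 1 := by
    intro i
    rw [← dotProduct_add, ← d0.h i]; exact hfa i
  have hb0 := d0.bessel g (c + o)
  have hb1 := self_nonneg ((c + o) - pr A0 B0 (c + o))
  rw [hb0, hff] at hb1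
  have e0 := sq01 (hfa0 0)
  have e1 := sq01 (hfa0 1)
  have e2 := sq01 (hfa0 2)
  have hx : ∀ i, (c + o) ⬝ᵥ A0 i = 0 ∨ (c + o) ⬝ᵥ A0 i = 1 := by
    intro i
    apply sq01' (hfa0 i)
    fin_cases i
    · simp only [Fin.zero_eta, Fin.isValue]; linarith
    · simp only [Fin.mk_one, Fin.isValue]; linarith
    · simp only [Fin.reduceFinMk, Fin.isValue]; linarith
  have hch : ∀ i, ∃ A B : I → ℤ, A ⬝ᵥ A = 1 ∧ B ⬝ᵥ B = 1 ∧ A ⬝ᵥ B = 0 ∧ a i + o = A + B ∧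
      (c + o) ⬝ᵥ A = 1 ∧ (c + o) ⬝ᵥ B = 0 := by
    intro i
    have := hfa0 i
    rcases hx i with h | h
    · refine ⟨B0 i, A0 i, h2 i, h1 i, by rw [dotProduct_comm]; exact h3 i, by
        rw [add_comm (B0 i)]; exact h4 i, by omega, h⟩
    · exact ⟨A0 i, B0 i, h1 i, h2 i, h3 i, h4 i, h, by omega⟩
  choose A B k1 k2 k3 k4 k5 k6 using hch
  have d : Dec o a A B := ⟨k1, k2, k3, k4⟩
  -- the fourth constituent of `c + o`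
  obtain ⟨W, hW⟩ : ∃ W, W = (c + o) - pr A B (c + o) := ⟨_, rfl⟩
  have hWW : W ⬝ᵥ W = 1 := by
    rw [hW, d.bessel g, hff, k5, k5, k5, k6, k6, k6]; rfl
  have hWu : ∀ k, W ⬝ᵥ Sum.elim A B k = 0 := by
    intro k; rw [hW]; exact d.pr_dot g _ k
  have hWA : ∀ i, W ⬝ᵥ A i = 0 := fun i => hWu (Sum.inl i)
  have hWB : ∀ i, W ⬝ᵥ B i = 0 := fun i => hWu (Sum.inr i)
  have hprW : pr A B W = 0 := by
    unfold pr
    exact Finset.sum_eq_zero fun k _ => by rw [hWu, zero_smul]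
  -- coefficients of the `b i`
  have hbd : ∀ i, b i ⬝ᵥ A i + b i ⬝ᵥ B i = 0 := by
    intro i
    rw [← dotProduct_add, ← d.h i, dotProduct_add, g.hba, g.hbo]; rfl
  have hbe : ∀ i j, i ≠ j → b i ⬝ᵥ A j + b i ⬝ᵥ B j = 1 := by
    intro i j hij
    rw [← dotProduct_add, ← d.h j, dotProduct_add, g.hba' i j hij, g.hbo]; rfl
  obtain ⟨M, hM⟩ : ∃ M : Fin 3 → I → ℤ, M = fun i => b i - pr A B (b i) := ⟨_, rfl⟩
  have hMb : ∀ i, 0 ≤ M i ⬝ᵥ M i := fun i => self_nonneg _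
  have hMM : ∀ i, M i ⬝ᵥ M i = 3 -
      ((b i ⬝ᵥ A 0) * (b i ⬝ᵥ A 0) + (b i ⬝ᵥ A 1) * (b i ⬝ᵥ A 1) + (b i ⬝ᵥ A 2) * (b i ⬝ᵥ A 2) +
      ((b i ⬝ᵥ B 0) * (b i ⬝ᵥ B 0) + (b i ⬝ᵥ B 1) * (b i ⬝ᵥ B 1) +
        (b i ⬝ᵥ B 2) * (b i ⬝ᵥ B 2))) := by
    intro i
    rw [hM]
    simp only
    rw [d.bessel g, g.hbb]
  have key : ∀ (x y z x' y' z' n : ℤ), x + x' = 0 → y + y' = 1 → z + z' = 1 →
      n = 3 - (x * x + y * y + z * z + (x' * x' + y' * y' + z' * z')) → 0 ≤ n →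
      x = 0 ∧ x' = 0 ∧ (y = 0 ∨ y = 1) ∧ (z = 0 ∨ z = 1) ∧ n = 1 := by
    intro x y z x' y' z' n hx hy hz hn h0
    have hy1 := sq01 hy
    have hz1 := sq01 hz
    have hx1 : x' = - x := by omega
    subst hx1
    have hx2 : x * x ≤ 0 := by nlinarith
    have hx3 : x = 0 := by nlinarith
    subst hx3
    have hy2 : y = 0 ∨ y = 1 := sq01' hy (by nlinarith)
    have hz2 : z = 0 ∨ z = 1 := sq01' hz (by nlinarith)
    refine ⟨rfl, by simp, hy2, hz2, ?_⟩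
    have hy3 : y' = 1 - y := by omega
    have hz3 : z' = 1 - z := by omega
    subst hy3 hz3
    rcases hy2 with rfl | rfl <;> rcases hz2 with rfl | rfl <;> simp at hn <;> omega
  have n0 := key _ _ _ _ _ _ _ (hbd 0) (hbe 0 1 (by decide)) (hbe 0 2 (by decide)) (hMM 0) (hMb 0)
  have n1 := key _ _ _ _ _ _ (M 1 ⬝ᵥ M 1) (hbd 1) (hbe 1 0 (by decide)) (hbe 1 2 (by decide))
    (by rw [hMM 1]; ring) (hMb 1)
  have n2 := key _ _ _ _ _ _ (M 2 ⬝ᵥ M 2) (hbd 2) (hbe 2 0 (by decide)) (hbe 2 1 (by decide))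
    (by rw [hMM 2]; ring) (hMb 2)
  obtain ⟨p00, q00, h01, h02, nn0⟩ := n0
  obtain ⟨p11, q11, h10, h12, nn1⟩ := n1
  obtain ⟨p22, q22, h20, h21, nn2⟩ := n2
  have hMu : ∀ i, M i ⬝ᵥ M i = 1 := by
    intro i; fin_cases i
    · exact nn0
    · exact nn1
    · exact nn2
  -- inner products
  have ipb : ∀ i j, b i ⬝ᵥ b j = ((b i ⬝ᵥ A 0) * (b j ⬝ᵥ A 0) + (b i ⬝ᵥ A 1) * (b j ⬝ᵥ A 1) +
      (b i ⬝ᵥ A 2) * (b j ⬝ᵥ A 2) + ((b i ⬝ᵥ B 0) * (b j ⬝ᵥ B 0) + (b i ⬝ᵥ B 1) * (b j ⬝ᵥ B 1) +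
      (b i ⬝ᵥ B 2) * (b j ⬝ᵥ B 2))) + M i ⬝ᵥ M j := by
    intro i j; rw [hM]; exact d.ip g (b i) (b j)
  have ipc : ∀ i, b i ⬝ᵥ (c + o) = (b i ⬝ᵥ A 0 + b i ⬝ᵥ A 1 + b i ⬝ᵥ A 2) + M i ⬝ᵥ W := by
    intro i
    have := d.ip g (b i) (c + o)
    rw [k5, k5, k5, k6, k6, k6, ← hW] at this
    rw [this, hM]
    ring
  have hbc : ∀ i, b i ⬝ᵥ (c + o) = 2 := by
    intro i; rw [dotProduct_add, g.hbo, dotProduct_comm, g.hcb]; rfl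
  obtain ⟨f, hf⟩ : ∃ f, f = c' + o := ⟨_, rfl⟩
  have hfa' : ∀ i, f ⬝ᵥ A i + f ⬝ᵥ B i = 1 := by
    intro i
    rw [← dotProduct_add, ← d.h i, hf, add_dotProduct, dotProduct_add, dotProduct_add, g.hca' i,
      g.hco', dotProduct_comm o (a i), g.hao i, g.ho]; rfl
  have hfc : f ⬝ᵥ (c + o) = 3 := by
    rw [hf, add_dotProduct, dotProduct_add, dotProduct_add, g.hcc', g.hco',
      dotProduct_comm o c, g.hco, g.ho]; rfl
  have hfb : ∀ i, f ⬝ᵥ b i = 2 := by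
    intro i; rw [hf, add_dotProduct, g.hcb', dotProduct_comm o, g.hbo]; rfl
  have ipf : f ⬝ᵥ (c + o) = (f ⬝ᵥ A 0 + f ⬝ᵥ A 1 + f ⬝ᵥ A 2) + f ⬝ᵥ W := by
    have := d.ip g f (c + o)
    rw [k5, k5, k5, k6, k6, k6, ← hW] at this
    have h5 : (f - pr A B f) ⬝ᵥ W = f ⬝ᵥ W := by
      rw [sub_dotProduct]
      have : pr A B f ⬝ᵥ W = 0 := by
        unfold pr
        rw [sum_dotProduct]
        refine Finset.sum_eq_zero fun k _ => ?_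
        rw [smul_dotProduct, dotProduct_comm _ W, hWu, smul_zero]
      rw [this, sub_zero]
    rw [this, h5]
    ring
  have ipfb : ∀ i, f ⬝ᵥ b i = ((f ⬝ᵥ A 0) * (b i ⬝ᵥ A 0) + (f ⬝ᵥ A 1) * (b i ⬝ᵥ A 1) +
      (f ⬝ᵥ A 2) * (b i ⬝ᵥ A 2) + ((f ⬝ᵥ B 0) * (b i ⬝ᵥ B 0) + (f ⬝ᵥ B 1) * (b i ⬝ᵥ B 1) +
      (f ⬝ᵥ B 2) * (b i ⬝ᵥ B 2))) + f ⬝ᵥ M i := by
    intro i
    have := d.ip g f (b i)
    have h5 : (f - pr A B f) ⬝ᵥ (b i - pr A B (b i)) = f ⬝ᵥ M i := by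
      rw [hM, sub_dotProduct]
      have : pr A B f ⬝ᵥ (b i - pr A B (b i)) = 0 := by
        have hw : pr A B f = ∑ k : Fin 3 ⊕ Fin 3, (f ⬝ᵥ (Sum.elim A B k)) • (Sum.elim A B k) := rfl
        rw [hw, sum_dotProduct]
        refine Finset.sum_eq_zero fun k _ => ?_
        rw [smul_dotProduct, dotProduct_comm _ (b i - pr A B (b i)), d.pr_dot g, smul_zero]
      rw [this, sub_zero]
    rw [this, h5]
  have hWM : ∀ i, M i ⬝ᵥ W ≤ 1 := by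
    intro i
    rcases unit_bd (hMu i) hWW with h | h | h <;> omega
  have hWM1 : ∀ i, M i ⬝ᵥ W = 1 → W = M i := fun i h => unit_eq (hMu i) hWW h
  have q01 : b 0 ⬝ᵥ B 1 = 1 - b 0 ⬝ᵥ A 1 := by have := hbe 0 1 (by decide); omega
  have q02 : b 0 ⬝ᵥ B 2 = 1 - b 0 ⬝ᵥ A 2 := by have := hbe 0 2 (by decide); omega
  have q10 : b 1 ⬝ᵥ B 0 = 1 - b 1 ⬝ᵥ A 0 := by have := hbe 1 0 (by decide); omega
  have q12 : b 1 ⬝ᵥ B 2 = 1 - b 1 ⬝ᵥ A 2 := by have := hbe 1 2 (by decide); omega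
  have q20 : b 2 ⬝ᵥ B 0 = 1 - b 2 ⬝ᵥ A 0 := by have := hbe 2 0 (by decide); omega
  have q21 : b 2 ⬝ᵥ B 1 = 1 - b 2 ⬝ᵥ A 1 := by have := hbe 2 1 (by decide); omega
  have y0 : f ⬝ᵥ B 0 = 1 - f ⬝ᵥ A 0 := by have := hfa' 0; omega
  have y1 : f ⬝ᵥ B 1 = 1 - f ⬝ᵥ A 1 := by have := hfa' 1; omega
  have y2 : f ⬝ᵥ B 2 = 1 - f ⬝ᵥ A 2 := by have := hfa' 2; omega
  have res := int_cases (b 0 ⬝ᵥ A 1) (b 0 ⬝ᵥ A 2) (b 1 ⬝ᵥ A 0) (b 1 ⬝ᵥ A 2) (b 2 ⬝ᵥ A 0)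
    (b 2 ⬝ᵥ A 1) (M 0 ⬝ᵥ M 1) (M 0 ⬝ᵥ M 2) (M 1 ⬝ᵥ M 2) (M 0 ⬝ᵥ W) (M 1 ⬝ᵥ W) (M 2 ⬝ᵥ W)
    (f ⬝ᵥ A 0) (f ⬝ᵥ A 1) (f ⬝ᵥ A 2) (f ⬝ᵥ W) (f ⬝ᵥ M 0) (f ⬝ᵥ M 1) (f ⬝ᵥ M 2)
    h01 h02 h10 h12 h20 h21
    (by have := ipc 0; rw [hbc, p00] at this; omega)
    (by have := ipc 1; rw [hbc, p11] at this; omega)
    (by have := ipc 2; rw [hbc, p22] at this; omega)
    (hWM 0) (hWM 1) (hWM 2)
    (by have := ipb 0 1
        rw [g.hbb' 0 1 (by decide), p00, q00, p11, q11, q02, q12] at this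
        linarith)
    (by have := ipb 0 2
        rw [g.hbb' 0 2 (by decide), p00, q00, p22, q22, q01, q21] at this
        linarith)
    (by have := ipb 1 2
        rw [g.hbb' 1 2 (by decide), p11, q11, p22, q22, q10, q20] at this
        linarith)
    (fun h => by
      have hh := hWM1 0 h
      rw [← hh]
      exact ⟨dotProduct_comm _ _, dotProduct_comm _ _, rfl⟩)
    (fun h => by
      have hh := hWM1 1 h
      rw [← hh]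
      exact ⟨rfl, dotProduct_comm _ _, rfl⟩)
    (fun h => by
      have hh := hWM1 2 h
      rw [← hh]
      exact ⟨rfl, rfl, rfl⟩)
    (by have := ipfb 0
        rw [hfb, p00, q00, q01, q02, y1, y2] at this
        linarith)
    (by have := ipfb 1
        rw [hfb, p11, q11, q10, q12, y0, y2] at this
        linarith)
    (by have := ipfb 2
        rw [hfb, p22, q22, q20, q21, y0, y1] at this
        linarith)
    (by have := ipf; rw [hfc] at this; omega)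
  obtain ⟨r1, r2, r3, r4, r5, r6⟩ := res
  refine ⟨A, B, d, ?_, ?_⟩
  · intro i; fin_cases i
    · exact p00
    · exact p11
    · exact p22
  · intro i j hij
    fin_cases i <;> fin_cases j
    · exact absurd rfl hij
    · exact r1
    · exact r2
    · exact r3
    · exact absurd rfl hij
    · exact r4
    · exact r5
    · exact r6
    · exact absurd rfl hij

end Cfsg.Agent.H4.SC
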