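import Cfsg.Agent.H4.SA
import Cfsg.Agent.H4.SC

/-!
# Strongly embedded subgroup of order 108: signed irreducible characters (S3701)
-/

set_option autoImplicit false
set_option linter.unusedSectionVars false
set_option linter.style.haveILetI false

namespace Cfsg.Agent.H4.SB

open Cfsg Cfsg.Agent.H3 Cfsg.Agent.H4.SA Matrix
open scoped ComplexConjugate

universe u

variable {G : Type u} [Group G] [Fintype G]

section Fn

variable [Fintype (IrrCharacter G)]

/-- the function with given coordinates -/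
noncomputable def fn (m : IrrCharacter G → ℤ) : G → ℂ :=
  ∑ ψ : IrrCharacter G, (m ψ : ℂ) • (ψ : G → ℂ)

theorem fn_gen (m : IrrCharacter G → ℤ) : IsGeneralizedCharacter G (fn m) :=
  isGen_sum _ _ fun ψ _ => isGen_intCast_smul _ (isGen_of_irr ψ.2)

theorem inner_fn_irr (m : IrrCharacter G → ℤ) (ψ : IrrCharacter G) :
    classInner (fn m) (ψ : G → ℂ) = m ψ := by
  classical
  unfold fn
  rw [classInner_sum_left]
  have : ∀ ξ : IrrCharacter G, classInner ((m ξ : ℂ) • (ξ : G → ℂ)) (ψ : G → ℂ) =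
      if ξ = ψ then (m ξ : ℂ) else 0 := by
    intro ξ
    rw [classInner_smul_left, classInner_irr' ξ ψ]
    split_ifs <;> simp
  rw [Finset.sum_congr rfl fun ξ _ => this ξ]
  simp

theorem inner_fn (m n : IrrCharacter G → ℤ) :
    classInner (fn m) (fn n) = ((m ⬝ᵥ n : ℤ) : ℂ) := by
  rw [classInner_eq_sum (isGen_classFun (fn_gen m))]
  simp only [inner_fn_irr, map_intCast]
  simp [dotProduct]

theorem fn_add (m n : IrrCharacter G → ℤ) : fn (m + n) = fn m + fn n := by
  unfold fn
  rw [← Finset.sum_add_distrib]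
  refine Finset.sum_congr rfl fun ψ _ => ?_
  rw [Pi.add_apply, Int.cast_add, add_smul]

theorem fn_neg (m : IrrCharacter G → ℤ) : fn (-m) = - fn m := by
  unfold fn
  rw [← Finset.sum_neg_distrib]
  refine Finset.sum_congr rfl fun ψ _ => ?_
  rw [Pi.neg_apply, Int.cast_neg, neg_smul]

theorem exists_fn {f : G → ℂ} (hf : IsGeneralizedCharacter G f) : ∃ m, f = fn m := by
  obtain ⟨m, _, h⟩ := gen_expand hf
  exact ⟨m, h⟩

end Fn

/-- the setting -/
structure Setting (H T : Subgroup G) (φ : H ≃* K) : Prop where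
  hTH : T ≤ H
  hT : Nat.card T = 27
  hN : Subgroup.normalizer (T : Set G) = H
  hC : ∀ t ∈ T, t ≠ 1 → Subgroup.centralizer ({t} : Set G) ≤ H

theorem card_even : Fintype.card {w : W // ∀ i, Equiv.Perm.sign (w i) = 1} = 27 := by
  decide +kernel

theorem comm_even : ∀ x y : S3, Equiv.Perm.sign x = 1 → Equiv.Perm.sign y = 1 →
    x * y = y * x := by decide +kernel

theorem sign_pow27 {x : ℤˣ} (h : x ^ 27 = 1) : x = 1 := by
  rcases Int.units_eq_one_or x with h1 | h1
  · exact h1
  · subst h1; exact absurd h (by decide)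

theorem sgn_of_mem (k : K) : sgnHom (k : W) = 1 := k.2

variable {H T : Subgroup G} {φ : H ≃* K}

theorem sign_of_pow (h : H) (hh : h ^ 27 = 1) (i : Fin 3) :
    Equiv.Perm.sign ((φ h : W) i) = 1 := by
  apply sign_pow27
  rw [← map_pow]
  have h1 : ((φ h : W) i) ^ 27 = 1 := by
    have h2 : ((φ h : K) : W) ^ 27 = 1 := by
      rw [← Subgroup.coe_pow, ← map_pow, hh]; simp
    have := congrFun h2 i
    simpa using this
  rw [h1]; simp

theorem Setting.mem_iff (S : Setting H T φ) (h : H) :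
    (h : G) ∈ T ↔ ∀ i, Equiv.Perm.sign ((φ h : W) i) = 1 := by
  have h27 : ∀ x : T, ∀ i, Equiv.Perm.sign ((φ ⟨x.1, S.hTH x.2⟩ : W) i) = 1 := by
    intro x
    apply sign_of_pow
    have h1 : x ^ 27 = 1 := by rw [← S.hT]; exact pow_card_eq_one'
    apply Subtype.ext
    have := congrArg Subtype.val h1
    simpa using this
  constructor
  · intro hh i
    exact h27 ⟨h.1, hh⟩ i
  · intro hh
    let f : T → {w : W // ∀ i, Equiv.Perm.sign (w i) = 1} :=
      fun x => ⟨(φ ⟨x.1, S.hTH x.2⟩ : W), h27 x⟩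
    have hf : Function.Injective f := by
      intro x y hxy
      have h1 := congrArg Subtype.val hxy
      have h2 := φ.injective (Subtype.ext h1)
      have h3 := congrArg Subtype.val h2
      exact Subtype.ext h3
    haveI : Finite T := inferInstance
    haveI := Fintype.ofFinite T
    have hb : Function.Bijective f := by
      rw [Fintype.bijective_iff_injective_and_card]
      refine ⟨hf, ?_⟩
      rw [card_even, ← S.hT, Nat.card_eq_fintype_card]
    obtain ⟨x, hx⟩ := hb.2 ⟨(φ h : W), hh⟩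
    have h1 := congrArg Subtype.val hx
    have h2 := φ.injective (Subtype.ext h1)
    have h3 := congrArg Subtype.val h2
    rw [← h3]; exact x.2

theorem Setting.mem_of_pow (S : Setting H T φ) {h : G} (hH : h ∈ H) (hh : h ^ 27 = 1) : h ∈ T := by
  have := (S.mem_iff ⟨h, hH⟩).2 (sign_of_pow _ (Subtype.ext (by simpa using hh)))
  exact this

theorem Setting.comm (S : Setting H T φ) {x y : G} (hx : x ∈ T) (hy : y ∈ T) : x * y = y * x := by
  have h1 := (S.mem_iff ⟨x, S.hTH hx⟩).1 hx
  have h2 := (S.mem_iff ⟨y, S.hTH hy⟩).1 hy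
  have h3 : (⟨x, S.hTH hx⟩ * ⟨y, S.hTH hy⟩ : H) = ⟨y, S.hTH hy⟩ * ⟨x, S.hTH hx⟩ := by
    apply φ.injective
    apply Subtype.ext
    rw [map_mul, map_mul]
    ext1 i
    simp only [Subgroup.coe_mul, Pi.mul_apply]
    exact comm_even _ _ (h1 i) (h2 i)
  exact congrArg Subtype.val h3

theorem Setting.pow4 (S : Setting H T φ) {x : G} (hx : x ∈ H) : x ^ 4 ∈ T := by
  have := (S.mem_iff ⟨x ^ 4, H.pow_mem hx 4⟩).2 (by
    intro i
    have h1 : (⟨x ^ 4, H.pow_mem hx 4⟩ : H) = ⟨x, hx⟩ ^ 4 := rfl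
    rw [h1, map_pow, Subgroup.coe_pow, Pi.pow_apply, map_pow]
    rcases Int.units_eq_one_or (Equiv.Perm.sign ((φ ⟨x, hx⟩ : W) i)) with h | h <;> rw [h] <;>
      decide)
  exact this

theorem Setting.mem_of_conj (S : Setting H T φ) {g s : G} (hs : s ∈ T) (hs1 : s ≠ 1)
    (h : g * s * g⁻¹ ∈ T) : g ∈ H := by
  have h1 : g * s * g⁻¹ ≠ 1 := by
    intro h2; apply hs1
    have : s = g⁻¹ * (g * s * g⁻¹) * g := by group
    rw [this, h2]; group
  have h2 : ∀ x ∈ T, g * x * g⁻¹ ∈ T := by
    intro x hx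
    apply S.mem_of_pow
    · apply S.hC _ h h1
      rw [Subgroup.mem_centralizer_singleton_iff]
      have := S.comm hs hx
      calc (g * x * g⁻¹) * (g * s * g⁻¹) = g * (x * s) * g⁻¹ := by group
        _ = g * (s * x) * g⁻¹ := by rw [this]
        _ = (g * s * g⁻¹) * (g * x * g⁻¹) := by group
    · have h3 : x ^ 27 = 1 := by
        have := pow_card_eq_one' (x := (⟨x, hx⟩ : T))
        rw [S.hT] at this
        simpa using congrArg Subtype.val this
      have : (g * x * g⁻¹) ^ 27 = g * x ^ 27 * g⁻¹ := by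
        rw [← MulAut.conj_apply, ← map_pow, MulAut.conj_apply]
      rw [this, h3]; group
  rw [← S.hN]
  exact Subgroup.mem_normalizer_fintype h2

/-- the 3-singular elements -/
def Aset (H : Subgroup G) : Set G := {g | g ∈ H ∧ g ^ 4 ≠ 1}

theorem Setting.TI (S : Setting H T φ) : ∀ g : G, g ∉ H → ∀ t ∈ Aset H, g * t * g⁻¹ ∈ Aset H →
    t = 1 := by
  intro g hg t ht ht'
  exfalso
  apply hg
  refine S.mem_of_conj (S.pow4 ht.1) ht.2 ?_
  have h1 : g * t ^ 4 * g⁻¹ = (g * t * g⁻¹) ^ 4 := by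
    rw [← MulAut.conj_apply, ← MulAut.conj_apply, map_pow]
  rw [h1]
  exact S.pow4 ht'.1

/-- the generalized characters of `H` -/
noncomputable def be (φ : H ≃* K) (i : Fin 8) : H → ℂ := fun h => ((al i (φ h : W) : ℤ) : ℂ)

theorem be_gen (i : Fin 8) : IsGeneralizedCharacter H (be φ i) :=
  isGen_comp (al_gen i) (K.subtype.comp φ.toMonoidHom)

theorem be_supp (i : Fin 8) (x : H) (hx : (x : G) ∉ Aset H) : be φ i x = 0 := by
  have h1 : (x : G) ^ 4 = 1 := by
    by_contra h; exact hx ⟨x.2, h⟩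
  have h2 : (φ x : W) ^ 4 = 1 := by
    rw [← Subgroup.coe_pow, ← map_pow]
    have : x ^ 4 = 1 := Subtype.ext (by simpa using h1)
    rw [this]; simp
  unfold be
  rw [supp _ (sgn_of_mem _) h2 i]; simp

theorem sumH [Fintype H] {M : Type*} [AddCommMonoid M] (φ : H ≃* K) (F : W → M) :
    ∑ h : H, F (φ h : W) = ∑ w : W, if sgnHom w = 1 then F w else 0 := by
  classical
  haveI : Fintype K := Fintype.ofFinite K
  have h1 : ∑ h : H, F (φ h : W) = ∑ k : K, F (k : W) :=
    Equiv.sum_comp φ.toEquiv (fun k : K => F (k : W))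
  rw [h1, ← Finset.sum_filter]
  exact (Finset.sum_subtype (Finset.univ.filter fun w : W => sgnHom w = 1)
    (fun x => by simp only [Finset.mem_filter, Finset.mem_univ, true_and]; rfl) F).symm

theorem card_H (φ : H ≃* K) : Nat.card H = 108 := by
  rw [Nat.card_congr φ.toEquiv, ← card_K, ← Nat.card_eq_fintype_card]
  rfl

theorem inner_be [Fintype H] (i j : Fin 8) : classInner (be φ i) (be φ j) = gm i j := by
  unfold classInner be
  rw [card_H φ]
  have h1 : ∀ h : H, (((al i (φ h : W) : ℤ) : ℂ)) * conj ((al j (φ h : W) : ℤ) : ℂ) =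
      (((al i (φ h : W) * al j (φ h : W) : ℤ)) : ℂ) := by
    intro h; rw [map_intCast]; push_cast; rfl
  rw [Finset.sum_congr rfl fun h _ => h1 h, ← Int.cast_sum,
    sumH φ (fun w => al i w * al j w), gram_eq]
  push_cast; ring

theorem inner_be_one [Fintype H] (i : Fin 8) : classInner (be φ i) (fun _ => 1) =
    (((![-1, -1, -1, 0, 0, 0, -1, -1] : Fin 8 → ℤ) i : ℤ) : ℂ) := by
  unfold classInner be
  rw [card_H φ]
  simp only [map_one, mul_one]
  rw [← Int.cast_sum, sumH φ (fun w => al i w), one_eq]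
  push_cast; ring

theorem Setting.inner_ind [Fintype H] (S : Setting H T φ) (i j : Fin 8) :
    classInner (indFun H (be φ i)) (indFun H (be φ j)) = gm i j := by
  rw [classInner_indFun_of_TI H (Aset H) S.TI _ _ (isGen_classFun (be_gen j))
    (be_supp i) (be_supp j) (be_supp i 1 (by simp [Aset])), inner_be]

theorem inner_ind_one [Fintype H] (i : Fin 8) :
    classInner (indFun H (be φ i)) (fun _ => 1) =
      (((![-1, -1, -1, 0, 0, 0, -1, -1] : Fin 8 → ℤ) i : ℤ) : ℂ) := by
  rw [frobenius_reciprocity H _ (classFun_const 1), inner_be_one]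

theorem dec_o {I : Type*} [Fintype I] {o : I → ℤ} {a b : Fin 3 → I → ℤ} {c c' : I → ℤ}
    (g : SC.Gram o a b c c') {A B : Fin 3 → I → ℤ} (d : SC.Dec o a A B) (i : Fin 3) :
    A i ⬝ᵥ o = 0 := by
  have h1 : A i ⬝ᵥ o + B i ⬝ᵥ o = 0 := by
    rw [← add_dotProduct, ← d.h i, add_dotProduct, g.hao, g.ho]; rfl
  have h3 := d.hAB i
  rcases SC.unit_bd (d.hA i) g.ho with h2 | h2 | h2
  · exfalso
    have h4 := SC.unit_neg (d.hA i) g.ho h2
    have h5 : B i ⬝ᵥ o = 1 := by omega
    rw [h4, dotProduct_neg, dotProduct_comm, h3] at h5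
    omega
  · exact h2
  · exfalso
    have h4 := SC.unit_eq (d.hA i) g.ho h2
    have h5 : B i ⬝ᵥ o = -1 := by omega
    rw [h4, dotProduct_comm, h3] at h5
    omega

/-- The signed irreducible characters. -/
theorem Setting.main1 (S : Setting H T φ) : ∃ E L : Fin 3 → G → ℂ,
    (∀ i, IsGeneralizedCharacter G (E i) ∧ classInner (E i) (E i) = 1) ∧
    (∀ i, IsGeneralizedCharacter G (L i) ∧ classInner (L i) (L i) = 1) ∧
    (∀ i g, indFun H (be φ ((![0, 1, 2] : Fin 3 → Fin 8) i)) g = - 1 - E i g + L i g) ∧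
    (∀ i j, classInner (indFun H (be φ ((![0, 1, 2] : Fin 3 → Fin 8) i))) (E j) =
      if i = j then -1 else 0) ∧
    (∀ i j, classInner (indFun H (be φ ((![3, 4, 5] : Fin 3 → Fin 8) i))) (E j) =
      if i = j then 0 else -1) := by
  classical
  haveI := Fintype.ofFinite (IrrCharacter G)
  haveI := Fintype.ofFinite H
  choose m hm using fun i : Fin 8 => exists_fn (isGen_ind H (be_gen (φ := φ) i))
  obtain ⟨o, ho⟩ := exists_fn (isGen_one (G := G))
  have hmm : ∀ i j, m i ⬝ᵥ m j = gm i j := by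
    intro i j
    have h1 := S.inner_ind i j
    rw [hm i, hm j, inner_fn] at h1
    exact_mod_cast h1
  have hmo : ∀ i, m i ⬝ᵥ o = (![-1, -1, -1, 0, 0, 0, -1, -1] : Fin 8 → ℤ) i := by
    intro i
    have h1 := inner_ind_one (φ := φ) i
    rw [hm i, ho, inner_fn] at h1
    exact_mod_cast h1
  have hoo : o ⬝ᵥ o = 1 := by
    have h1 : classInner (fun _ : G => (1 : ℂ)) (fun _ => 1) = 1 := classInner_self_of_irr isIrr_one
    rw [ho, inner_fn] at h1
    exact_mod_cast h1
  have g : SC.Gram o (fun i => m ((![0, 1, 2] : Fin 3 → Fin 8) i))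
      (fun i => m ((![3, 4, 5] : Fin 3 → Fin 8) i)) (m 6) (m 7) := by
    refine ⟨hoo, ?_, ?_, hmo 6, hmo 7, ?_, ?_, ?_, ?_, ?_, ?_, ?_, ?_, ?_, ?_, hmm 6 6, hmm 7 6⟩
    · intro i; simp only [hmo]; revert i; decide
    · intro i; simp only [hmo]; revert i; decide
    · intro i; simp only [hmm]; revert i; decide
    · intro i j; simp only [hmm]; revert i j; decide
    · intro i; simp only [hmm]; revert i; decide
    · intro i j; simp only [hmm]; revert i j; decide
    · intro i; simp only [hmm]; revert i; decide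
    · intro i j; simp only [hmm]; revert i j; decide
    · intro i; simp only [hmm]; revert i; decide
    · intro i; simp only [hmm]; revert i; decide
    · intro i; simp only [hmm]; revert i; decide
    · intro i; simp only [hmm]; revert i; decide
  obtain ⟨A, B, d, h1, h2⟩ := SC.comb g
  refine ⟨fun i => fn (- A i), fun i => fn (B i), ?_, ?_, ?_, ?_, ?_⟩
  · intro i
    refine ⟨fn_gen _, ?_⟩
    rw [inner_fn, neg_dotProduct, dotProduct_neg, d.hA i]; simp
  · intro i
    refine ⟨fn_gen _, ?_⟩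
    rw [inner_fn, d.hB i]; simp
  · intro i x
    have h3 : m ((![0, 1, 2] : Fin 3 → Fin 8) i) + o = A i + B i := d.h i
    have h4 : m ((![0, 1, 2] : Fin 3 → Fin 8) i) = A i + B i + (-o) := by
      rw [← h3]; abel
    have h5 : fn (-A i) = - fn (A i) := fn_neg _
    rw [hm, h4, fn_add, fn_add, fn_neg, ← ho]
    simp only [h5, Pi.add_apply, Pi.neg_apply]
    ring
  · intro i j
    rw [hm, inner_fn, dotProduct_neg]
    have h3 : m ((![0, 1, 2] : Fin 3 → Fin 8) i) + o = A i + B i := d.h i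
    have h4 : m ((![0, 1, 2] : Fin 3 → Fin 8) i) = A i + B i + (-o) := by
      rw [← h3]; abel
    rw [h4, add_dotProduct, add_dotProduct, neg_dotProduct, dotProduct_comm o, dec_o g d j]
    by_cases hij : i = j
    · subst hij
      rw [d.hA i, dotProduct_comm, d.hAB i]; simp
    · have h5 := d.orth g i j hij
      rw [h5.1, h5.2.2.1]; simp [hij]
  · intro i j
    rw [hm, inner_fn, dotProduct_neg]
    by_cases hij : i = j
    · subst hij
      have := h1 i
      rw [this]; simp
    · have := h2 i j hij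
      rw [this]; simp [hij]

end Cfsg.Agent.H4.SB
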