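import Cfsg.Agent.H4.SB
import Cfsg.Agent.H27.ClassAlg
import Cfsg.Agent.H27.Kernel

/-!
# Strongly embedded subgroup of order 108: linear characters (S3701)
-/

set_option autoImplicit false
set_option linter.unusedSectionVars false
set_option linter.style.haveILetI false

namespace Cfsg.Agent.H4.SD

open Cfsg Cfsg.Agent.H3 Cfsg.Agent.H27 Cfsg.Agent.H4.SA Cfsg.Agent.H4.SB
open scoped ComplexConjugate

universe u

variable {G : Type u} [Group G] [Fintype G]

/-- number of factorizations as product of two conjugates of `u` -/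
noncomputable def Th (u : G) : G → ℂ := conv (ind {x | IsConj u x}) (ind {x | IsConj u x})

theorem Th_class (u : G) : IsClassFunction G (Th u) :=
  conv_classFun (ind_classFun (isConj_class_closed u)) (ind_classFun (isConj_class_closed u))

theorem conj_Th (u g : G) : conj (Th u g) = Th u g := by
  unfold Th
  rw [conv_ind]
  simp

theorem inner_Th_irr {χ : G → ℂ} (hχ : IsIrrCharacter G χ) (u : G) :
    classInner χ (Th u) = (Nat.card G : ℂ)⁻¹ * ((cl u).card : ℂ) ^ 2 * (χ u ^ 2 / χ 1) := by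
  have h0 := irr_one_ne_zero hχ
  have h1 := hat_conv hχ (ind_classFun (isConj_class_closed u)) (ind {x | IsConj u x})
  rw [hat_ind_class (irr_isChar hχ), centralChar_eq] at h1
  have h2 : ∑ x : G, Th u x * χ x = hat (Th u) χ * χ 1 := by
    unfold hat; field_simp
  have h3 : hat (Th u) χ = ((cl u).card : ℂ) * χ u / χ 1 * (((cl u).card : ℂ) * χ u / χ 1) := h1
  unfold classInner
  have h4 : ∀ g : G, χ g * conj (Th u g) = Th u g * χ g := by
    intro g; rw [conj_Th, mul_comm]
  rw [Finset.sum_congr rfl fun g _ => h4 g, h2, h3]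
  field_simp

theorem gen_one_ne {E : G → ℂ} (hE : IsGeneralizedCharacter G E) (hE1 : classInner E E = 1) :
    E 1 ≠ 0 := by
  rcases gen_norm_one hE hE1 with h | h
  · exact irr_one_ne_zero h
  · have := irr_one_ne_zero h
    simpa using this

theorem inner_Th {E : G → ℂ} (hE : IsGeneralizedCharacter G E) (hE1 : classInner E E = 1)
    (u : G) :
    classInner E (Th u) = (Nat.card G : ℂ)⁻¹ * ((cl u).card : ℂ) ^ 2 * (E u ^ 2 / E 1) := by
  rcases gen_norm_one hE hE1 with h | h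
  · exact inner_Th_irr h u
  · have h1 := inner_Th_irr h u
    rw [classInner_neg_left] at h1
    have h2 : ((-E) u) ^ 2 / (-E) 1 = - (E u ^ 2 / E 1) := by
      simp only [Pi.neg_apply]; rw [neg_sq, div_neg]
    rw [h2] at h1
    linear_combination -h1

theorem alg {d v l m : ℂ} (hd : d ≠ 0) (hl : l ≠ 0) (h1 : 0 = -1 - d + l) (h2 : 0 = -1 - v + m)
    (h3 : -1 - v ^ 2 / d + m ^ 2 / l = 0) : v = d := by
  have e1 : l = 1 + d := by linear_combination -h1
  have e2 : m = 1 + v := by linear_combination -h2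
  subst e1 e2
  field_simp at h3
  have h4 : (d - v) ^ 2 = 0 := by linear_combination -h3
  have h5 := pow_eq_zero_iff (two_ne_zero) |>.mp h4
  linear_combination -h5

variable {H T : Subgroup G} {φ : H ≃* K}

theorem ind_zero (i : Fin 8) {g : G} (hg : g ^ 4 = 1) : indFun H (be φ i) g = 0 := by
  unfold indFun
  rw [Finset.sum_eq_zero, mul_zero]
  intro x _
  by_cases hx : x⁻¹ * g * x ∈ H
  · rw [extendByZero_mem H _ hx]
    apply be_supp
    intro h
    apply h.2
    have : (x⁻¹ * g * x) ^ 4 = x⁻¹ * g ^ 4 * x := by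
      have h5 := map_pow (MulAut.conj x⁻¹) g 4
      simp only [MulAut.conj_apply, inv_inv] at h5
      exact h5.symm
    rw [this, hg]; group
  · exact extendByZero_not_mem H _ hx

/-- The class algebra argument. -/
theorem value_eq [Fintype H] (i : Fin 8) (u : G) (hu : u ^ 4 = 1) {E L : G → ℂ}
    (hE : IsGeneralizedCharacter G E) (hE1 : classInner E E = 1)
    (hL : IsGeneralizedCharacter G L) (hL1 : classInner L L = 1)
    (hd : ∀ g, indFun H (be φ i) g = -1 - E g + L g)
    (h0 : ∀ h : H, be φ i h ≠ 0 → Th u h = 0) : E u = E 1 := by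
  have h1 : 0 = -1 - E 1 + L 1 := by rw [← hd, ind_zero]; simp
  have h2 : 0 = -1 - E u + L u := by rw [← hd, ind_zero _ hu]
  have h3 : classInner (indFun H (be φ i)) (Th u) = 0 := by
    rw [frobenius_reciprocity H _ (Th_class u)]
    unfold classInner
    rw [Finset.sum_eq_zero, mul_zero]
    intro h _
    by_cases hb : be φ i h = 0
    · rw [hb, zero_mul]
    · simp only
      rw [h0 h hb, map_zero, mul_zero]
  have h4 : indFun H (be φ i) = (L - E) - (fun _ : G => (1 : ℂ)) := by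
    ext g; rw [hd]; simp only [Pi.sub_apply]; ring
  rw [h4, classInner_sub_left, classInner_sub_left, inner_Th hE hE1, inner_Th hL hL1,
    inner_Th_irr isIrr_one] at h3
  have hG : (Nat.card G : ℂ) ≠ 0 := card_ne_zeroC
  have hc : ((cl u).card : ℂ) ≠ 0 := by
    have : (cl u).card ≠ 0 := Finset.card_ne_zero.mpr ⟨u, self_mem_cl u⟩
    exact_mod_cast this
  refine alg (gen_one_ne hE hE1) (gen_one_ne hL hL1) h1 h2 ?_
  have h5 : (Nat.card G : ℂ)⁻¹ * ((cl u).card : ℂ) ^ 2 ≠ 0 :=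
    mul_ne_zero (inv_ne_zero hG) (pow_ne_zero _ hc)
  have h6 : (Nat.card G : ℂ)⁻¹ * ((cl u).card : ℂ) ^ 2 * (-1 - E u ^ 2 / E 1 + L u ^ 2 / L 1)
      = 0 := by
    rw [← h3]; ring
  rcases mul_eq_zero.mp h6 with h | h
  · exact absurd h h5
  · exact h

/-- a 3-cycle -/
def cc : S3 := Equiv.swap 0 1 * Equiv.swap 1 2
/-- a transposition -/
def ta : S3 := Equiv.swap 0 1
/-- representatives -/
def rr (i : Fin 3) : W := fun j => if j = i then cc else ta
/-- representatives -/
def re (i : Fin 3) : W := fun j => if j = i then 1 else ta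
/-- odd off `i` -/
def Q (i : Fin 3) (w : W) : Prop := ∀ j, j ≠ i → Equiv.Perm.sign (w j) = -1
/-- even -/
def Ev (w : W) : Prop := ∀ j, Equiv.Perm.sign (w j) = 1

instance (i : Fin 3) (w : W) : Decidable (Q i w) := by unfold Q; infer_instance
instance (w : W) : Decidable (Ev w) := by unfold Ev; infer_instance

theorem rr_mem : ∀ i, sgnHom (rr i) = 1 := by decide
theorem re_mem : ∀ i, sgnHom (re i) = 1 := by decide

/-- index of `a i` -/
abbrev ia : Fin 3 → Fin 8 := ![0, 1, 2]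
/-- index of `b i` -/
abbrev ib : Fin 3 → Fin 8 := ![3, 4, 5]

theorem f1 : ∀ i, ∀ w, sgnHom w = 1 →
    al (ia i) w - al (ib i) w = if (Q i w ∧ w i ≠ 1) then -6 else 0 := by decide +kernel
theorem f2 : ∀ i, ∀ w, sgnHom w = 1 → Q i w → w i ≠ 1 →
    ∃ k, sgnHom k = 1 ∧ k * w * k⁻¹ = rr i := by decide +kernel
theorem f3 : ∀ i, ∀ w, sgnHom w = 1 → Q i w → w i = 1 →
    ∃ k, sgnHom k = 1 ∧ k * w * k⁻¹ = re i := by decide +kernel
theorem f4 : ∀ w, sgnHom w = 1 → w ^ 2 = 1 → w ≠ 1 → ∃ i, Q i w ∧ w i = 1 := by decide +kernel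
theorem f5 : ∀ i, (∑ w : W, if sgnHom w = 1 then (if (Q i w ∧ w i ≠ 1) then (-6 : ℤ) else 0)
    else 0) = -108 := by decide +kernel

/-- auxiliary generalized character -/
def ga (i : Fin 3) (w : W) : ℤ := (1 + sZ (w i)) * (1 - sZ (w (i + 1)))

theorem f6 : ∀ i, ∀ w, sgnHom w = 1 → ga i w = if Q i w then 4 else 0 := by decide +kernel
theorem f6a : ∀ i, (∑ w : W, if sgnHom w = 1 then (if (Q i w ∧ w i = 1) then (4 : ℤ) else 0)
    else 0) = 36 := by decide +kernel
theorem f6b : ∀ i, (∑ w : W, if sgnHom w = 1 then (if (Q i w ∧ w i ≠ 1) then (4 : ℤ) else 0)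
    else 0) = 72 := by decide +kernel
theorem f7 : ∀ j, ∀ w, sgnHom w = 1 →
    al (ia j) w + al (ib j) w = if (Ev w ∧ w j ≠ 1) then -6 else 0 := by decide +kernel
theorem f8a : ∀ i j, i ≠ j → (∑ w : W, if sgnHom w = 1 then
    (if (Ev w ∧ w j ≠ 1 ∧ w i = 1) then (-6 : ℤ) else 0) else 0) = -36 := by decide +kernel
theorem f8b : ∀ i j, i ≠ j → (∑ w : W, if sgnHom w = 1 then
    (if (Ev w ∧ w j ≠ 1 ∧ w i ≠ 1) then (-6 : ℤ) else 0) else 0) = -72 := by decide +kernel
theorem f9 : ∀ i, ∀ w, Ev w → w i = 1 → w = re i * w * (re i)⁻¹ * w⁻¹ := by decide +kernel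
theorem f10 : ∀ i, ∀ w, Ev w → w i ≠ 1 → Q i (w * re i) ∧ (w * re i) i ≠ 1 ∧
    sgnHom (w * re i) = 1 := by decide +kernel
theorem f11 : ∀ w, sgnHom w = 1 → ¬ Ev w → ∃ i, Q i w := by decide +kernel
theorem f12 : ∀ i w, sgnHom w = 1 → Q i w → Ev (w⁻¹ * rr i) := by decide +kernel
theorem f13 : ∀ i, re i ^ 2 = 1 ∧ re i ≠ 1 := by decide

end Cfsg.Agent.H4.SD
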