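import Cfsg.Agent.H4.SD

/-!
# Strongly embedded subgroup of order 108: values (S3701)
-/

set_option autoImplicit false
set_option linter.unusedSectionVars false
set_option linter.style.haveILetI false

namespace Cfsg.Agent.H4.SE

open Cfsg Cfsg.Agent.H3 Cfsg.Agent.H27 Cfsg.Agent.H4.SA Cfsg.Agent.H4.SB Cfsg.Agent.H4.SD
open scoped ComplexConjugate

universe u

variable {G : Type u} [Group G] [Fintype G] {H T : Subgroup G} {φ : H ≃* K}

/-- element of `H` with given image -/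
noncomputable def el (φ : H ≃* K) (w : W) (hw : sgnHom w = 1) : H := φ.symm ⟨w, hw⟩

theorem phi_el (w : W) (hw : sgnHom w = 1) : (φ (el φ w hw) : W) = w := by
  simp [el]

theorem el_unique {h : H} {w : W} (hw : sgnHom w = 1) (h1 : (φ h : W) = w) : h = el φ w hw := by
  apply φ.injective
  apply Subtype.ext
  rw [phi_el, h1]

/-- `c_i e_i` -/
noncomputable def ss (φ : H ≃* K) (i : Fin 3) : H := el φ (rr i) (rr_mem i)
/-- `e_i` -/
noncomputable def es (φ : H ≃* K) (i : Fin 3) : H := el φ (re i) (re_mem i)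

theorem conj_el {h : H} {w : W} (hw : sgnHom w = 1)
    (hk : ∃ k, sgnHom k = 1 ∧ k * (φ h : W) * k⁻¹ = w) : IsConj h (el φ w hw) := by
  obtain ⟨k, hk1, hk2⟩ := hk
  rw [isConj_iff]
  refine ⟨el φ k hk1, ?_⟩
  apply el_unique
  rw [map_mul, map_mul, map_inv, Subgroup.coe_mul, Subgroup.coe_mul, Subgroup.coe_inv, phi_el, hk2]

theorem conj_ss {h : H} {i : Fin 3} (hQ : Q i (φ h : W)) (h1 : (φ h : W) i ≠ 1) :
    IsConj (h : G) (ss φ i : G) :=
  MonoidHom.map_isConj H.subtype (conj_el (rr_mem i) (f2 i _ (sgn_of_mem _) hQ h1))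

theorem conj_es {h : H} {i : Fin 3} (hQ : Q i (φ h : W)) (h1 : (φ h : W) i = 1) :
    IsConj (h : G) (es φ i : G) :=
  MonoidHom.map_isConj H.subtype (conj_el (re_mem i) (f3 i _ (sgn_of_mem _) hQ h1))

theorem two_vals [Fintype H] (b b1 b2 : W → ℤ) (E : H → ℂ) (x y : ℂ)
    (h : ∀ h : H, ((b (φ h : W) : ℤ) : ℂ) * conj (E h) =
      ((b1 (φ h : W) : ℤ) : ℂ) * x + ((b2 (φ h : W) : ℤ) : ℂ) * y) (n1 n2 : ℤ)
    (hn1 : (∑ w : W, if sgnHom w = 1 then b1 w else 0) = n1)
    (hn2 : (∑ w : W, if sgnHom w = 1 then b2 w else 0) = n2) :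
    classInner (fun h : H => ((b (φ h : W) : ℤ) : ℂ)) E = (108 : ℂ)⁻¹ * (n1 * x + n2 * y) := by
  unfold classInner
  rw [card_H φ, Finset.sum_congr rfl fun k _ => h k, Finset.sum_add_distrib, ← Finset.sum_mul,
    ← Finset.sum_mul, ← Int.cast_sum, ← Int.cast_sum, sumH φ b1, sumH φ b2, hn1, hn2]
  push_cast; ring

/-- value at `c_i e_i` -/
theorem val_ss [Fintype H] (φ : H ≃* K) {E : G → ℂ} (hE : IsClassFunction G E) (i : Fin 3) :
    classInner (indFun H (be φ (ia i))) E - classInner (indFun H (be φ (ib i))) E =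
      - conj (E (ss φ i)) := by
  rw [frobenius_reciprocity H _ hE, frobenius_reciprocity H _ hE, ← classInner_sub_left]
  have h1 := two_vals (φ := φ) (fun w => al (ia i) w - al (ib i) w)
    (fun w => if (Q i w ∧ w i ≠ 1) then -6 else 0) (fun _ => 0) (fun h : H => E h)
    (conj (E (ss φ i))) 0 (by
      intro h
      rw [f1 i _ (sgn_of_mem _)]
      by_cases hQ : Q i (φ h : W) ∧ (φ h : W) i ≠ 1
      · rw [if_pos hQ, classFun_isConj hE (conj_ss hQ.1 hQ.2)]; simp
      · rw [if_neg hQ]; simp) (-108) 0 (f5 i) (by simp)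
  have h2 : be φ (ia i) - be φ (ib i) = fun h : H => ((al (ia i) (φ h : W) -
      al (ib i) (φ h : W) : ℤ) : ℂ) := by
    ext h; simp [be]
  rw [h2]
  refine h1.trans ?_
  push_cast; ring

/-- congruence -/
theorem congr3 [Fintype H] (φ : H ≃* K) {E : G → ℂ} (hE : IsGeneralizedCharacter G E)
    (i : Fin 3) : ∃ n : ℤ, conj (E (es φ i)) + 2 * conj (E (ss φ i)) = 3 * n := by
  have hEc := isGen_classFun hE
  have hg : IsGeneralizedCharacter H (fun h : H => ((ga i (φ h : W) : ℤ) : ℂ)) := by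
    have hs : ∀ j : Fin 3, IsGeneralizedCharacter H (fun h : H => ((sZ ((φ h : W) j) : ℤ) : ℂ)) :=
      fun j => isGen_comp sZ_gen ((Pi.evalMonoidHom (fun _ : Fin 3 => S3) j).comp
        (K.subtype.comp φ.toMonoidHom))
    have := isGen_mul (isGen_add (isGen_one (G := H)) (hs i))
      (isGen_sub (isGen_one (G := H)) (hs (i + 1)))
    convert this using 1
    ext w; simp [ga]
  obtain ⟨n, hn⟩ := classInner_gen_int hg (isGen_restrict H hE)
  have h1 := two_vals (φ := φ) (ga i)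
    (fun w => if (Q i w ∧ w i = 1) then 4 else 0) (fun w => if (Q i w ∧ w i ≠ 1) then 4 else 0)
    (fun h : H => E h) (conj (E (es φ i))) (conj (E (ss φ i))) (by
      intro h
      rw [f6 i _ (sgn_of_mem _)]
      by_cases hQ : Q i (φ h : W)
      · by_cases h1 : (φ h : W) i = 1
        · rw [classFun_isConj hEc (conj_es hQ h1)]; simp [hQ, h1]
        · rw [classFun_isConj hEc (conj_ss hQ h1)]; simp [hQ, h1]
      · simp [hQ]) 36 72 (f6a i) (f6b i)
  refine ⟨n, ?_⟩
  have h2 := hn.symm.trans h1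
  push_cast at h2
  linear_combination 3 * -h2

/-- The conclusion of the first part. -/
structure Chars (φ : H ≃* K) (E L : Fin 3 → G → ℂ) : Prop where
  hE : ∀ i, IsGeneralizedCharacter G (E i) ∧ classInner (E i) (E i) = 1
  hL : ∀ i, IsGeneralizedCharacter G (L i) ∧ classInner (L i) (L i) = 1
  hd : ∀ i g, indFun H (be φ (ia i)) g = - 1 - E i g + L i g
  ha : ∀ i j, classInner (indFun H (be φ (ia i))) (E j) = if i = j then -1 else 0
  hb : ∀ i j, classInner (indFun H (be φ (ib i))) (E j) = if i = j then 0 else -1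

variable {E L : Fin 3 → G → ℂ}

theorem Chars.ss_val (c : Chars φ E L) (i j : Fin 3) :
    E j (ss φ i) = if i = j then 1 else -1 := by
  haveI := Fintype.ofFinite H
  have h1 := val_ss φ (isGen_classFun (c.hE j).1) i
  rw [c.ha, c.hb] at h1
  have h2 : conj (E j (ss φ i)) = if i = j then 1 else -1 := by
    split_ifs at h1 ⊢
    · linear_combination h1
    · linear_combination h1
  have h3 := congrArg conj h2
  rw [Complex.conj_conj] at h3
  rw [h3]
  split_ifs <;> simp

theorem Chars.es_val (c : Chars φ E L) (i j : Fin 3) :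
    ∃ n : ℤ, E j (es φ i) = 3 * n + (if i = j then -2 else 2) := by
  haveI := Fintype.ofFinite H
  obtain ⟨n, hn⟩ := congr3 φ (c.hE j).1 i
  rw [c.ss_val i j] at hn
  refine ⟨n, ?_⟩
  have h3 := congrArg conj hn
  have e2 : conj (2 : ℂ) = 2 := map_ofNat _ 2
  have e3 : conj (3 : ℂ) = 3 := map_ofNat _ 3
  simp only [map_add, map_mul, Complex.conj_conj, e2, e3] at h3
  split_ifs at h3 ⊢
  · simp at h3; linear_combination h3
  · simp at h3; linear_combination h3

/-- no fusion -/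
theorem Chars.no_fusion (c : Chars φ E L) {i j : Fin 3} (h : IsConj (es φ i : G) (es φ j : G)) :
    i = j := by
  by_contra hij
  obtain ⟨n, hn⟩ := c.es_val i i
  obtain ⟨m, hm⟩ := c.es_val j i
  rw [classFun_isConj (isGen_classFun (c.hE i).1) h, hm] at hn
  rw [if_neg (fun h => hij h.symm), if_pos rfl] at hn
  have h1 : (3 : ℤ) * m + 2 = 3 * n + -2 := by exact_mod_cast hn
  omega

theorem es_sq (φ : H ≃* K) (i : Fin 3) : (es φ i) ^ 2 = 1 ∧ es φ i ≠ 1 := by
  constructor
  · apply φ.injective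
    apply Subtype.ext
    rw [map_pow, Subgroup.coe_pow, es, phi_el, (f13 i).1]; simp
  · intro h
    apply (f13 i).2
    have h1 : (φ (es φ i) : W) = 1 := by rw [h]; simp
    rw [← h1, es, phi_el]

/-- the involutions of `H` -/
theorem inv_conj (φ : H ≃* K) {x : H} (hx : x ^ 2 = 1) (hx1 : x ≠ 1) :
    ∃ k, Q k (φ x : W) ∧ (φ x : W) k = 1 ∧ IsConj (x : G) (es φ k : G) := by
  have h1 : (φ x : W) ^ 2 = 1 := by
    rw [← Subgroup.coe_pow, ← map_pow, hx]; simp
  have h2 : (φ x : W) ≠ 1 := by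
    intro h
    apply hx1
    apply φ.injective
    apply Subtype.ext
    rw [h]; simp
  obtain ⟨k, hk1, hk2⟩ := f4 _ (sgn_of_mem _) h1 h2
  exact ⟨k, hk1, hk2, conj_es hk1 hk2⟩

theorem inv_of_conj {u x : G} (hu : u ^ 2 = 1) (hu1 : u ≠ 1) (h : IsConj u x) :
    x ^ 2 = 1 ∧ x ≠ 1 := by
  obtain ⟨g, rfl⟩ := isConj_iff.mp h
  constructor
  · have h5 := map_pow (MulAut.conj g) u 2
    simp only [MulAut.conj_apply] at h5
    rw [← h5, hu]; group
  · intro h1
    apply hu1
    have : u = g⁻¹ * (g * u * g⁻¹) * g := by group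
    rw [this, h1]; group

theorem Chars.Th_zero (S : Setting H T φ) (c : Chars φ E L) (i : Fin 3) (h : H)
    (hb : be φ (ia i) h ≠ 0) : Th (es φ i : G) h = 0 := by
  unfold Th
  rw [conv_ind, Nat.cast_eq_zero, Nat.card_eq_zero]
  left
  refine ⟨fun p => ?_⟩
  obtain ⟨⟨x, y⟩, hx, hy, hxy⟩ := p
  simp only at hxy
  have hA : (h : G) ∈ Aset H := by
    by_contra hh; exact hb (be_supp _ _ hh)
  have he := es_sq φ i
  have he1 : ((es φ i : H) : G) ^ 2 = 1 := by
    have := congrArg Subtype.val he.1; simpa using this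
  have he2 : ((es φ i : H) : G) ≠ 1 := fun h => he.2 (Subtype.ext h)
  obtain ⟨hx1, hx2⟩ := inv_of_conj he1 he2 hx
  obtain ⟨hy1, hy2⟩ := inv_of_conj he1 he2 hy
  have hxi : x⁻¹ = x := by
    rw [inv_eq_iff_mul_eq_one, ← sq]; exact hx1
  have hyi : y⁻¹ = y := by
    rw [inv_eq_iff_mul_eq_one, ← sq]; exact hy1
  -- `x` inverts `h`
  have h1 : x * (h : G) * x⁻¹ = (h : G)⁻¹ := by
    rw [← hxy, mul_inv_rev, hxi, hyi]
    have : x * (x * y) * x = x ^ 2 * (y * x) := by rw [sq]; group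
    rw [this, hx1, one_mul]
  have h2 : x * (h : G) ^ 4 * x⁻¹ = ((h : G) ^ 4)⁻¹ := by
    have h5 := map_pow (MulAut.conj x) (h : G) 4
    simp only [MulAut.conj_apply] at h5
    rw [h5, h1, inv_pow]
  have hxH : x ∈ H := by
    apply S.mem_of_conj (S.pow4 h.2) hA.2
    rw [h2]; exact T.inv_mem (S.pow4 h.2)
  have hyH : y ∈ H := by
    have : y = x⁻¹ * h := by rw [← hxy]; group
    rw [this]; exact H.mul_mem (H.inv_mem hxH) h.2
  obtain ⟨k, hk1, hk2, hk3⟩ := inv_conj φ (x := ⟨x, hxH⟩) (Subtype.ext (by simpa using hx1))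
    (fun h => hx2 (congrArg Subtype.val h))
  obtain ⟨l, hl1, hl2, hl3⟩ := inv_conj φ (x := ⟨y, hyH⟩) (Subtype.ext (by simpa using hy1))
    (fun h => hy2 (congrArg Subtype.val h))
  have e1 : i = k := c.no_fusion (IsConj.trans hx hk3)
  have e2 : i = l := c.no_fusion (IsConj.trans hy hl3)
  rw [← e1] at hk2
  rw [← e2] at hl2
  have h3 : (φ h : W) i = 1 := by
    have : h = ⟨x, hxH⟩ * ⟨y, hyH⟩ := Subtype.ext hxy.symm
    rw [this, map_mul, Subgroup.coe_mul, Pi.mul_apply, hk2, hl2, one_mul]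
  apply hb
  unfold be
  have h4 : al (ia i) (φ h : W) = gZ ((φ h : W) i) := by
    fin_cases i <;> rfl
  rw [h4, h3]
  have : gZ 1 = 0 := by decide
  rw [this]; simp

theorem Chars.es_one (S : Setting H T φ) (c : Chars φ E L) (i : Fin 3) :
    E i (es φ i) = E i 1 := by
  haveI := Fintype.ofFinite H
  have he := es_sq φ i
  have he1 : ((es φ i : H) : G) ^ 2 = 1 := by
    have := congrArg Subtype.val he.1; simpa using this
  refine value_eq (φ := φ) (ia i) (es φ i : G) (by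
    have : ((es φ i : H) : G) ^ 4 = (((es φ i : H) : G) ^ 2) ^ 2 := by rw [← pow_mul]
    rw [this, he1, one_pow]) (c.hE i).1 (c.hE i).2 (c.hL i).1 (c.hL i).2 (c.hd i)
    (fun h hb => c.Th_zero S i h hb)

end Cfsg.Agent.H4.SE
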