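import Cfsg.Agent.H4.SE
import Cfsg.Agent.H23.Coprime4
import Mathlib.GroupTheory.Transfer

/-!
# Strongly embedded subgroup of order 108: conclusion (S3701)
-/

set_option autoImplicit false
set_option linter.unusedSectionVars false
set_option linter.style.haveILetI false

namespace Cfsg.Agent.H4.SF

open Cfsg Cfsg.Agent.H3 Cfsg.Agent.H27 Cfsg.Agent.H4.SA Cfsg.Agent.H4.SB Cfsg.Agent.H4.SD
open Cfsg.Agent.H4.SE
open scoped ComplexConjugate

universe u

variable {G : Type u} [Group G] [Fintype G] {H T : Subgroup G} {φ : H ≃* K}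

/-- kernels of signed characters -/
theorem exists_ker {E : G → ℂ} (hE : IsGeneralizedCharacter G E) (hE1 : classInner E E = 1) :
    ∃ N : Subgroup G, N.Normal ∧ (∀ g, g ∈ N ↔ E g = E 1) ∧ ∀ g ∈ N, ∀ h, E (g * h) = E h := by
  rcases gen_norm_one hE hE1 with h | h
  · refine ⟨charKer (irr_isChar h), charKer_normal _, fun g => Iff.rfl, fun g hg x => ?_⟩
    exact char_ker_mul (irr_isChar h) hg x
  · refine ⟨charKer (irr_isChar h), charKer_normal _, fun g => ?_, fun g hg x => ?_⟩
    · rw [mem_charKer]; simp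
    · have := char_ker_mul (irr_isChar h) hg x
      simpa using this

variable {E L : Fin 3 → G → ℂ}

/-- values on `T` -/
theorem Chars.on_even (S : Setting H T φ) (c : Chars φ E L) (i : Fin 3) (h : H)
    (hev : Ev (φ h : W)) :
    ((φ h : W) i = 1 → E i h = E i 1) ∧ ((φ h : W) i ≠ 1 → E i h = 1) := by
  obtain ⟨N, hN, hmem, hmul⟩ := exists_ker (c.hE i).1 (c.hE i).2
  have hes : (es φ i : G) ∈ N := (hmem _).2 (c.es_one S i)
  constructor
  · intro h1
    rw [← hmem]
    have h2 := f9 i _ hev h1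
    have h3 : h = es φ i * h * (es φ i)⁻¹ * h⁻¹ := by
      apply φ.injective
      apply Subtype.ext
      rw [map_mul, map_mul, map_mul, map_inv, map_inv, Subgroup.coe_mul, Subgroup.coe_mul,
        Subgroup.coe_mul, Subgroup.coe_inv, Subgroup.coe_inv, es, phi_el]
      exact h2
    have h4 : (h : G) = (es φ i : G) * ((h : G) * (es φ i : G)⁻¹ * (h : G)⁻¹) := by
      have := congrArg Subtype.val h3
      simp only [Subgroup.coe_mul, Subgroup.coe_inv] at this
      rw [← mul_assoc, ← mul_assoc]; exact this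
    rw [h4]
    exact N.mul_mem hes (hN.conj_mem _ (N.inv_mem hes) _)
  · intro h1
    obtain ⟨h2, h3, h4⟩ := f10 i _ hev h1
    have h5 : (φ (h * es φ i) : W) = (φ h : W) * re i := by
      rw [map_mul, Subgroup.coe_mul, es, phi_el]
    have h6 : IsConj ((h * es φ i : H) : G) (ss φ i : G) := by
      apply conj_ss
      · rw [h5]; exact h2
      · rw [h5]; exact h3
    have hcl := isGen_classFun (c.hE i).1
    have h7 := classFun_isConj hcl h6
    rw [c.ss_val i i, if_pos rfl, Subgroup.coe_mul, classFun_mul_comm hcl, hmul _ hes] at h7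
    exact h7

theorem Chars.one_val (S : Setting H T φ) (c : Chars φ E L) (i : Fin 3) : E i 1 = 1 := by
  haveI := Fintype.ofFinite H
  obtain ⟨j, hj⟩ : ∃ j : Fin 3, i ≠ j := by revert i; decide
  have hcl := isGen_classFun (c.hE i).1
  have ha := c.ha j i
  have hb := c.hb j i
  rw [if_neg (fun h => hj h.symm)] at ha hb
  rw [frobenius_reciprocity H _ hcl] at ha hb
  have h1 := two_vals (φ := φ) (fun w => al (ia j) w + al (ib j) w)
    (fun w => if (Ev w ∧ w j ≠ 1 ∧ w i = 1) then -6 else 0)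
    (fun w => if (Ev w ∧ w j ≠ 1 ∧ w i ≠ 1) then -6 else 0) (fun h : H => E i h)
    (conj (E i 1)) 1 (by
      intro h
      rw [f7 j _ (sgn_of_mem _)]
      by_cases hev : Ev (φ h : W)
      · have h2 := Chars.on_even S c i h hev
        by_cases hji : (φ h : W) j = 1
        · simp [hji]
        · by_cases hi : (φ h : W) i = 1
          · rw [h2.1 hi]; simp [hev, hji, hi]
          · rw [h2.2 hi]; simp [hev, hji, hi]
      · simp [hev]) (-36) (-72) (f8a i j hj) (f8b i j hj)
  have h2 : (fun h : H => ((al (ia j) (φ h : W) + al (ib j) (φ h : W) : ℤ) : ℂ)) =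
      be φ (ia j) + be φ (ib j) := by
    ext h; simp [be]
  have h3 : classInner (be φ (ia j) + be φ (ib j)) (fun h : H => E i h) =
      (108 : ℂ)⁻¹ * (((-36 : ℤ) : ℂ) * conj (E i 1) + ((-72 : ℤ) : ℂ) * 1) := by
    rw [← h2]; exact h1
  rw [classInner_add_left, ha, hb] at h3
  push_cast at h3
  have h4 : conj (E i 1) = 1 := by linear_combination (3 : ℂ) * h3
  have h5 := congrArg conj h4
  rw [Complex.conj_conj] at h5
  rw [h5]; simp

theorem Chars.lin (S : Setting H T φ) (c : Chars φ E L) (i : Fin 3) :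
    ∃ μ : G →* ℂˣ, E i = fun g => ((μ g : ℂˣ) : ℂ) := by
  have h1 := Chars.one_val S c i
  rcases gen_norm_one (c.hE i).1 (c.hE i).2 with h | h
  · exact exists_hom_of_char_one (irr_isChar h) h1
  · exfalso
    obtain ⟨n, hn, h2⟩ := irr_one_eq_nat h
    rw [Pi.neg_apply, h1] at h2
    have h3 : (-1 : ℤ) = n := by exact_mod_cast h2
    omega

theorem Chars.on_T (S : Setting H T φ) (c : Chars φ E L) (i : Fin 3) {t : G} (ht : t ∈ T) :
    E i t = 1 := by
  have h1 := (S.mem_iff ⟨t, S.hTH ht⟩).1 ht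
  have h2 := Chars.on_even S c i ⟨t, S.hTH ht⟩ h1
  by_cases h : (φ ⟨t, S.hTH ht⟩ : W) i = 1
  · rw [← Chars.one_val S c i]; exact h2.1 h
  · exact h2.2 h

theorem Chars.on_Q (S : Setting H T φ) (c : Chars φ E L) {j k : Fin 3} (hjk : k ≠ j) (h : H)
    (hQ : Q k (φ h : W)) : E j h = -1 := by
  obtain ⟨μ, hμ⟩ := Chars.lin S c j
  have h1 : ((h⁻¹ * ss φ k : H) : G) ∈ T := by
    rw [S.mem_iff]
    rw [map_mul, map_inv, Subgroup.coe_mul, Subgroup.coe_inv, ss, phi_el]
    exact f12 k _ (sgn_of_mem _) hQ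
  have h2 := Chars.on_T S c j h1
  have h3 : E j (ss φ k) = -1 := by rw [c.ss_val, if_neg hjk]
  rw [hμ] at h2 h3 ⊢
  simp only at h2 h3 ⊢
  have h4 : (ss φ k : G) = (h : G) * ((h⁻¹ * ss φ k : H) : G) := by
    simp
  rw [h4, map_mul, Units.val_mul, h2, mul_one] at h3
  exact h3

/-- the normal subgroup -/
theorem Chars.exists_normal (S : Setting H T φ) (c : Chars φ E L) :
    ∃ N : Subgroup G, N.Normal ∧ T ≤ N ∧ N ⊓ H = T := by
  obtain ⟨μ0, h0⟩ := Chars.lin S c 0
  obtain ⟨μ1, h1⟩ := Chars.lin S c 1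
  have hT : T ≤ μ0.ker ⊓ μ1.ker := by
    intro t ht
    have e0 := Chars.on_T S c 0 ht
    have e1 := Chars.on_T S c 1 ht
    rw [h0] at e0
    rw [h1] at e1
    refine ⟨?_, ?_⟩
    · exact (MonoidHom.mem_ker (f := μ0)).2 (Units.ext e0)
    · exact (MonoidHom.mem_ker (f := μ1)).2 (Units.ext e1)
  refine ⟨μ0.ker ⊓ μ1.ker, inferInstance, hT, ?_⟩
  apply le_antisymm
  · rintro x ⟨⟨hx0, hx1⟩, hxH⟩
    by_contra hxT
    have h2 : ¬ Ev (φ ⟨x, hxH⟩ : W) := fun h => hxT ((S.mem_iff ⟨x, hxH⟩).2 h)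
    obtain ⟨k, hk⟩ := f11 _ (sgn_of_mem _) h2
    have e0 : E 0 x = 1 := by
      rw [h0]
      have : μ0 x = 1 := hx0
      simp only [this]; simp
    have e1 : E 1 x = 1 := by
      rw [h1]
      have : μ1 x = 1 := hx1
      simp only [this]; simp
    by_cases hk0 : k = 0
    · have := Chars.on_Q S c (j := 1) (by rw [hk0]; decide) ⟨x, hxH⟩ hk
      simp only at this
      rw [e1] at this
      norm_num at this
    · have := Chars.on_Q S c (j := 0) hk0 ⟨x, hxH⟩ hk
      simp only at this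
      rw [e0] at this
      norm_num at this
  · exact le_inf hT S.hTH

theorem even_pow3 : ∀ w : W, Ev w → w ^ 3 = 1 := by decide +kernel

theorem Setting.pow3 (S : Setting H T φ) {t : G} (ht : t ∈ T) : t ^ 3 = 1 := by
  have h1 := (S.mem_iff ⟨t, S.hTH ht⟩).1 ht
  have h2 := even_pow3 _ h1
  have h3 : (⟨t, S.hTH ht⟩ : H) ^ 3 = 1 := by
    apply φ.injective
    apply Subtype.ext
    rw [map_pow, Subgroup.coe_pow, h2]; simp
  have := congrArg Subtype.val h3
  simpa using this

theorem Setting.not_cyclic (S : Setting H T φ) : ¬ IsCyclic T := by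
  intro h
  obtain ⟨g, hg⟩ := IsCyclic.exists_ofOrder_eq_natCard (α := T)
  rw [S.hT] at hg
  have h1 : g ^ 3 = 1 := by
    apply Subtype.ext
    have := Setting.pow3 S g.2
    simpa using this
  have h2 := orderOf_dvd_of_pow_eq_one h1
  rw [hg] at h2
  omega

/-- the group theoretic end -/
theorem Setting.eq_of_normal (S : Setting H T φ) {N : Subgroup G} (hN : N.Normal) (hTN : T ≤ N)
    (hNH : N ⊓ H = T) : N = T := by
  classical
  haveI : Fact (Nat.Prime 3) := ⟨Nat.prime_three⟩
  have hnorm : Subgroup.normalizer ((T.subgroupOf N : Subgroup N) : Set N) = T.subgroupOf N := by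
    apply le_antisymm
    · intro x hx
      rw [Subgroup.mem_subgroupOf]
      have h1 : (x : G) ∈ H := by
        rw [← S.hN]
        apply Subgroup.mem_normalizer_fintype
        intro t ht
        have := (Subgroup.mem_normalizer_iff.mp hx ⟨t, hTN ht⟩).1 (by
          rw [Subgroup.mem_subgroupOf]; exact ht)
        rw [Subgroup.mem_subgroupOf] at this
        simpa using this
      have h2 : (x : G) ∈ N ⊓ H := ⟨x.2, h1⟩
      rw [hNH] at h2; exact h2
    · exact Subgroup.le_normalizer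
  have hcT : Nat.card (T.subgroupOf N) = 3 ^ 3 := by
    rw [Nat.card_congr (Subgroup.subgroupOfEquivOfLe hTN).toEquiv, S.hT]; rfl
  have hnd : ¬ 3 ^ 4 ∣ Nat.card N := by
    intro hd
    have h1 := Sylow.prime_dvd_card_quotient_normalizer (p := 3) (n := 3) hd hcT
    have h2 : Nat.card (Subgroup.normalizer ((T.subgroupOf N : Subgroup N) : Set N) ⧸
        (T.subgroupOf N).subgroupOf (Subgroup.normalizer ((T.subgroupOf N : Subgroup N) : Set N)))
        = 1 := by
      rw [← Subgroup.index, ← Subgroup.relIndex, hnorm, Subgroup.relIndex_self]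
    have h3 : (3 : ℕ) ∣ 1 := by rw [← h2]; exact h1
    omega
  have hdv : 3 ^ 3 ∣ Nat.card N := by
    rw [← hcT]; exact Subgroup.card_subgroup_dvd_card _
  have hfac : (Nat.card N).factorization 3 = 3 := by
    have hne : Nat.card N ≠ 0 := Nat.card_pos.ne'
    apply le_antisymm
    · by_contra hlt
      push Not at hlt
      exact hnd ((Nat.Prime.pow_dvd_iff_le_factorization Nat.prime_three hne).2 hlt)
    · exact (Nat.Prime.pow_dvd_iff_le_factorization Nat.prime_three hne).1 hdv
  let P : Sylow 3 N := Sylow.ofCard (T.subgroupOf N) (by rw [hcT, hfac])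
  have hP : Subgroup.normalizer ((P : Subgroup N) : Set N) ≤
      Subgroup.centralizer ((P : Subgroup N) : Set N) := by
    change Subgroup.normalizer ((T.subgroupOf N : Subgroup N) : Set N) ≤
      Subgroup.centralizer ((T.subgroupOf N : Subgroup N) : Set N)
    rw [hnorm]
    intro x hx
    rw [Subgroup.mem_centralizer_iff]
    intro y hy
    apply Subtype.ext
    exact S.comm (Subgroup.mem_subgroupOf.mp hy) (Subgroup.mem_subgroupOf.mp hx)
  have hcomp := MonoidHom.ker_transferSylow_isComplement' P hP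
  have hnd3 := MonoidHom.not_dvd_card_ker_transferSylow P hP
  obtain ⟨M, hM⟩ : ∃ M, M = (MonoidHom.transferSylow P hP).ker := ⟨_, rfl⟩
  rw [← hM] at hcomp hnd3
  haveI hMn : M.Normal := by rw [hM]; infer_instance
  have hcardM : Nat.card (M.map N.subtype) = Nat.card M :=
    Nat.card_congr (Subgroup.equivMapOfInjective M N.subtype N.subtype_injective).symm.toEquiv
  have hcop : (Nat.card T).Coprime (Nat.card (M.map N.subtype)) := by
    rw [S.hT, hcardM]
    have : (3 : ℕ).Coprime (Nat.card M) := (Nat.Prime.coprime_iff_not_dvd Nat.prime_three).2 hnd3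
    exact Nat.Coprime.pow_left 3 this
  have hTM : T ≤ Subgroup.normalizer ((M.map N.subtype : Subgroup G) : Set G) := by
    intro t ht
    apply Subgroup.mem_normalizer_fintype
    rintro _ ⟨m, hm, rfl⟩
    exact ⟨⟨t, hTN ht⟩ * m * ⟨t, hTN ht⟩⁻¹, hMn.conj_mem m hm _, by simp⟩
  have hTc : IsMulCommutative T := ⟨⟨fun a b => Subtype.ext (S.comm a.2 b.2)⟩⟩
  have hgen := Cfsg.Agent.H23.iSup_centralizer_of_not_isCyclic hTc (Setting.not_cyclic S) hTM hcop
  have hinf : M.map N.subtype ⊓ T = ⊥ :=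
    (Subgroup.disjoint_of_coprime_natCard hcop.symm).eq_bot
  have hbot : M.map N.subtype = ⊥ := by
    rw [← hgen]
    rw [iSup_eq_bot]
    rintro ⟨a, ha, ha1⟩
    rw [eq_bot_iff]
    rintro x ⟨hx1, hx2⟩
    have h1 : x ∈ H := S.hC a ha ha1 hx2
    have h2 : x ∈ N := by
      obtain ⟨m, _, rfl⟩ := hx1; exact m.2
    have h3 : x ∈ T := by rw [← hNH]; exact ⟨h2, h1⟩
    have h4 : x ∈ M.map N.subtype ⊓ T := ⟨hx1, h3⟩
    rw [hinf] at h4; exact h4
  have hM1 : Nat.card M = 1 := by
    rw [← hcardM, hbot]; simp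
  have hNcard : Nat.card N = 27 := by
    have h1 := hcomp.card_mul_card
    rw [hM1, one_mul] at h1
    rw [← h1]
    exact hcT
  exact (Subgroup.eq_of_le_of_card_ge hTN (by rw [hNcard, S.hT])).symm

theorem Setting.top (S : Setting H T φ) : H = ⊤ := by
  obtain ⟨E, L, h1, h2, h3, h4, h5⟩ := S.main1
  have c : Chars φ E L := ⟨h1, h2, h3, h4, h5⟩
  obtain ⟨N, hN, hTN, hNH⟩ := Chars.exists_normal S c
  have h6 := Setting.eq_of_normal S hN hTN hNH
  rw [← S.hN]
  haveI : T.Normal := by rw [← h6]; exact hN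
  exact Subgroup.normalizer_eq_top_iff.mpr inferInstance

end Cfsg.Agent.H4.SF
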